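import Cfsg.Agent.Lib.JFourOrder.TValLib

/-!
# Kernel checks of the values of representative 0
-/

set_option autoImplicit false
set_option Elab.async false
set_option maxRecDepth 100000
set_option maxHeartbeats 4000000

namespace CfsgLib.JFourOrder

theorem tMvF0_ok : mvTF 0 = true := by decide +kernel

theorem tMv0_ok : mvT 0 = true := mvT_of_fast smallBits_ok tMvF0_ok

theorem tStepF00 : stepTF 0 0 false = true := by decide +kernel

theorem tStep00 : stepT 0 0 false = true :=
  stepT_of_fast (tRepD_all (by norm_num)) tMv0_ok (tKey_canon (by norm_num)) tStepF00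

theorem tStepF01 : stepTF 0 1 false = true := by decide +kernel

theorem tStep01 : stepT 0 1 false = true :=
  stepT_of_fast (tRepD_all (by norm_num)) tMv0_ok (tKey_canon (by norm_num)) tStepF01

theorem tStepF02 : stepTF 0 2 false = true := by decide +kernel

theorem tStep02 : stepT 0 2 false = true :=
  stepT_of_fast (tRepD_all (by norm_num)) tMv0_ok (tKey_canon (by norm_num)) tStepF02

theorem tStepF02b : stepTF 0 2 true = true := by decide +kernel

theorem tStep02b : stepT 0 2 true = true :=
  stepT_of_fast (tRepD_all (by norm_num)) tMv0_ok (tKey_canon (by norm_num)) tStepF02b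

theorem tTotF0 : totTF 0 false = 2688 ∧ totTF 0 true = 2688 := by decide +kernel

theorem tTot0 : totT 0 false = 2688 ∧ totT 0 true = 2688 :=
  ⟨(totTF_eq (by norm_num) false).symm.trans tTotF0.1, (totTF_eq (by norm_num) true).symm.trans tTotF0.2⟩

end CfsgLib.JFourOrder
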