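import Cfsg.Agent.Lib.JFourOrder.TValLib

/-!
# Kernel checks of the values of representative 1
-/

set_option autoImplicit false
set_option Elab.async false
set_option maxRecDepth 100000
set_option maxHeartbeats 4000000

namespace CfsgLib.JFourOrder

theorem tMvF1_ok : mvTF 1 = true := by decide +kernel

theorem tMv1_ok : mvT 1 = true := mvT_of_fast smallBits_ok tMvF1_ok

theorem tStepF10 : stepTF 1 0 false = true := by decide +kernel

theorem tStep10 : stepT 1 0 false = true :=
  stepT_of_fast (tRepD_all (by norm_num)) tMv1_ok (tKey_canon (by norm_num)) tStepF10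

theorem tStepF11 : stepTF 1 1 false = true := by decide +kernel

theorem tStep11 : stepT 1 1 false = true :=
  stepT_of_fast (tRepD_all (by norm_num)) tMv1_ok (tKey_canon (by norm_num)) tStepF11

theorem tStepF12 : stepTF 1 2 false = true := by decide +kernel

theorem tStep12 : stepT 1 2 false = true :=
  stepT_of_fast (tRepD_all (by norm_num)) tMv1_ok (tKey_canon (by norm_num)) tStepF12

theorem tStepF12b : stepTF 1 2 true = true := by decide +kernel

theorem tStep12b : stepT 1 2 true = true :=
  stepT_of_fast (tRepD_all (by norm_num)) tMv1_ok (tKey_canon (by norm_num)) tStepF12b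

theorem tTotF1 : totTF 1 false = 1 ∧ totTF 1 true = 1 := by decide +kernel

theorem tTot1 : totT 1 false = 1 ∧ totT 1 true = 1 :=
  ⟨(totTF_eq (by norm_num) false).symm.trans tTotF1.1, (totTF_eq (by norm_num) true).symm.trans tTotF1.2⟩

end CfsgLib.JFourOrder
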