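import Cfsg.Agent.Lib.JFourOrder.TValLib

/-!
# Kernel checks of the values of representative 2
-/

set_option autoImplicit false
set_option Elab.async false
set_option maxRecDepth 100000
set_option maxHeartbeats 4000000

namespace CfsgLib.JFourOrder

theorem tMvF2_ok : mvTF 2 = true := by decide +kernel

theorem tMv2_ok : mvT 2 = true := mvT_of_fast smallBits_ok tMvF2_ok

theorem tStepF20 : stepTF 2 0 false = true := by decide +kernel

theorem tStep20 : stepT 2 0 false = true :=
  stepT_of_fast (tRepD_all (by norm_num)) tMv2_ok (tKey_canon (by norm_num)) tStepF20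

theorem tStepF21 : stepTF 2 1 false = true := by decide +kernel

theorem tStep21 : stepT 2 1 false = true :=
  stepT_of_fast (tRepD_all (by norm_num)) tMv2_ok (tKey_canon (by norm_num)) tStepF21

theorem tStepF22 : stepTF 2 2 false = true := by decide +kernel

theorem tStep22 : stepT 2 2 false = true :=
  stepT_of_fast (tRepD_all (by norm_num)) tMv2_ok (tKey_canon (by norm_num)) tStepF22

theorem tStepF22b : stepTF 2 2 true = true := by decide +kernel

theorem tStep22b : stepT 2 2 true = true :=
  stepT_of_fast (tRepD_all (by norm_num)) tMv2_ok (tKey_canon (by norm_num)) tStepF22b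

theorem tTotF2 : totTF 2 false = 7681 ∧ totTF 2 true = 7681 := by decide +kernel

theorem tTot2 : totT 2 false = 7681 ∧ totT 2 true = 7681 :=
  ⟨(totTF_eq (by norm_num) false).symm.trans tTotF2.1, (totTF_eq (by norm_num) true).symm.trans tTotF2.2⟩

end CfsgLib.JFourOrder
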