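import Cfsg.Agent.Lib.JFourOrder.TValLib

/-!
# Kernel checks of the values of representative 3
-/

set_option autoImplicit false
set_option Elab.async false
set_option maxRecDepth 100000
set_option maxHeartbeats 4000000

namespace CfsgLib.JFourOrder

theorem tMvF3_ok : mvTF 3 = true := by decide +kernel

theorem tMv3_ok : mvT 3 = true := mvT_of_fast smallBits_ok tMvF3_ok

theorem tStepF30 : stepTF 3 0 false = true := by decide +kernel

theorem tStep30 : stepT 3 0 false = true :=
  stepT_of_fast (tRepD_all (by norm_num)) tMv3_ok (tKey_canon (by norm_num)) tStepF30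

theorem tStepF31 : stepTF 3 1 false = true := by decide +kernel

theorem tStep31 : stepT 3 1 false = true :=
  stepT_of_fast (tRepD_all (by norm_num)) tMv3_ok (tKey_canon (by norm_num)) tStepF31

theorem tStepF32 : stepTF 3 2 false = true := by decide +kernel

theorem tStep32 : stepT 3 2 false = true :=
  stepT_of_fast (tRepD_all (by norm_num)) tMv3_ok (tKey_canon (by norm_num)) tStepF32

theorem tStepF32b : stepTF 3 2 true = true := by decide +kernel

theorem tStep32b : stepT 3 2 true = true :=
  stepT_of_fast (tRepD_all (by norm_num)) tMv3_ok (tKey_canon (by norm_num)) tStepF32b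

theorem tTotF3 : totTF 3 false = 44368 ∧ totTF 3 true = 44368 := by decide +kernel

theorem tTot3 : totT 3 false = 44368 ∧ totT 3 true = 44368 :=
  ⟨(totTF_eq (by norm_num) false).symm.trans tTotF3.1, (totTF_eq (by norm_num) true).symm.trans tTotF3.2⟩

end CfsgLib.JFourOrder
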