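import Cfsg.Agent.Lib.JFourOrder.TValLib

/-!
# Kernel checks of the values of representative 4
-/

set_option autoImplicit false
set_option Elab.async false
set_option maxRecDepth 100000
set_option maxHeartbeats 4000000

namespace CfsgLib.JFourOrder

theorem tMvF4_ok : mvTF 4 = true := by decide +kernel

theorem tMv4_ok : mvT 4 = true := mvT_of_fast smallBits_ok tMvF4_ok

theorem tStepF40 : stepTF 4 0 false = true := by decide +kernel

theorem tStep40 : stepT 4 0 false = true :=
  stepT_of_fast (tRepD_all (by norm_num)) tMv4_ok (tKey_canon (by norm_num)) tStepF40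

theorem tStepF41 : stepTF 4 1 false = true := by decide +kernel

theorem tStep41 : stepT 4 1 false = true :=
  stepT_of_fast (tRepD_all (by norm_num)) tMv4_ok (tKey_canon (by norm_num)) tStepF41

theorem tStepF42 : stepTF 4 2 false = true := by decide +kernel

theorem tStep42 : stepT 4 2 false = true :=
  stepT_of_fast (tRepD_all (by norm_num)) tMv4_ok (tKey_canon (by norm_num)) tStepF42

theorem tStepF42b : stepTF 4 2 true = true := by decide +kernel

theorem tStep42b : stepT 4 2 true = true :=
  stepT_of_fast (tRepD_all (by norm_num)) tMv4_ok (tKey_canon (by norm_num)) tStepF42b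

theorem tTotF4 : totTF 4 false = 26241 ∧ totTF 4 true = 0 := by decide +kernel

theorem tTot4 : totT 4 false = 26241 ∧ totT 4 true = 0 :=
  ⟨(totTF_eq (by norm_num) false).symm.trans tTotF4.1, (totTF_eq (by norm_num) true).symm.trans tTotF4.2⟩

end CfsgLib.JFourOrder
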