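import Cfsg.Agent.Lib.JFourOrder.TValLib

/-!
# Kernel checks of the values of representative 5
-/

set_option autoImplicit false
set_option Elab.async false
set_option maxRecDepth 100000
set_option maxHeartbeats 4000000

namespace CfsgLib.JFourOrder

theorem tMvF5_ok : mvTF 5 = true := by decide +kernel

theorem tMv5_ok : mvT 5 = true := mvT_of_fast smallBits_ok tMvF5_ok

theorem tStepF50 : stepTF 5 0 false = true := by decide +kernel

theorem tStep50 : stepT 5 0 false = true :=
  stepT_of_fast (tRepD_all (by norm_num)) tMv5_ok (tKey_canon (by norm_num)) tStepF50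

theorem tStepF51 : stepTF 5 1 false = true := by decide +kernel

theorem tStep51 : stepT 5 1 false = true :=
  stepT_of_fast (tRepD_all (by norm_num)) tMv5_ok (tKey_canon (by norm_num)) tStepF51

theorem tStepF52 : stepTF 5 2 false = true := by decide +kernel

theorem tStep52 : stepT 5 2 false = true :=
  stepT_of_fast (tRepD_all (by norm_num)) tMv5_ok (tKey_canon (by norm_num)) tStepF52

theorem tStepF52b : stepTF 5 2 true = true := by decide +kernel

theorem tStep52b : stepT 5 2 true = true :=
  stepT_of_fast (tRepD_all (by norm_num)) tMv5_ok (tKey_canon (by norm_num)) tStepF52b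

theorem tTotF5 : totTF 5 false = 0 ∧ totTF 5 true = 26241 := by decide +kernel

theorem tTot5 : totT 5 false = 0 ∧ totT 5 true = 26241 :=
  ⟨(totTF_eq (by norm_num) false).symm.trans tTotF5.1, (totTF_eq (by norm_num) true).symm.trans tTotF5.2⟩

end CfsgLib.JFourOrder
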