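import Cfsg.Agent.Lib.JFourOrder.TFib
import Cfsg.Agent.Lib.JFourOrder.TValChecks0
import Cfsg.Agent.Lib.JFourOrder.TValChecks1
import Cfsg.Agent.Lib.JFourOrder.TValChecks2
import Cfsg.Agent.Lib.JFourOrder.TValChecks3
import Cfsg.Agent.Lib.JFourOrder.TValChecks4
import Cfsg.Agent.Lib.JFourOrder.TValChecks5

/-!
# The pairs over an involution of the second class
-/

set_option autoImplicit false
set_option maxRecDepth 100000
set_option linter.style.haveILetI false
set_option linter.unusedSectionVars false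

open Cfsg

namespace CfsgLib.JFourOrder

open CfsgLib.JFour

theorem tables_ok {u : ℕ} (hu : u < 6) (e : Bool) :
    mvT u = true ∧ stepT u 0 e = true ∧ stepT u 1 e = true ∧ stepT u 2 e = true := by
  interval_cases u <;> cases e
  exacts [⟨tMv0_ok, tStep00, tStep01, tStep02⟩, ⟨tMv0_ok, tStep00, tStep01, tStep02b⟩,
    ⟨tMv1_ok, tStep10, tStep11, tStep12⟩, ⟨tMv1_ok, tStep10, tStep11, tStep12b⟩,
    ⟨tMv2_ok, tStep20, tStep21, tStep22⟩, ⟨tMv2_ok, tStep20, tStep21, tStep22b⟩,
    ⟨tMv3_ok, tStep30, tStep31, tStep32⟩, ⟨tMv3_ok, tStep30, tStep31, tStep32b⟩,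
    ⟨tMv4_ok, tStep40, tStep41, tStep42⟩, ⟨tMv4_ok, tStep40, tStep41, tStep42b⟩,
    ⟨tMv5_ok, tStep50, tStep51, tStep52⟩, ⟨tMv5_ok, tStep50, tStep51, tStep52b⟩]

theorem tot_lt {u : ℕ} (hu : u < 6) (e : Bool) : totT u e < 2 ^ 30 := by
  interval_cases u <;> cases e <;>
    simp only [tTot0.1, tTot0.2, tTot1.1, tTot1.2, tTot2.1, tTot2.2, tTot3.1, tTot3.2, tTot4.1, tTot4.2,
      tTot5.1, tTot5.2] <;> norm_num

namespace Comp

variable {G : Type*} [Group G] [Fintype G] {M : Type*} [Group M] [Finite M] {z π : G} {E : Subgroup G}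
variable {J : Ctx M z π E} {g : ℕ → M} {vec : ℕ → G} {V : Subgroup G}
variable {D : J.Std g vec V} {K : Subgroup G} (hK : Comp D K)
include hK

theorem second_total {u : ℕ} (hu : u < 6) (hau : (uT u).1 < 2048) {ku : ↥(Kt J g vec K)}
    (hku : hK.repT.ρ ku = (uT u).2) :
    (secondSet (tEl J g vec) (tEl J g vec) (ev J g vec (uT u).1 * ((ku : ↥K) : G))).card = totT u hK.eps := by
  classical
  obtain ⟨hmv, h0, h1, h2⟩ := tables_ok hu hK.eps
  rw [card_by_key hK.key tKey hK.tKey_injective _ _ _ fun v hv => ?_]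
  swap
  · rw [mem_secondSet] at hv
    obtain ⟨a, -, k, -, hkk, -, hkey⟩ := hK.invol_code hv.2.1 (sq_of_conj (D.isV.sq _ (D.ev_mem 4)) hv.1)
    obtain ⟨i, hi⟩ := hK.invol_key hkk
    exact ⟨i, hkey.trans hi⟩
  rw [Fintype.sum_option, Fintype.sum_sigma, Fin.sum_univ_three]
  have hv : ∀ (c : Fin 3), (∑ i : Fin (tN c.1), fib hK.key (tEl J g vec) (tEl J g vec)
      (ev J g vec (uT u).1 * ((ku : ↥K) : G)) (tKey (some ⟨c, i⟩))) =
      sumL (valI (tVl u c.1 hK.eps)) (List.range (tN c.1)) := by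
    intro c
    rw [sumL_range, ← Fin.sum_univ_eq_sum_range]
    refine Finset.sum_congr rfl fun i _ => hK.fib_entry c.2 hau hku hmv ?_ i.1 i.2
    fin_cases c <;> assumption
  rw [hv 0, hv 1, hv 2]
  have hid : hK.repT.ρ 1 = id11 := by rw [hK.repT.one, idn_eleven]
  have hsum : totT u hK.eps = valT (uT u).1 (uT u).2 tMask id11 +
      (sumL (valI (tVl u 0 hK.eps)) (List.range (tN 0)) + (sumL (valI (tVl u 1 hK.eps)) (List.range (tN 1)) +
        (sumL (valI (tVl u 2 hK.eps)) (List.range (tN 2)) + 0))) := rfl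
  have hne : valT (uT u).1 (hK.repT.ρ ku) tMask (hK.repT.ρ 1) ≠ 2 ^ 30 := by
    rw [hid, hku]
    have := tot_lt hu hK.eps
    omega
  rw [hsum, show tKey none = hK.repT.ρ 1 from hid.symm,
    hK.fib_eq hau (1 : ↥(Kt J g vec K)) (L := tMask) (List.Nodup.filter _ List.nodup_range)
      (fun a ha => List.mem_range.1 (List.mem_filter.1 ha).1)
      (fun a ha => by rw [hid]; exact hK.mem_tMask ha) (one_mul 1) hne, hid, hku]
  simp only [Fin.val_zero, Fin.val_one, Fin.val_two, Nat.add_zero, Nat.add_assoc]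

theorem orbit_const (f : G → ℕ) (hf : ∀ d u, d * tEl J g vec = tEl J g vec * d → f (d * u * d⁻¹) = f u)
    {a0 n : ℕ} {ch aux : List ℕ} (h : vOrbOK a0 n ch aux = true) (hlt : ∀ i < n, tab ch 24 i < 2048) :
    ∀ i < n, f (ev J g vec (tab ch 24 i)) = f (ev J g vec a0) := by
  suffices H : ∀ k i, i < n → dpI aux i ≤ k → f (ev J g vec (tab ch 24 i)) = f (ev J g vec a0) from
    fun i hi => H _ i hi le_rfl
  intro k
  induction k with
  | zero =>
    intro i hi hd
    have h' := List.all_eq_true.1 h i (List.mem_range.2 hi)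
    rw [Nat.le_zero.1 hd, Nat.beq_refl, cond_true, Bool.and_eq_true, Nat.beq_eq] at h'
    rw [h'.1]
  | succ k ih =>
    intro i hi hd
    have h' := List.all_eq_true.1 h i (List.mem_range.2 hi)
    cases hb : Nat.beq (dpI aux i) 0
    · rw [hb, cond_false] at h'
      simp only [Bool.and_eq_true, Nat.blt_eq, Nat.beq_eq] at h'
      obtain ⟨⟨⟨⟨hp, hdp⟩, hm⟩, he⟩, -⟩ := h'
      obtain ⟨x, hx, -⟩ := hK.gensT (gT.getD (mvI aux i) ([], []))
        (by rw [List.getD_eq_getElem _ _ hm]; exact List.getElem_mem hm)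
      rw [← ih _ hp (by omega), ← he, ← hx]
      have hxc : ((x : ↥K) : G) * tEl J g vec = tEl J g vec * ((x : ↥K) : G) :=
        Subgroup.mem_centralizer_singleton_iff.1 (Subgroup.mem_subgroupOf.1 x.2)
      rw [← hf _ (ev J g vec (tab ch 24 (parI aux i))) hxc, (hK.mat_spec (x : ↥K)).2 _ (hlt _ hp)]
      rfl
    · rw [hb, cond_true, Bool.and_eq_true, Nat.beq_eq] at h'
      rw [h'.1]

/-- The pairs over the second involution. -/
theorem pairs_t : (J2Order.pairsAt z (tEl J g vec) (tEl J g vec)).card = 1544188503 := by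
  classical
  have htt : tEl J g vec * tEl J g vec = 1 := D.isV.sq _ (D.ev_mem 4)
  rw [card_pairsAt J.zz htt htt]
  set F : G → ℕ := fun u => (secondSet (tEl J g vec) (tEl J g vec) u).card with hF
  have hFd : ∀ d u, d * tEl J g vec = tEl J g vec * d → F (d * u * d⁻¹) = F u :=
    fun d u hd => card_secondSet_conj hd
  set U := firstSet z (tEl J g vec) with hU
  rw [sum_by_key hK.key tKey hK.tKey_injective U (f := F) fun v hv => ?_]
  swap
  · rw [hU, mem_firstSet] at hv
    obtain ⟨a, -, k, -, hkk, -, hkey⟩ := hK.invol_code hv.2 (sq_of_conj J.zz hv.1)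
    obtain ⟨i, hi⟩ := hK.invol_key hkk
    exact ⟨i, hkey.trans hi⟩
  have hid : hK.repT.ρ 1 = id11 := by rw [hK.repT.one, idn_eleven]
  have hmem : ∀ {v : G} (r : ↥(Kt J g vec K)), v ∈ U.filter (fun v => hK.key v = hK.repT.ρ r) ↔
      ∃ a < 2048, v = ev J g vec a * ((r : ↥K) : G) ∧ IsConj z v := by
    intro v r
    rw [Finset.mem_filter, hU, mem_firstSet]
    constructor
    · rintro ⟨⟨hz, hc⟩, hkey⟩
      obtain ⟨a, ha, k, rfl, -, -, hk⟩ := hK.invol_code hc (sq_of_conj J.zz hz)
      obtain rfl := hK.repT.inj (hk.symm.trans hkey)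
      exact ⟨a, ha, rfl, hz⟩
    · rintro ⟨a, ha, rfl, hz⟩
      exact ⟨⟨hz, hK.code_comm r.2⟩, hK.key_code ha r⟩
  -- the elementary subgroup
  have hV : ∑ v ∈ U.filter (fun v => hK.key v = tKey none), F v = 1540 * 2688 + 231 * 1 := by
    rw [show tKey none = hK.repT.ρ 1 from hid.symm]
    set L0 := (List.range 1540).map (tab tV0 24)
    set L1 := (List.range 231).map (tab tV1 24)
    have hlt : ∀ a ∈ L0 ++ L1, a < 2048 ∧ a ≠ 0 ∧ IsConj z (ev J g vec a) := by
      intro a ha
      have h := List.all_eq_true.1 tV_nomask a ha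
      simp only [Bool.and_eq_true, Nat.blt_eq, Bool.not_eq_true'] at h
      obtain ⟨⟨h1, h0⟩, hm⟩ := h
      have ha0 : a ≠ 0 := fun e => by rw [e] at h0; exact absurd h0 (by decide)
      refine ⟨h1, ha0, ?_⟩
      by_contra hz
      have : IsD z V (ev J g vec a) := ⟨D.ev_mem a, fun e => ha0 (D.ev_inj h1 (by norm_num) (e.trans D.ev_zero.symm)), hz⟩
      rw [D.isD_pairs h1, hm] at this
      exact absurd this (by decide)
    have hset : U.filter (fun v => hK.key v = hK.repT.ρ 1) =
        L0.toFinset.image (ev J g vec) ∪ L1.toFinset.image (ev J g vec) := by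
      ext v
      rw [hmem 1, ← Finset.image_union, Finset.mem_image]
      simp only [OneMemClass.coe_one, mul_one, Finset.mem_union, List.mem_toFinset, ← List.mem_append]
      constructor
      · rintro ⟨a, ha, rfl, hz⟩
        refine ⟨a, ?_, rfl⟩
        have h := List.all_eq_true.1 tV_cover a (List.mem_range.2 ha)
        simp only [Bool.or_eq_true, Nat.beq_eq, List.contains_iff_mem] at h
        rcases h with (h | h) | h
        · exact absurd (by rw [h, D.ev_zero]) (conj_ne_one J.z_ne hz)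
        · exact absurd hz ((D.isD_pairs ha).2 h).2.2
        · exact h
      · rintro ⟨a, ha, rfl⟩
        exact ⟨a, (hlt a ha).1, rfl, (hlt a ha).2.2⟩
    have hdisj : Disjoint (L0.toFinset.image (ev J g vec)) (L1.toFinset.image (ev J g vec)) := by
      rw [Finset.disjoint_left]
      intro v h0 h1
      simp only [Finset.mem_image, List.mem_toFinset] at h0 h1
      obtain ⟨a, ha, rfl⟩ := h0
      obtain ⟨b, hb, e⟩ := h1
      have hab := D.ev_inj (hlt b (List.mem_append_right _ hb)).1 (hlt a (List.mem_append_left _ ha)).1 e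
      have h := List.all_eq_true.1 tV_apart.2 b hb
      rw [Bool.not_eq_true', ← Bool.not_eq_true, List.contains_iff_mem] at h
      exact h (hab ▸ ha)
    rw [hset, Finset.sum_union hdisj]
    have one : ∀ {a0 n : ℕ} {ch aux : List ℕ} {f : ℕ}, vOrbOK a0 n ch aux = true →
        (∀ a ∈ (List.range n).map (tab ch 24), a ∈ L0 ++ L1) → F (ev J g vec a0) = f →
        ∑ v ∈ (((List.range n).map (tab ch 24)).toFinset.image (ev J g vec)), F v = n * f := by
      intro a0 n ch aux f hok hsub hf0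
      have hl : ∀ i < n, tab ch 24 i < 2048 := fun i hi =>
        (hlt _ (hsub _ (List.mem_map.2 ⟨i, List.mem_range.2 hi, rfl⟩))).1
      have hinj : Set.InjOn (ev J g vec) (((List.range n).map (tab ch 24)).toFinset : Set ℕ) := fun a ha b hb e => by
        simp only [Finset.mem_coe, List.mem_toFinset] at ha hb
        exact D.ev_inj (hlt a (hsub a ha)).1 (hlt b (hsub b hb)).1 e
      have hmono := mono_of_step (n := n) (f := tab ch 24) fun i hi => by
        have h' := List.all_eq_true.1 hok i (List.mem_range.2 hi)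
        simp only [Bool.and_eq_true, Bool.or_eq_true, Nat.beq_eq, Nat.blt_eq] at h'
        exact h'.2
      have hnd : ((List.range n).map (tab ch 24)).Nodup := by
        refine List.Nodup.map_on (fun x hx y hy e => ?_) List.nodup_range
        rw [List.mem_range] at hx hy
        rcases lt_trichotomy x y with k | k | k
        · exact absurd e (ne_of_lt (hmono y hy x k))
        · exact k
        · exact absurd e.symm (ne_of_lt (hmono x hx y k))
      rw [Finset.sum_image hinj, List.sum_toFinset _ hnd, List.map_map]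
      refine (List.sum_eq_card_nsmul _ f fun x hx => ?_).trans (by simp)
      obtain ⟨i, hi, rfl⟩ := List.mem_map.1 hx
      show F (ev J g vec (tab ch 24 i)) = f
      rw [hK.orbit_const F hFd hok hl i (List.mem_range.1 hi), hf0]
    have hu : ∀ u < 2, F (ev J g vec (uT u).1) = totT u hK.eps := fun u hu => by
      have := hK.second_total (u := u) (by omega) (by interval_cases u <;> norm_num [uT]) (ku := 1)
        (by rw [hid]; interval_cases u <;> rfl)
      simpa using this
    rw [one tV0_ok (fun a ha => List.mem_append_left _ ha) (show F (ev J g vec 1) = 2688 from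
        (hu 0 (by norm_num)).trans (by cases hK.eps; exacts [tTot0.1, tTot0.2])),
      one tV1_ok (fun a ha => List.mem_append_right _ ha) (show F (ev J g vec 2) = 1 from
        (hu 1 (by norm_num)).trans (by cases hK.eps; exacts [tTot1.1, tTot1.2]))]
  -- the classes
  have hC : ∀ (c : Fin 3) (f : ℕ), totT (cond (Nat.beq c.1 2 && hK.eps) 5 (c.1 + 2)) hK.eps = f →
      ∑ i : Fin (tN c.1), ∑ v ∈ U.filter (fun v => hK.key v = tKey (some ⟨c, i⟩)), F v =
        tN c.1 * (cond (Nat.beq c.1 2) 32 16 * f) := by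
    intro c f hf
    set r := hK.rp c.1 c.2 with hr
    have hmr : hK.repT.ρ r = tRep c.1 := hK.rp_spec c.2
    have hfix4 : ap (tRep c.1) 4 = 4 := hmr ▸ hK.mem_Kt.1 r.2
    have hsel := List.all_eq_true.1 (List.all_eq_true.1 tZsel_ok c.1 (List.mem_range.2 c.2)) hK.eps
      (by cases hK.eps <;> simp)
    simp only [Bool.and_eq_true, Nat.beq_eq, List.all_eq_true, List.contains_iff_mem] at hsel
    obtain ⟨⟨hlen, h0⟩, hco⟩ := hsel
    set S := tSel (tRep c.1) (!(Nat.beq c.1 2 && hK.eps)) with hS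
    have hSm : ∀ a, a ∈ S ↔ a < 2048 ∧ ap (tRep c.1) a = a ∧ IsConj z (ev J g vec a * ((r : ↥K) : G)) := by
      intro a
      simp only [hS, tSel, fixL, List.mem_filter, List.mem_range, Nat.beq_eq, beq_iff_eq, and_assoc]
      exact and_congr_right fun ha => and_congr_right fun hfix => (hK.rep_type c.2 ha hfix).symm
    set a0 := tZ0 c.1 hK.eps with ha0
    have hf' : F (ev J g vec a0 * ((r : ↥K) : G)) = f := by
      have key : ∀ u, u < 6 → (uT u).1 = a0 → (uT u).2 = tRep c.1 → totT u hK.eps = f →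
          F (ev J g vec a0 * ((r : ↥K) : G)) = f := by
        intro u hu h1 h2 h3
        rw [← h1, ← h3]
        exact hK.second_total hu (by interval_cases u <;> norm_num [uT]) (by rw [hmr, h2])
      rw [ha0] at key ⊢
      revert hf key
      fin_cases c <;> cases hK.eps <;> intro hf key <;>
        first | exact key 2 (by norm_num) rfl rfl hf | exact key 3 (by norm_num) rfl rfl hf |
          exact key 4 (by norm_num) rfl rfl hf | exact key 5 (by norm_num) rfl rfl hf
    have hrep : ∑ v ∈ U.filter (fun v => hK.key v = hK.repT.ρ r), F v = cond (Nat.beq c.1 2) 32 16 * f := by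
      have hset : U.filter (fun v => hK.key v = hK.repT.ρ r) =
          S.toFinset.image fun a => ev J g vec a * ((r : ↥K) : G) := by
        ext v
        rw [hmem r, Finset.mem_image]
        simp only [List.mem_toFinset, hSm]
        constructor
        · rintro ⟨a, ha, rfl, hz⟩
          refine ⟨a, ⟨ha, ?_, hz⟩, rfl⟩
          have h2 := sq_of_conj J.zz hz
          rwa [hK.fixed_iff ha (congrArg Subtype.val (hK.rp_sq c.2).1), show hK.mat (r : ↥K) = tRep c.1 from hmr] at h2
        · rintro ⟨a, ⟨ha, -, hz⟩, rfl⟩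
          exact ⟨a, ha, rfl, hz⟩
      have hnd : S.Nodup := List.Nodup.filter _ (List.Nodup.filter _ List.nodup_range)
      rw [hset, Finset.sum_image fun a ha b hb e => (hK.split_unique ((hSm a).1 (List.mem_toFinset.1 ha)).1
        ((hSm b).1 (List.mem_toFinset.1 hb)).1 e).1, List.sum_toFinset _ hnd]
      refine (List.sum_eq_card_nsmul _ f fun x hx => ?_).trans (by simp [hlen])
      obtain ⟨a, ha, rfl⟩ := List.mem_map.1 hx
      obtain ⟨b, hb, hbe⟩ := (contains_imL (L := tRep c.1) (hmr ▸ hK.mat_length _)).1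
        (List.contains_iff_mem.2 (hco a ha))
      rw [← hf']
      have e : a = a0 ^^^ (b ^^^ ap (tRep c.1) b) := by
        rw [← hbe]; show a = a0 ^^^ (a ^^^ a0)
        rw [Nat.xor_comm a a0, ← Nat.xor_assoc, Nat.xor_self, Nat.zero_xor]
      have h := hFd (ev J g vec b) (ev J g vec a0 * ((r : ↥K) : G)) (D.isV.comm _ (D.ev_mem b) _ (D.ev_mem 4))
      rwa [hK.conj_code hb, show hK.mat (r : ↥K) = tRep c.1 from hmr, ← e] at h
    rw [Finset.sum_eq_card_nsmul (b := cond (Nat.beq c.1 2) 32 16 * f) fun i _ => ?_]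
    · simp
    obtain ⟨x, hx⟩ := hK.repT.class_mem hK.gensT (tClass_ok c.2) (hK.rp_spec c.2) i.2
    rw [← hrep, show tKey (some ⟨c, i⟩) = hK.repT.ρ (x * r * x⁻¹) from hx.symm]
    set d := ev J g vec 0 * ((x : ↥K) : G) with hd'
    have hd : d * tEl J g vec = tEl J g vec * d := hK.code_comm x.2
    refine (Finset.sum_bij (fun v _ => d * v * d⁻¹) (fun v hv => ?_) (fun a _ b _ h => (MulAut.conj d).injective h)
      (fun w hw => ⟨d⁻¹ * w * d, ?_, by group⟩) fun v _ => (hFd d v hd).symm).symm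
    · rw [Finset.mem_filter, hU, mem_firstSet] at hv ⊢
      exact ⟨⟨hv.1.1.trans (isConj_iff.2 ⟨d, rfl⟩), conj_facts hd hv.1.2⟩,
        (hK.key_conj (by norm_num) x hv.1.2 r).2 hv.2⟩
    · rw [Finset.mem_filter, hU, mem_firstSet] at hw ⊢
      have hc : d⁻¹ * w * d * tEl J g vec = tEl J g vec * (d⁻¹ * w * d) := by
        simpa using conj_facts (d := d⁻¹) ((show Commute d (tEl J g vec) from hd).inv_left.eq) hw.1.2
      refine ⟨⟨hw.1.1.trans (isConj_iff.2 ⟨d⁻¹, by group⟩), hc⟩, (hK.key_conj (b := 0) (by norm_num) x hc r).1 ?_⟩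
      rw [← hd', show d * (d⁻¹ * w * d) * d⁻¹ = w by group]
      exact hw.2
  rw [Fintype.sum_option, Fintype.sum_sigma, Fin.sum_univ_three, hV, hC 0 7681 ?_, hC 1 44368 ?_, hC 2 26241 ?_]
  · rfl
  all_goals cases hK.eps
  exacts [tTot4.1, tTot5.2, tTot3.1, tTot3.2, tTot2.1, tTot2.2]

end Comp

end CfsgLib.JFourOrder
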