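import Cfsg.Agent.Lib.JFourOrder.HCount
import Cfsg.Agent.Lib.JFourOrder.TCount
import Cfsg.Agent.Lib.JFour.VFinal

/-!
# The order and the classes of involutions of a simple group of Janko-four type
-/

set_option autoImplicit false
set_option maxRecDepth 100000
set_option linter.style.haveILetI false
set_option linter.unusedSectionVars false

open Cfsg

namespace CfsgLib.JFourOrder

open CfsgLib.JFour

/-- The order and the two classes of involutions. -/
theorem order_of_type {G : Type*} [Group G] [Finite G] [IsSimpleGroup G] (hG : ¬ IsMulCommutative G) {z : G}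
    (hJ : IsOfJankoFourTypeAt z) :
    Nat.card G = 86775571046077562880 ∧
      ∃ t : G, orderOf z = 2 ∧ orderOf t = 2 ∧ ¬ IsConj z t ∧ ∀ x : G, orderOf x = 2 → IsConj x z ∨ IsConj x t := by
  classical
  haveI := Fintype.ofFinite G
  haveI := Fact.mk Nat.prime_two
  obtain ⟨P, hP⟩ := hJ
  obtain ⟨π, -, J, g, vec, S⟩ := exists_full hG hP
  obtain ⟨V, hV⟩ := S.exists_isV
  have D : J.Std g vec V := ⟨S, hV, unique11_of_type (G := G) ⟨z, P, hP⟩⟩
  obtain ⟨K, hK1, hK2, hK3, -⟩ := D.exists_complement
  have hK : Comp D K := ⟨hK1, hK2, hK3⟩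
  set t := tEl J g vec with ht
  obtain ⟨t2, t1, hzt⟩ := t_facts D
  have oz : orderOf z = 2 := orderOf_eq_prime (by rw [pow_two]; exact J.zz) J.z_ne
  have ot : orderOf t = 2 := orderOf_eq_prime (by rw [pow_two]; exact t2) t1
  have hcl : ∀ x : G, orderOf x = 2 → IsConj x z ∨ IsConj x t := fun x hx => by
    have hx2 : x * x = 1 := by rw [← pow_two, ← hx, pow_orderOf_eq_one]
    have hx1 : x ≠ 1 := fun e => by rw [e, orderOf_one] at hx; omega
    by_cases h : IsConj z x
    · exact Or.inl h.symm
    · exact Or.inr ((Comp.isConj_t_iff D hx2 hx1).2 h).symm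
  refine ⟨?_, t, oz, ot, hzt, hcl⟩
  have hzc := card_cent_z D
  have htc : Nat.card ↥(Subgroup.centralizer ({t} : Set G)) = 2 ^ 11 * 887040 := by
    have h := D.card_cent (isD_four D)
    rw [ht]
    omega
  rw [Nat.card_eq_fintype_card, J2Order.order_formula z t oz ot hzt hcl, pairs_z hK, hK.pairs_t, hzc, htc]
  norm_num

end CfsgLib.JFourOrder
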