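import Cfsg.Agent.Lib.JFour.Lin

/-!
# Packed tables of column lists, and the arithmetic of affine codes

A code is a translation together with a list of columns; the power of a code has as translation the sum of the
images of the translation under the smaller powers.
-/

set_option autoImplicit false
set_option maxRecDepth 100000

namespace CfsgLib.JFourOrder

open CfsgLib.JFour (ap comp)

/-- The identity on `d` coordinates. -/
def idn (d : ℕ) : List ℕ := (List.range d).map fun i => 2 ^ i

/-- The number with the listed digits to base `2 ^ d`. -/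
def pk (d : ℕ) : List ℕ → ℕ
  | [] => 0
  | c :: L => c + 2 ^ d * pk d L

/-- The `d` digits of `m` to base `2 ^ d`. -/
def unp (d m : ℕ) : List ℕ := (List.range d).map fun i => m / 2 ^ (d * i) % 2 ^ d

/-- The entry with index `i` in a table of numbers of `b` bits, sixty-four to a block. -/
def tab (ch : List ℕ) (b i : ℕ) : ℕ := ch.getD (i / 64) 0 / 2 ^ (b * (i % 64)) % 2 ^ b

/-- The key with index `i`. -/
def keyM (d : ℕ) (ch : List ℕ) (i : ℕ) : ℕ := tab ch (d * d) i

/-- The columns with index `i`. -/
def getM (d : ℕ) (ch : List ℕ) (i : ℕ) : List ℕ := unp d (keyM d ch i)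

/-- The parent, the move and the depth of an entry. -/
def parI (aux : List ℕ) (i : ℕ) : ℕ := tab aux 24 i % 8192

def mvI (aux : List ℕ) (i : ℕ) : ℕ := tab aux 24 i / 8192 % 16

def dpI (aux : List ℕ) (i : ℕ) : ℕ := tab aux 24 i / 131072

/-- Conjugation of columns, the inverse being given. -/
def cj (g gi B : List ℕ) : List ℕ := comp (comp g B) gi

/-- An entry is the root or comes from an earlier one by a move. -/
def stepOK (d n : ℕ) (gs : List (List ℕ × List ℕ)) (ch aux : List ℕ) (r : List ℕ) (i : ℕ) : Bool :=
  bif Nat.beq (dpI aux i) 0 then getM d ch i == r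
  else Nat.blt (parI aux i) n && Nat.blt (dpI aux (parI aux i)) (dpI aux i) &&
    Nat.blt (mvI aux i) gs.length &&
    (let g := gs.getD (mvI aux i) ([], [])
     cj g.1 g.2 (getM d ch (parI aux i)) == getM d ch i)

/-- A certified list of conjugates. -/
def classOK (d n : ℕ) (gs : List (List ℕ × List ℕ)) (ch aux : List ℕ) (r : List ℕ) : Bool :=
  (List.range n).all (stepOK d n gs ch aux r) &&
  (List.range n).all fun i =>
    (Nat.beq i 0 || Nat.blt (keyM d ch (i - 1)) (keyM d ch i)) &&
      Nat.beq (pk d (getM d ch i)) (keyM d ch i)

/-- The product of the moves from the root to an entry, with its inverse. -/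
def trv (d : ℕ) (gs : List (List ℕ × List ℕ)) (aux : List ℕ) : ℕ → ℕ → List ℕ × List ℕ
  | 0, _ => (idn d, idn d)
  | f + 1, i =>
    bif Nat.beq (dpI aux i) 0 then (idn d, idn d)
    else
      let g := gs.getD (mvI aux i) ([], [])
      let W := trv d gs aux f (parI aux i)
      (comp g.1 W.1, comp W.2 g.2)

/-- The powers of columns. -/
def pw (d : ℕ) (g : List ℕ) : ℕ → List ℕ
  | 0 => idn d
  | k + 1 => comp g (pw d g k)

/-- The translation of the power of a code. -/
def trn (g : List ℕ) (s : ℕ) : ℕ → ℕ
  | 0 => 0
  | k + 1 => Nat.xor s (ap g (trn g s k))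

/-- Its columns as a function of the translation. -/
def trnM (d : ℕ) (g : List ℕ) (k : ℕ) : List ℕ := (List.range d).map fun i => trn g (2 ^ i) k

/-- The first exponent giving the identity, with `0` for none found. -/
def ordLoop (one g : List ℕ) : ℕ → List ℕ → ℕ → ℕ
  | 0, _, _ => 0
  | f + 1, p, k => bif p == one then k else ordLoop one g f (comp g p) (k + 1)

/-- The order of columns. -/
def ordM (d : ℕ) (g : List ℕ) : ℕ := ordLoop (idn d) g 100 g 1

/-- The span of the listed numbers under the exclusive or. -/
def spanL : List ℕ → List ℕ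
  | [] => [0]
  | c :: L =>
    let S := spanL L
    bif S.contains c then S else S ++ S.map (Nat.xor c)

/-- The image of the displacement. -/
def imL (d : ℕ) (L : List ℕ) : List ℕ := spanL (List.zipWith Nat.xor (idn d) L)

/-- The fixed coordinates. -/
def fixL (d : ℕ) (L : List ℕ) : List ℕ := (List.range (2 ^ d)).filter fun a => Nat.beq (ap L a) a

/-- The sum of a function over a list. -/
def sumL {α : Type*} (f : α → ℕ) : List α → ℕ
  | [] => 0
  | x :: L => f x + sumL f L

/-- The value recorded for an entry. -/
def valI (vals : List ℕ) (i : ℕ) : ℕ := tab vals 24 i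

/-- An entry of a value table is a root of the stated value or has the value of an earlier entry moved into it;
a move is a translation with columns and their inverse. -/
def valStep (d n : ℕ) (ms : List (ℕ × List ℕ × List ℕ)) (ch aux vals : List ℕ) (root : ℕ → ℕ) (i : ℕ) : Bool :=
  bif Nat.beq (dpI aux i) 0 then Nat.beq (root i) (valI vals i)
  else Nat.blt (parI aux i) n && Nat.blt (dpI aux (parI aux i)) (dpI aux i) &&
    Nat.blt (mvI aux i) ms.length && Nat.beq (valI vals (parI aux i)) (valI vals i) &&
    (let m := ms.getD (mvI aux i) (0, [], [])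
     cj m.2.1 m.2.2 (getM d ch (parI aux i)) == getM d ch i)

-- The equations of the recursions are generated here once, so that the modules using them share them.
theorem trn_zero_eq (g : List ℕ) (s : ℕ) : trn g s 0 = 0 := by simp [trn]

theorem pw_zero_eq (d : ℕ) (g : List ℕ) : pw d g 0 = idn d := by rw [pw]

theorem ordLoop_zero_eq (one g p : List ℕ) (k : ℕ) : ordLoop one g 0 p k = 0 := by rw [ordLoop]

end CfsgLib.JFourOrder
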