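import Cfsg.Agent.Lib.JFourOrder.Mat
import Cfsg.Agent.Lib.JFour.TAction

/-!
# Column lists as single numbers

The composite with a list of columns is computed on all columns at once, a field of `d` bits for each column.
-/

set_option autoImplicit false
set_option maxRecDepth 100000

namespace CfsgLib.JFourOrder

open CfsgLib.JFour (ap comp)

/-- The value at a vector, for evaluation in the kernel. -/
noncomputable def apF (B : List ℕ) : ℕ → ℕ :=
  List.rec (motive := fun _ => ℕ → ℕ) (fun _ => 0)
    (fun b _ ih n => (fun r => Bool.rec r (Nat.xor b r) (Nat.beq (n % 2) 1)) (ih (n / 2))) B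

theorem apF_eq : ∀ (B : List ℕ) (n : ℕ), apF B n = ap B n
  | [], n => rfl
  | b :: B, n => by
    have ih := apF_eq B (n / 2)
    show Bool.rec (motive := fun _ => ℕ) (apF B (n / 2)) (Nat.xor b (apF B (n / 2))) (Nat.beq (n % 2) 1) = _
    rw [ih, ap]
    rcases Nat.mod_two_eq_zero_or_one n with h | h <;> rw [h] <;> rfl

/-- The lowest bit of each of `n` fields of `d` bits. -/
def maskP (d : ℕ) : ℕ → ℕ
  | 0 => 0
  | n + 1 => 1 + 2 ^ d * maskP d n

/-- The composite of columns with packed columns. -/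
noncomputable def compP (mask : ℕ) (g : List ℕ) : ℕ → ℕ :=
  List.rec (motive := fun _ => ℕ → ℕ) (fun _ => 0)
    (fun b _ ih m => Nat.xor (b * Nat.land m mask) (ih (m / 2))) g

theorem pk_zero (d n : ℕ) : pk d (List.replicate n 0) = 0 := by
  induction n with
  | zero => rfl
  | succ n ih => rw [List.replicate_succ, pk, ih]; simp

theorem pk_xor {d : ℕ} : ∀ {A B : List ℕ}, A.length = B.length → (∀ c ∈ A, c < 2 ^ d) → (∀ c ∈ B, c < 2 ^ d) →
    pk d A ^^^ pk d B = pk d (List.zipWith Nat.xor A B)
  | [], [], _, _, _ => by simp [pk]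
  | [], _ :: _, h, _, _ => by simp at h
  | _ :: _, [], h, _, _ => by simp at h
  | a :: A, b :: B, h, hA, hB => by
    have ha := hA a List.mem_cons_self
    have hb := hB b List.mem_cons_self
    have ih := pk_xor (A := A) (B := B) (by simpa using h) (fun c hc => hA c (List.mem_cons_of_mem _ hc))
      (fun c hc => hB c (List.mem_cons_of_mem _ hc))
    simp only [pk, List.zipWith_cons_cons]
    rw [← ih]
    conv_lhs => rw [← Nat.mod_add_div ((a + 2 ^ d * pk d A) ^^^ (b + 2 ^ d * pk d B)) (2 ^ d)]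
    rw [Nat.xor_mod_two_pow, Nat.xor_div_two_pow, Nat.add_mul_mod_self_left, Nat.add_mul_mod_self_left,
      Nat.mod_eq_of_lt ha, Nat.mod_eq_of_lt hb, Nat.add_mul_div_left _ _ (by positivity),
      Nat.add_mul_div_left _ _ (by positivity), Nat.div_eq_of_lt ha, Nat.div_eq_of_lt hb, Nat.zero_add, Nat.zero_add]
    rfl

theorem pk_land {d j : ℕ} (hj : j < d) : ∀ {C : List ℕ}, (∀ c ∈ C, c < 2 ^ d) →
    Nat.land (pk d C / 2 ^ j) (maskP d C.length) = pk d (C.map fun c => c / 2 ^ j % 2)
  | [], _ => by simp [pk, maskP]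
  | c :: C, h => by
    have hc := h c List.mem_cons_self
    have ih := pk_land (C := C) hj fun x hx => h x (List.mem_cons_of_mem _ hx)
    simp only [pk, List.length_cons, maskP, List.map_cons]
    rw [← ih]
    obtain ⟨e, he⟩ : ∃ e, d = j + (e + 1) := ⟨d - j - 1, by omega⟩
    set m := pk d C
    show (c + 2 ^ d * m) / 2 ^ j &&& (1 + 2 ^ d * maskP d C.length) = _
    conv_lhs => rw [← Nat.mod_add_div ((c + 2 ^ d * m) / 2 ^ j &&& (1 + 2 ^ d * maskP d C.length)) (2 ^ d)]
    rw [Nat.and_mod_two_pow, Nat.and_div_two_pow, Nat.add_mul_mod_self_left,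
      Nat.add_mul_div_left _ _ (by positivity : 0 < 2 ^ d),
      Nat.mod_eq_of_lt (Nat.one_lt_two_pow (by omega : d ≠ 0)),
      Nat.div_eq_of_lt (Nat.one_lt_two_pow (by omega : d ≠ 0)), Nat.zero_add, Nat.and_one_is_mod,
      Nat.mod_mod_of_dvd _ (dvd_pow_self 2 (by omega : d ≠ 0))]
    have h1 : (c + 2 ^ d * m) / 2 ^ j % 2 = c / 2 ^ j % 2 := by
      rw [show 2 ^ d * m = 2 ^ j * (2 * (2 ^ e * m)) by rw [he, pow_add, pow_succ]; ring,
        Nat.add_mul_div_left _ _ (by positivity), Nat.add_mul_mod_self_left]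
    have h2 : (c + 2 ^ d * m) / 2 ^ j / 2 ^ d = m / 2 ^ j := by
      rw [Nat.div_div_eq_div_mul, mul_comm (2 ^ j), ← Nat.div_div_eq_div_mul,
        Nat.add_mul_div_left _ _ (by positivity), Nat.div_eq_of_lt hc, Nat.zero_add]
    rw [h1, h2]
    rfl

theorem pk_mul {d b : ℕ} : ∀ (C : List ℕ), b * pk d C = pk d (C.map (b * ·))
  | [] => by simp [pk]
  | c :: C => by simp only [pk, List.map_cons, ← pk_mul C]; ring

theorem compP_shift {d : ℕ} {C : List ℕ} (hC : ∀ c ∈ C, c < 2 ^ d) : ∀ (g : List ℕ) (j : ℕ),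
    j + g.length ≤ d → (∀ b ∈ g, b < 2 ^ d) →
    compP (maskP d C.length) g (pk d C / 2 ^ j) = pk d (C.map fun c => ap g (c / 2 ^ j))
  | [], j, _, _ => by
    show 0 = _
    rw [show (C.map fun c => ap [] (c / 2 ^ j)) = List.replicate C.length 0 by
      induction C with
      | nil => rfl
      | cons c C ih => rw [List.map_cons, ih (fun x hx => hC x (List.mem_cons_of_mem _ hx))]; rfl, pk_zero]
  | b :: g, j, hj, hg => by
    simp only [List.length_cons] at hj
    have hb := hg b List.mem_cons_self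
    have ih := compP_shift hC g (j + 1) (by omega) fun x hx => hg x (List.mem_cons_of_mem _ hx)
    show b * Nat.land (pk d C / 2 ^ j) (maskP d C.length) ^^^ compP (maskP d C.length) g (pk d C / 2 ^ j / 2) = _
    rw [Nat.div_div_eq_div_mul, ← pow_succ, ih, pk_land (by omega) hC, pk_mul, pk_xor (by simp) ?_ ?_]
    · congr 1
      rw [List.map_map, List.zipWith_map, List.zipWith_self]
      refine List.map_congr_left fun c _ => ?_
      simp only [Function.comp_apply, ap]
      rw [pow_succ, ← Nat.div_div_eq_div_mul]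
      rcases Nat.mod_two_eq_zero_or_one (c / 2 ^ j) with h | h <;> rw [h] <;> simp <;> rfl
    · simp only [List.mem_map, forall_exists_index, and_imp, forall_apply_eq_imp_iff₂]
      intro c _
      rcases Nat.mod_two_eq_zero_or_one (c / 2 ^ j) with h | h <;> rw [h] <;> simp [hb]
    · simp only [List.mem_map, forall_exists_index, and_imp, forall_apply_eq_imp_iff₂]
      exact fun c _ => CfsgLib.JFour.ap_lt_two_pow (fun x hx => hg x (List.mem_cons_of_mem _ hx)) _

/-- All entries fit their fields. -/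
def okD (d : ℕ) (B : List ℕ) : Bool := Nat.beq B.length d && B.all fun c => Nat.blt c (2 ^ d)

theorem okD_spec {d : ℕ} {B : List ℕ} (h : okD d B = true) : B.length = d ∧ ∀ c ∈ B, c < 2 ^ d := by
  simp only [okD, Bool.and_eq_true, Nat.beq_eq, List.all_eq_true, Nat.blt_eq] at h
  exact h

theorem okD_comp {d : ℕ} {B C : List ℕ} (hB : okD d B = true) (hC : okD d C = true) : okD d (comp B C) = true := by
  obtain ⟨-, hb⟩ := okD_spec hB
  obtain ⟨hl, -⟩ := okD_spec hC
  simp only [okD, Bool.and_eq_true, Nat.beq_eq, List.all_eq_true, Nat.blt_eq, comp, List.length_map, hl,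
    List.mem_map, true_and, forall_exists_index, and_imp, forall_apply_eq_imp_iff₂]
  exact fun c _ => CfsgLib.JFour.ap_lt_two_pow hb c

theorem compP_eq {d : ℕ} {g C : List ℕ} (hg : okD d g = true) (hC : okD d C = true) :
    compP (maskP d d) g (pk d C) = pk d (comp g C) := by
  obtain ⟨hgl, hgb⟩ := okD_spec hg
  obtain ⟨hl, hb⟩ := okD_spec hC
  have := compP_shift hb g 0 (by omega) hgb
  simp only [pow_zero, Nat.div_one, hl] at this
  exact this

theorem unp_pk {d : ℕ} {C : List ℕ} (h : okD d C = true) : unp d (pk d C) = C := by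
  obtain ⟨hl, hb⟩ := okD_spec h
  refine List.ext_getElem (by simp [unp, hl]) fun i hi hi' => ?_
  simp only [unp, List.getElem_map, List.getElem_range]
  have key : ∀ (C : List ℕ) (i : ℕ), (∀ c ∈ C, c < 2 ^ d) → (hi : i < C.length) → pk d C / 2 ^ (d * i) % 2 ^ d = C[i] := by
    intro C
    induction C with
    | nil => intro i _ hi; simp at hi
    | cons c C ih =>
      intro i hb hi
      cases i with
      | zero => simp [pk, Nat.add_mul_mod_self_left, Nat.mod_eq_of_lt (hb c List.mem_cons_self)]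
      | succ i =>
        rw [pk, show d * (i + 1) = d + d * i by ring, pow_add, ← Nat.div_div_eq_div_mul,
          Nat.add_mul_div_left _ _ (by positivity), Nat.div_eq_of_lt (hb c List.mem_cons_self), Nat.zero_add,
          ih i (fun x hx => hb x (List.mem_cons_of_mem _ hx)) (by simpa using hi)]
        rfl
  exact key C i hb hi'

theorem unp_ok (d m : ℕ) : okD d (unp d m) = true := by
  simp only [okD, unp, Bool.and_eq_true, Nat.beq_eq, List.all_eq_true, Nat.blt_eq, List.length_map,
    List.length_range, List.mem_map, List.mem_range, true_and, forall_exists_index, and_imp,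
    forall_apply_eq_imp_iff₂]
  exact fun i _ => Nat.mod_lt _ (by positivity)

theorem okD_idn {d : ℕ} : okD d (idn d) = true := by
  simp only [okD, idn, Bool.and_eq_true, Nat.beq_eq, List.all_eq_true, Nat.blt_eq, List.length_map,
    List.length_range, List.mem_map, List.mem_range, true_and, forall_exists_index, and_imp,
    forall_apply_eq_imp_iff₂]
  exact fun i hi => Nat.pow_lt_pow_right (by norm_num) hi

theorem comp_idn_right {d : ℕ} {B : List ℕ} (h : okD d B = true) : comp B (idn d) = B := by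
  obtain ⟨hl, -⟩ := okD_spec h
  refine List.ext_getElem (by simp [comp, idn, hl]) fun i hi hi' => ?_
  simp only [comp, idn, List.getElem_map, List.getElem_range, List.getD_eq_getElem _ _ hi',
    CfsgLib.JFour.ap_pow]

/-- A move by packed composites. -/
noncomputable def moveP (d mask : ℕ) (g : List ℕ) (gk mP mI : ℕ) : Bool :=
  Nat.beq (compP mask g mP) (compP mask (unp d mI) gk)

theorem moveP_spec {d mask : ℕ} (hmask : mask = maskP d d) {g gi P B : List ℕ} {gk mP mI : ℕ}
    (hg : okD d g = true) (hgk : gk = pk d g) (hgg : comp g gi = idn d)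
    (hP : okD d P = true) (hmP : mP = pk d P) (hB : unp d mI = B)
    (h : moveP d mask g gk mP mI = true) : cj g gi P = B := by
  subst hmask hgk hmP hB
  have hok := unp_ok d mI
  rw [moveP, Nat.beq_eq, compP_eq hg hP, compP_eq hok hg] at h
  have h' : comp g P = comp (unp d mI) g := by
    rw [← unp_pk (okD_comp hg hP), h, unp_pk (okD_comp hok hg)]
  rw [cj, h', ← comp_assoc, hgg, comp_idn_right hok]

/-- The checks of a certified list, packed. -/
noncomputable def stepF (d n mask : ℕ) (gs : List (List ℕ × List ℕ)) (gks : List ℕ) (ch aux : List ℕ) (rk : ℕ)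
    (i : ℕ) : Bool :=
  bif Nat.beq (dpI aux i) 0 then Nat.beq (keyM d ch i) rk
  else Nat.blt (parI aux i) n && Nat.blt (dpI aux (parI aux i)) (dpI aux i) && Nat.blt (mvI aux i) gs.length &&
    moveP d mask (gs.getD (mvI aux i) ([], [])).1 (gks.getD (mvI aux i) 0) (keyM d ch (parI aux i)) (keyM d ch i)

/-- Moves fit for packed composites. -/
def movesOK (d : ℕ) (gs : List (List ℕ × List ℕ)) (gks : List ℕ) : Bool :=
  gks == gs.map (fun p => pk d p.1) && gs.all fun p => okD d p.1 && comp p.1 p.2 == idn d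

theorem moves_spec {d : ℕ} {gs : List (List ℕ × List ℕ)} {gks : List ℕ} (h : movesOK d gs gks = true) {k : ℕ}
    (hk : k < gs.length) : okD d (gs.getD k ([], [])).1 = true ∧
      gks.getD k 0 = pk d (gs.getD k ([], [])).1 ∧ comp (gs.getD k ([], [])).1 (gs.getD k ([], [])).2 = idn d := by
  simp only [movesOK, Bool.and_eq_true, beq_iff_eq, List.all_eq_true] at h
  obtain ⟨rfl, h2⟩ := h
  rw [List.getD_eq_getElem _ _ hk, List.getD_eq_getElem _ _ (by simpa using hk), List.getElem_map]
  exact ⟨(h2 _ (List.getElem_mem hk)).1, rfl, (h2 _ (List.getElem_mem hk)).2⟩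

/-- The keys are increasing and canonical. -/
noncomputable def keysF (d : ℕ) (ch : List ℕ) (i : ℕ) : Bool :=
  (Nat.beq i 0 || Nat.blt (keyM d ch (i - 1)) (keyM d ch i)) && Nat.beq (pk d (getM d ch i)) (keyM d ch i)

theorem classOK_of_fast {d n mask : ℕ} (hmask : mask = maskP d d) {gs : List (List ℕ × List ℕ)} {gks : List ℕ}
    {ch aux r : List ℕ} {rk : ℕ} (hr : okD d r = true) (hrk : rk = pk d r) (hm : movesOK d gs gks = true)
    (hk : (List.range n).all (keysF d ch) = true)
    (hs : (List.range n).all (stepF d n mask gs gks ch aux rk) = true) : classOK d n gs ch aux r = true := by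
  have hkey : ∀ i < n, pk d (getM d ch i) = keyM d ch i := fun i hi => by
    have := List.all_eq_true.1 hk i (List.mem_range.2 hi)
    simp only [keysF, Bool.and_eq_true, Nat.beq_eq] at this
    exact this.2
  simp only [classOK, Bool.and_eq_true, List.all_eq_true, List.mem_range]
  refine ⟨fun i hi => ?_, fun i hi => by
    have := List.all_eq_true.1 hk i (List.mem_range.2 hi)
    simpa [keysF] using this⟩
  have h := List.all_eq_true.1 hs i (List.mem_range.2 hi)
  rw [stepF] at h
  rw [stepOK]
  cases hb : Nat.beq (dpI aux i) 0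
  · simp only [hb, cond_false, Bool.and_eq_true, Nat.blt_eq] at h ⊢
    obtain ⟨⟨⟨hp, hdp⟩, hm'⟩, hmv⟩ := h
    obtain ⟨h1, h2, h3⟩ := moves_spec hm hm'
    refine ⟨⟨⟨hp, hdp⟩, hm'⟩, beq_iff_eq.2 ?_⟩
    exact moveP_spec hmask h1 h2 h3 (unp_ok d _) (hkey _ hp).symm rfl hmv
  · simp only [hb, cond_true, Nat.beq_eq] at h ⊢
    rw [beq_iff_eq, getM, h, hrk, unp_pk hr]

/-- The checks of a value table, packed. -/
noncomputable def valF (d n mask : ℕ) (ms : List (ℕ × List ℕ × List ℕ)) (gks : List ℕ) (ch aux vals : List ℕ)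
    (root : ℕ → ℕ) (i : ℕ) : Bool :=
  bif Nat.beq (dpI aux i) 0 then Nat.beq (root i) (valI vals i)
  else Nat.blt (parI aux i) n && Nat.blt (dpI aux (parI aux i)) (dpI aux i) && Nat.blt (mvI aux i) ms.length &&
    Nat.beq (valI vals (parI aux i)) (valI vals i) &&
    moveP d mask (ms.getD (mvI aux i) (0, [], [])).2.1 (gks.getD (mvI aux i) 0) (keyM d ch (parI aux i))
      (keyM d ch i)

theorem valStep_of_fast {d n mask : ℕ} (hmask : mask = maskP d d) {ms : List (ℕ × List ℕ × List ℕ)}
    {gks : List ℕ} {ch aux vals : List ℕ} {root : ℕ → ℕ} (hm : movesOK d (ms.map Prod.snd) gks = true)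
    (hkey : ∀ i < n, pk d (getM d ch i) = keyM d ch i) {i : ℕ}
    (h : valF d n mask ms gks ch aux vals root i = true) : valStep d n ms ch aux vals root i = true := by
  rw [valF] at h
  rw [valStep]
  cases hb : Nat.beq (dpI aux i) 0
  · simp only [hb, cond_false, Bool.and_eq_true, Nat.blt_eq] at h ⊢
    obtain ⟨⟨⟨⟨hp, hdp⟩, hm'⟩, hv⟩, hmv⟩ := h
    have hm'' : mvI aux i < (ms.map Prod.snd).length := by simpa using hm'
    obtain ⟨h1, h2, h3⟩ := moves_spec hm hm''
    have e : (ms.map Prod.snd).getD (mvI aux i) ([], []) = (ms.getD (mvI aux i) (0, [], [])).2 := by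
      rw [List.getD_eq_getElem _ _ hm'', List.getD_eq_getElem _ _ hm', List.getElem_map]
    rw [e] at h1 h2 h3
    refine ⟨⟨⟨⟨hp, hdp⟩, hm'⟩, hv⟩, beq_iff_eq.2 ?_⟩
    exact moveP_spec hmask h1 h2 h3 (unp_ok d _) (hkey _ hp).symm rfl hmv
  · simpa [hb] using h

/-- The powers, packed. -/
noncomputable def powP (mask one : ℕ) (g : List ℕ) (k : ℕ) : ℕ :=
  Nat.rec (motive := fun _ => ℕ) one (fun _ ih => compP mask g ih) k

/-- The translations of powers, packed. -/
noncomputable def trnP (mask one : ℕ) (g : List ℕ) (k : ℕ) : ℕ :=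
  Nat.rec (motive := fun _ => ℕ) 0 (fun _ ih => Nat.xor one (compP mask g ih)) k

/-- The order, packed. -/
noncomputable def ordP (mask one : ℕ) (g : List ℕ) (f : ℕ) : ℕ → ℕ → ℕ :=
  Nat.rec (motive := fun _ => ℕ → ℕ → ℕ) (fun _ _ => 0)
    (fun _ ih p k => Bool.rec (ih (compP mask g p) (k + 1)) k (Nat.beq p one)) f

theorem okD_pw {d : ℕ} {g : List ℕ} (hg : okD d g = true) : ∀ k, okD d (pw d g k) = true
  | 0 => okD_idn
  | k + 1 => okD_comp hg (okD_pw hg k)

theorem powP_eq {d : ℕ} {g : List ℕ} (hg : okD d g = true) (k : ℕ) :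
    powP (maskP d d) (pk d (idn d)) g k = pk d (pw d g k) := by
  induction k with
  | zero => rfl
  | succ k ih =>
    show compP _ g (powP (maskP d d) (pk d (idn d)) g k) = _
    rw [ih, compP_eq hg (okD_pw hg k), pw]

theorem trnM_succ {d : ℕ} (g : List ℕ) (k : ℕ) :
    trnM d g (k + 1) = List.zipWith Nat.xor (idn d) (comp g (trnM d g k)) := by
  simp only [trnM, idn, comp, List.map_map, List.zipWith_map, List.zipWith_self]
  exact List.map_congr_left fun i _ => rfl

theorem okD_trnM {d : ℕ} {g : List ℕ} (hg : okD d g = true) (k : ℕ) : okD d (trnM d g k) = true := by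
  simp only [okD, trnM, Bool.and_eq_true, Nat.beq_eq, List.all_eq_true, Nat.blt_eq, List.length_map,
    List.length_range, List.mem_map, List.mem_range, true_and, forall_exists_index, and_imp,
    forall_apply_eq_imp_iff₂]
  intro i hi
  induction k with
  | zero => simp [trn]
  | succ k ih =>
    rw [trn]
    exact Nat.xor_lt_two_pow (Nat.pow_lt_pow_right (by norm_num) hi)
      (CfsgLib.JFour.ap_lt_two_pow (okD_spec hg).2 _)

theorem trnP_eq {d : ℕ} {g : List ℕ} (hg : okD d g = true) (k : ℕ) :
    trnP (maskP d d) (pk d (idn d)) g k = pk d (trnM d g k) := by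
  induction k with
  | zero =>
    show 0 = _
    rw [trnM, show ((List.range d).map fun i => trn g (2 ^ i) 0) = List.replicate d 0 by simp [trn], pk_zero]
  | succ k ih =>
    show pk d (idn d) ^^^ compP (maskP d d) g (trnP (maskP d d) (pk d (idn d)) g k) = _
    have hc := okD_comp hg (okD_trnM hg k)
    rw [ih, compP_eq hg (okD_trnM hg k), trnM_succ,
      pk_xor (by rw [(okD_spec okD_idn).1, (okD_spec hc).1]) (okD_spec okD_idn).2 (okD_spec hc).2]

theorem ordP_eq {d : ℕ} {g : List ℕ} (hg : okD d g = true) : ∀ (f : ℕ) {p : List ℕ}, okD d p = true → ∀ k,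
    ordP (maskP d d) (pk d (idn d)) g f (pk d p) k = ordLoop (idn d) g f p k := by
  intro f
  induction f with
  | zero => intro p _ k; rfl
  | succ f ih =>
    intro p hp k
    show Bool.rec (motive := fun _ => ℕ) (ordP (maskP d d) (pk d (idn d)) g f (compP (maskP d d) g (pk d p)) (k + 1)) k
      (Nat.beq (pk d p) (pk d (idn d))) = _
    have hb : Nat.beq (pk d p) (pk d (idn d)) = (p == idn d) := by
      rw [Bool.eq_iff_iff, Nat.beq_eq, beq_iff_eq]
      exact ⟨fun e => by rw [← unp_pk hp, e, unp_pk okD_idn], fun e => by rw [e]⟩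
    rw [hb, compP_eq hg hp, ih (okD_comp hg hp), ordLoop]
    cases (p == idn d) <;> rfl

end CfsgLib.JFourOrder
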