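import Cfsg.Agent.Lib.JFourOrder.TBase

/-!
# Codes in the centralizer of the central involution

Every element is a representative in `E` times an element carrying `π` to itself or its inverse; the code is the
vector of the first with the columns of the second.
-/

set_option autoImplicit false
set_option maxRecDepth 100000
set_option linter.style.haveILetI false
set_option linter.unusedSectionVars false

open Cfsg

namespace CfsgLib.JFourOrder

open CfsgLib.JFour

variable {G : Type*} [Group G] [Finite G] {M : Type*} [Group M] [Finite M] {z π : G} {E : Subgroup G}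

/-- The elements of the centralizer carrying `π` to itself or its inverse. -/
def RSub (z π : G) : Subgroup G where
  carrier := {r | r * z = z * r ∧ (r * π * r⁻¹ = π ∨ r * π * r⁻¹ = π⁻¹)}
  one_mem' := ⟨by simp, Or.inl (by simp)⟩
  mul_mem' := by
    rintro a b ⟨ha, ha'⟩ ⟨hb, hb'⟩
    refine ⟨((show Commute a z from ha).mul_left (show Commute b z from hb)).eq, ?_⟩
    rw [show a * b * π * (a * b)⁻¹ = a * (b * π * b⁻¹) * a⁻¹ by group]
    rcases hb' with h | h <;> rw [h]
    · exact ha'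
    · rw [show a * π⁻¹ * a⁻¹ = (a * π * a⁻¹)⁻¹ by group]
      rcases ha' with h' | h' <;> rw [h']
      · exact Or.inr rfl
      · exact Or.inl (inv_inv π)
  inv_mem' := by
    rintro a ⟨ha, ha'⟩
    refine ⟨(show Commute a z from ha).inv_left.eq, ?_⟩
    rcases ha' with h | h
    · left
      calc a⁻¹ * π * a⁻¹⁻¹ = a⁻¹ * (a * π * a⁻¹) * a⁻¹⁻¹ := by rw [h]
        _ = π := by group
    · right
      have h' : a * π⁻¹ * a⁻¹ = π := by
        rw [show a * π⁻¹ * a⁻¹ = (a * π * a⁻¹)⁻¹ by group, h, inv_inv]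
      calc a⁻¹ * π * a⁻¹⁻¹ = a⁻¹ * (a * π⁻¹ * a⁻¹) * a⁻¹⁻¹ := by rw [h']
        _ = π⁻¹ := by group

theorem RSub_comm {r : G} (hr : r ∈ RSub z π) : r * z = z * r := hr.1

theorem CZ_le_RSub : CZ z π ≤ RSub z π := fun c hc =>
  ⟨(mem_CZ.1 hc).1, Or.inl (by rw [(mem_CZ.1 hc).2, mul_inv_cancel_right])⟩

theorem okB_len {B : List ℕ} (h : okB B = true) : B.length = 12 := by
  simp only [okB, Bool.and_eq_true, beq_iff_eq] at h; exact h.1

variable {J : Ctx M z π E} {g : ℕ → M} {vec : ℕ → G} {V : Subgroup G}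

theorem z_mem_RSub (J : Ctx M z π E) : z ∈ RSub z π := CZ_le_RSub J.z_mem_CZ

theorem zb_mem_RSub (J : Ctx M z π E) (b : Bool) : zb z b ∈ RSub z π := by
  cases b
  · exact (RSub z π).one_mem
  · exact z_mem_RSub J

theorem RSub_inf_E (J : Ctx M z π E) {e : G} (he : e ∈ E) (hr : e ∈ RSub z π) : e = 1 ∨ e = z := by
  rcases hr.2 with h | h
  · exact J.fpf e he (mul_inv_eq_iff_eq_mul.1 h)
  · exfalso
    have h2 : π * π ∈ E := by
      have e1 : π * π = π * e * π⁻¹ * e⁻¹ := by
        calc π * π = π * (π⁻¹)⁻¹ := by group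
          _ = π * (e * π * e⁻¹)⁻¹ := by rw [h]
          _ = _ := by group
      rw [e1]
      exact E.mul_mem (J.conjE J.piz he) (E.inv_mem he)
    rw [← J.pi_inv] at h2
    exact J.pi_not_mem (by simpa using E.inv_mem h2)

namespace Std

variable (D : J.Std g vec V)
include D

/-- The columns of an element. -/
noncomputable def matR (r : ↥(RSub z π)) : List ℕ :=
  (D.full.Mo.coords.exists_acts J (RSub_comm r.2)).choose

theorem matR_spec (r : ↥(RSub z π)) : Acts z vec (r : G) (matR D r) :=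
  (D.full.Mo.coords.exists_acts J (RSub_comm r.2)).choose_spec

theorem matR_eq {r : ↥(RSub z π)} {B : List ℕ} (h : Acts z vec (r : G) B) : matR D r = B :=
  cols_ext (okB_len (matR_spec D r).1) (okB_len h.1) fun i hi =>
    D.full.Mo.coords.acts_eq J (matR_spec D r) h _ (Nat.pow_lt_pow_right (n := 12) (by norm_num) hi)

theorem matR_len (r : ↥(RSub z π)) : (matR D r).length = 12 := okB_len (matR_spec D r).1

theorem matR_one : matR D 1 = idB := matR_eq D (D.full.Mo.coords.acts_one J)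

theorem matR_mul (r s : ↥(RSub z π)) : matR D (r * s) = comp (matR D r) (matR D s) := by
  refine matR_eq D (D.full.Mo.coords.acts_mul J (matR_spec D r) (RSub_comm r.2) (matR_spec D s) ?_)
  simp only [okB, comp, List.length_map, matR_len, beq_self_eq_true, Bool.true_and, List.all_eq_true,
    List.mem_map, decide_eq_true_eq]
  rintro _ ⟨c, -, rfl⟩
  exact okB_lt (matR_spec D r).1 c

theorem hat_conj_R (r : ↥(RSub z π)) {n : ℕ} (hn : n < 4096) :
    ∃ b : Bool, (r : G) * hat z π vec n * (r : G)⁻¹ = zb z b * hat z π vec (ap (matR D r) n) := by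
  refine J.rel_zb (J.rel_trans (J.rel_conj (RSub_comm r.2) (D.hat_rel n)) ?_)
  exact J.rel_trans ((matR_spec D r).2 n hn) (J.rel_symm (D.hat_rel _))

theorem ap_idB_eq : ap idB = ap idB := rfl

theorem mem_CZ_of_comm (r : ↥(RSub z π)) (h : comp (matR D r) gW0 = comp gW0 (matR D r)) : (r : G) ∈ CZ z π := by
  refine mem_CZ.2 ⟨RSub_comm r.2, ?_⟩
  rcases r.2.2 with h' | h'
  · exact mul_inv_eq_iff_eq_mul.1 h'
  · exfalso
    set p : ↥(RSub z π) := ⟨π, CZ_le_RSub J.pi_mem_CZ⟩
    have hp : matR D p = gW0 := matR_eq D D.full.Mo.om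
    have hrp : r * p = p⁻¹ * r := Subtype.ext (by
      show (r : G) * π = π⁻¹ * r
      rw [← h']; group)
    have hcomm : matR D (r * p) = matR D (p * r) := by rw [matR_mul, matR_mul, hp]; exact h
    rw [hrp, matR_mul, matR_mul] at hcomm
    have hpi : matR D p⁻¹ = matR D p := by
      have e := congrArg (fun X => comp X (matR D r⁻¹)) hcomm
      simpa only [← matR_mul D, mul_assoc, mul_inv_cancel, mul_one] using e
    have hpp : matR D (p * p) = idB := by
      rw [matR_mul]
      nth_rewrite 1 [← hpi]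
      rw [← matR_mul, inv_mul_cancel, matR_one]
    rw [matR_mul, hp] at hpp
    exact absurd hpp (by decide +kernel)

/-- Only the centre acts trivially. -/
theorem matR_ker {r : ↥(RSub z π)} (h : matR D r = idB) : (r : G) = 1 ∨ (r : G) = z := by
  have hc : (r : G) ∈ CZ z π := mem_CZ_of_comm D r (by rw [h]; decide +kernel)
  have hA : Acts z vec ((⟨r, hc⟩ : ↥(CZ z π)) : G) idB := h ▸ matR_spec D r
  have hcent : (r : G) ∈ Subgroup.centralizer (E : Set G) := by
    refine Subgroup.mem_centralizer_iff.2 fun e he => ?_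
    obtain ⟨n, hn, hr⟩ := D.full.Mo.coords.surj e he
    obtain ⟨b, rfl⟩ := J.rel_zb (J.rel_trans hr (J.rel_symm (D.hat_rel n)))
    have hh := D.hat_conj hA hn
    rw [ap_idB hn] at hh
    have h1 : Commute (r : G) (hat z π vec n) := mul_inv_eq_iff_eq_mul.1 hh
    have h2 : Commute (r : G) (zb z b) := J.zb_comm (RSub_comm r.2) b
    exact ((h2.mul_right h1).eq).symm
  rw [J.s.cQ] at hcent
  exact J.s.mem_zpowers hcent

theorem matR_z : matR D ⟨z, z_mem_RSub J⟩ = idB :=
  matR_eq D (by simpa using D.full.Mo.coords.acts_mul_E J (D.full.Mo.coords.acts_one J) J.s.z_mem (by simp))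

theorem matR_rel {r s : ↥(RSub z π)} (h : matR D r = matR D s) : (s : G) = r ∨ (s : G) = z * r := by
  have h1 : matR D (s * r⁻¹) = idB := by
    rw [matR_mul, ← h, ← matR_mul, mul_inv_cancel, matR_one]
  rcases matR_ker D h1 with k | k <;> simp only [Subgroup.coe_mul, InvMemClass.coe_inv] at k
  · exact Or.inl (mul_inv_eq_one.1 k)
  · exact Or.inr (mul_inv_eq_iff_eq_mul.1 k)

theorem split_z {h : G} (hz : h * z = z * h) :
    ∃ a < 4096, ∃ r : ↥(RSub z π), h = hat z π vec a * r := by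
  obtain ⟨e, he, hh⟩ := J.normP h hz
  have hr : e⁻¹ * h ∈ RSub z π := by
    refine ⟨((show Commute e⁻¹ z from J.s.z_comm (E.inv_mem he)).mul_left (show Commute h z from hz)).eq, ?_⟩
    rw [show e⁻¹ * h * π * (e⁻¹ * h)⁻¹ = e⁻¹ * (h * π * h⁻¹) * e by group]
    rcases hh with k | k <;> rw [k]
    exacts [Or.inl (by group), Or.inr (by group)]
  obtain ⟨n, hn, hrel⟩ := D.full.Mo.coords.surj e he
  obtain ⟨b, rfl⟩ := J.rel_zb (J.rel_trans hrel (J.rel_symm (D.hat_rel n)))
  refine ⟨n, hn, ⟨zb z b * ((zb z b * hat z π vec n)⁻¹ * h), (RSub z π).mul_mem (zb_mem_RSub J b) hr⟩, ?_⟩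
  show h = hat z π vec n * (zb z b * ((zb z b * hat z π vec n)⁻¹ * h))
  rw [← mul_assoc (hat z π vec n), J.zb_comm (J.s.z_comm (D.hat_mem hn))]
  group

theorem split_z_unique {a b : ℕ} (ha : a < 4096) (hb : b < 4096) {r s : ↥(RSub z π)}
    (h : hat z π vec a * r = hat z π vec b * s) : a = b ∧ r = s := by
  have e : (hat z π vec b)⁻¹ * hat z π vec a = (s : G) * (r : G)⁻¹ := by
    calc (hat z π vec b)⁻¹ * hat z π vec a = (hat z π vec b)⁻¹ * (hat z π vec a * r) * (r : G)⁻¹ := by group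
      _ = _ := by rw [h]; group
  have hE : (hat z π vec b)⁻¹ * hat z π vec a ∈ E := E.mul_mem (E.inv_mem (D.hat_mem hb)) (D.hat_mem ha)
  have hR := RSub_inf_E J hE (e ▸ (RSub z π).mul_mem s.2 ((RSub z π).inv_mem r.2))
  have hrel : Rel z (hat z π vec a) (hat z π vec b) := by
    rcases hR with k | k
    · exact Or.inl (inv_mul_eq_one.1 k).symm
    · exact Or.inr (by rw [inv_mul_eq_iff_eq_mul.1 k, J.s.z_comm (D.hat_mem hb)])
  have hab := (D.full.Mo.coords.rel_iff J ha hb).1
    (J.rel_trans (J.rel_symm (D.hat_rel a)) (J.rel_trans hrel (D.hat_rel b)))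
  subst hab
  exact ⟨rfl, Subtype.ext (mul_left_cancel h)⟩

end Std

/-- An element has the given code. -/
def Code (D : J.Std g vec V) (h : G) (a : ℕ) (B : List ℕ) : Prop :=
  a < 4096 ∧ ∃ r : ↥(RSub z π), h = hat z π vec a * r ∧ Std.matR D r = B

namespace Code

variable {D : J.Std g vec V}

theorem exists_code (D : J.Std g vec V) {h : G} (hz : h * z = z * h) : ∃ a B, Code D h a B := by
  obtain ⟨a, ha, r, e⟩ := Std.split_z D hz
  exact ⟨a, _, ha, r, e, rfl⟩

theorem comm {h : G} {a : ℕ} {B : List ℕ} (c : Code D h a B) : h * z = z * h := by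
  obtain ⟨ha, r, rfl, -⟩ := c
  exact ((show Commute (hat z π vec a) z from J.s.z_comm (D.hat_mem ha)).mul_left
    (show Commute (r : G) z from RSub_comm r.2)).eq

theorem unique {h : G} {a b : ℕ} {B C : List ℕ} (c : Code D h a B) (c' : Code D h b C) : a = b ∧ B = C := by
  obtain ⟨ha, r, e, hB⟩ := c
  obtain ⟨hb, s, e', hC⟩ := c'
  obtain ⟨hab, hrs⟩ := Std.split_z_unique D ha hb (e.symm.trans e')
  exact ⟨hab, by rw [← hB, ← hC, hrs]⟩

theorem of_R (r : ↥(RSub z π)) : Code D (r : G) 0 (Std.matR D r) :=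
  ⟨by norm_num, r, by rw [D.hat_zero, one_mul], rfl⟩

theorem one : Code D (1 : G) 0 idB := Std.matR_one D ▸ of_R (1 : ↥(RSub z π))

theorem ctr : Code D z 0 idB := Std.matR_z D ▸ of_R ⟨z, z_mem_RSub J⟩

theorem of_hat {a : ℕ} (ha : a < 4096) : Code D (hat z π vec a) a idB :=
  ⟨ha, 1, by simp, Std.matR_one D⟩

theorem rel {h h' : G} {a : ℕ} {B : List ℕ} (c : Code D h a B) (c' : Code D h' a B) : h' = h ∨ h' = z * h := by
  obtain ⟨ha, r, rfl, hB⟩ := c
  obtain ⟨-, s, rfl, hC⟩ := c'
  rcases Std.matR_rel D (hB.trans hC.symm) with k | k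
  · exact Or.inl (by rw [k])
  · refine Or.inr ?_
    rw [k, ← mul_assoc, J.s.z_comm (D.hat_mem ha), mul_assoc]

theorem mul {h h' : G} {a b : ℕ} {B C : List ℕ} (c : Code D h a B) (c' : Code D h' b C) :
    Code D (h * h') (a ^^^ ap B b) (comp B C) := by
  obtain ⟨ha, r, rfl, rfl⟩ := c
  obtain ⟨hb, s, rfl, rfl⟩ := c'
  obtain ⟨p, hp⟩ := Std.hat_conj_R D r hb
  have hlt : ap (Std.matR D r) b < 4096 := okB_lt (Std.matR_spec D r).1 b
  have hxl : a ^^^ ap (Std.matR D r) b < 4096 := Nat.xor_lt_two_pow (n := 12) ha hlt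
  set q := beta a (ap (Std.matR D r) b)
  refine ⟨hxl, ⟨zb z p * zb z q, mul_mem (zb_mem_RSub J p) (zb_mem_RSub J q)⟩ * (r * s), ?_, ?_⟩
  · have hcp : Commute (hat z π vec a) (zb z p) := J.zb_comm (J.s.z_comm (D.hat_mem ha)) p
    have hcx : Commute (hat z π vec (a ^^^ ap (Std.matR D r) b)) (zb z p * zb z q) :=
      (show Commute _ (zb z p) from J.zb_comm (J.s.z_comm (D.hat_mem hxl)) p).mul_right
        (show Commute _ (zb z q) from J.zb_comm (J.s.z_comm (D.hat_mem hxl)) q)
    simp only [Subgroup.coe_mul]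
    calc hat z π vec a * (r : G) * (hat z π vec b * s)
        = hat z π vec a * ((r : G) * hat z π vec b * (r : G)⁻¹) * ((r : G) * s) := by group
      _ = zb z p * (hat z π vec a * hat z π vec (ap (Std.matR D r) b)) * ((r : G) * s) := by
          rw [hp, ← mul_assoc (hat z π vec a), hcp.eq]; group
      _ = _ := by
          rw [D.hat_mul ha hlt, ← mul_assoc (zb z p), ← hcx.eq]; group
  · have hzz : Std.matR D ⟨zb z p * zb z q, mul_mem (zb_mem_RSub J p) (zb_mem_RSub J q)⟩ = idB := by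
      have h1 : ∀ t : Bool, Std.matR D ⟨zb z t, zb_mem_RSub J t⟩ = idB := fun t => by
        cases t
        · exact Std.matR_one D
        · exact Std.matR_z D
      rw [show (⟨zb z p * zb z q, mul_mem (zb_mem_RSub J p) (zb_mem_RSub J q)⟩ : ↥(RSub z π)) =
        ⟨zb z p, zb_mem_RSub J p⟩ * ⟨zb z q, zb_mem_RSub J q⟩ from rfl, Std.matR_mul, h1, h1]
      decide +kernel
    rw [Std.matR_mul, hzz, Std.matR_mul]
    refine cols_ext (d := 12) (by simp [comp, Std.matR_len]) (by simp [comp, Std.matR_len]) fun i hi => ?_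
    rw [ap_comp, ap_idB (by rw [ap_comp]; exact okB_lt (Std.matR_spec D r).1 _)]

theorem pow {h : G} {a : ℕ} {B : List ℕ} (c : Code D h a B) : ∀ n : ℕ,
    Code D (h ^ n) (trn B a n) (pw 12 B n)
  | 0 => by rw [pow_zero, trn, pw, idn_twelve]; exact one
  | n + 1 => by rw [pow_succ', trn, pw]; exact c.mul (pow c n)

theorem okBB {h : G} {a : ℕ} {B : List ℕ} (c : Code D h a B) : okB B = true := by
  obtain ⟨-, r, -, rfl⟩ := c
  exact (Std.matR_spec D r).1

theorem comp_one {h : G} {a : ℕ} {B : List ℕ} (c : Code D h a B) : comp B idB = B := by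
  obtain ⟨-, r, -, rfl⟩ := c
  rw [← Std.matR_one D, ← Std.matR_mul, mul_one]

theorem one_comp {h : G} {a : ℕ} {B : List ℕ} (c : Code D h a B) : comp idB B = B := by
  obtain ⟨-, r, -, rfl⟩ := c
  rw [← Std.matR_one D, ← Std.matR_mul, one_mul]

theorem conj {d h : G} {a b : ℕ} {B W Wi : List ℕ} (hd : Code D d b W) (hh : Code D h a B)
    (hi : comp Wi W = idB) (hi' : comp Wi idB = Wi) :
    Code D (d * h * d⁻¹) ((b ^^^ ap W a) ^^^ ap (cj W Wi B) b) (cj W Wi B) := by
  obtain ⟨c, C, hc⟩ := exists_code D ((show Commute d z from hd.comm).inv_left.eq)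
  have h1 : 0 = b ^^^ ap W c ∧ idB = comp W C := by
    have := hd.mul hc
    rw [mul_inv_cancel] at this
    exact one.unique this
  have hC : Wi = C := by
    rw [← hi', h1.2, comp_assoc, hi, hc.one_comp]
  subst hC
  have hcb : c = ap Wi b := by
    rw [Nat.xor_eq_zero_iff.1 h1.1.symm, ← ap_comp, hi, ap_idB hc.1]
  have e : ap (comp W B) c = ap (cj W Wi B) b := by rw [hcb, cj, ap_comp (comp W B) Wi]
  have := (hd.mul hh).mul hc
  rw [e] at this
  exact this

end Code

end CfsgLib.JFourOrder
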