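import Cfsg.Agent.Lib.JFourOrder.Defs
import Cfsg.Agent.Lib.JFourOrder.HData
import Cfsg.Agent.Lib.JFourOrder.HVals
import Cfsg.Agent.Lib.JFour.TAction
import Cfsg.Agent.Lib.JFourOrder.Fast

/-!
# The calculation in the centralizer of the central involution
-/

set_option autoImplicit false
set_option maxRecDepth 100000

namespace CfsgLib.JFourOrder

open CfsgLib.JFour (ap comp toT idB gW0 hexT outB anNum uInv fixV layA layB inLay)
open CfsgLib.LargeFischer (pairMask)

/-- The representatives of the classes. -/
def hRep (c : ℕ) : List ℕ := [hexT.getD 1 [], outB, comp outB (hexT.getD 3 [])].getD c []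

def hN (c : ℕ) : ℕ := [1155, 990, 4158].getD c 0

def hCh (c : ℕ) : List ℕ := [hCh0, hCh1, hCh2].getD c []

def hAux (c : ℕ) : List ℕ := [hAux0, hAux1, hAux2].getD c []

/-- The number of lifts of an inner code in the second class. -/
def ntIn (a : ℕ) : ℕ :=
  bif fixV.contains a then
    cond (pairMask.testBit (ap toT (ap uInv a + 128))) 1 0 + cond (pairMask.testBit (ap toT (ap uInv a + 192))) 1 0
  else bif anNum.testBit a then 0 else 2

/-- The number of lifts of a code over a representative in the second class. -/
def ntH (c a : ℕ) : ℕ := bif Nat.beq c 0 then ntIn a else bif Nat.beq c 1 then 1 else 2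

/-- The translations over a representative with their numbers. -/
def hList (c : ℕ) : List (ℕ × ℕ) := (fixL 12 (hRep c)).map fun a => (a, ntH c a)

/-- The vectors of the second class in `E`. -/
def eList : List (ℕ × ℕ) := ((List.range 4096).filter (inLay layB)).map fun a => (a, 2)

/-- Whether the central involution is a power of a product. -/
def condH (n : ℕ) (inner : Bool) (S H : List ℕ) (s : ℕ) : Bool :=
  let x := ap S s
  bif Nat.beq x 0 then Nat.beq (n % 2) 1 || (inner && anNum.testBit (ap H s)) else anNum.testBit x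

/-- The number of listed second factors of a code. -/
def valH (au : ℕ) (Bu : List ℕ) (L : List (ℕ × ℕ)) (B : List ℕ) : ℕ :=
  let g := comp Bu B
  let n := ordM 12 g
  let S := trnM 12 g n
  let H := trnM 12 g (n / 2)
  let w := pw 12 g (n / 2)
  let inner := comp w gW0 == comp gW0 w
  bif Nat.beq n 0 then 2 ^ 30
  else sumL (fun p => bif condH n inner S H (Nat.xor au (ap Bu p.1)) then p.2 else 0) L

/-- The four representatives. -/
def uH (u : ℕ) : ℕ × List ℕ :=
  [(76, idB), (0, hexT.getD 1 []), (260, hexT.getD 1 []), (0, outB)].getD u (0, [])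

def hMv (u : ℕ) : List (ℕ × List ℕ × List ℕ) := [hMv0, hMv1, hMv2, hMv3].getD u []

def hMvW (u : ℕ) : List (List ℕ) := [hMvW0, hMvW1, hMvW2, hMvW3].getD u []

def hVa (u c : ℕ) : List ℕ :=
  ([[hVa00, hVa01, hVa02], [hVa10, hVa11, hVa12], [hVa20, hVa21, hVa22], [hVa30, hVa31, hVa32]].getD u []).getD c []

def hVl (u c : ℕ) : List ℕ :=
  ([[hVl00, hVl01, hVl02], [hVl10, hVl11, hVl12], [hVl20, hVl21, hVl22], [hVl30, hVl31, hVl32]].getD u []).getD c []

/-- The value at a root, computed at the representative of the class. -/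
def rootH (u c : ℕ) (L : List (ℕ × ℕ)) (r : List ℕ) (i : ℕ) : ℕ :=
  let W := trv 12 gH (hAux c) 127 i
  valH (ap W.2 (uH u).1) (cj W.2 W.1 (uH u).2) L r

/-- The tables of one representative in one class. -/
def stepH (u c : ℕ) : Bool :=
  let L := hList c
  let r := hRep c
  (List.range (hN c)).all (valStep 12 (hN c) (hMv u) (hCh c) (hVa u c) (hVl u c) (rootH u c L r))

/-- The value of one representative. -/
def totH (u : ℕ) : ℕ :=
  valH (uH u).1 (uH u).2 eList idB + sumL (fun c => sumL (valI (hVl u c)) (List.range (hN c))) (List.range 3)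

/-- The sum of the listed values. -/
def sumH (u : ℕ) : ℕ := sumL (fun c => sumL (valI (hVl u c)) (List.range (hN c))) (List.range 3)

/-- The product of the named generators. -/
def wordH (w : List ℕ) : List ℕ := w.foldl (fun r k => comp r (gH.getD k ([], [])).1) idB

/-- The columns are the product of the named generators. -/
def wordIs (w W : List ℕ) : Bool := w.all (fun k => Nat.blt k gH.length) && wordH w == W

/-- The moves fix the representative. -/
def mvH (u : ℕ) : Bool :=
  (List.range (hMv u).length).all fun i =>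
    let m := (hMv u).getD i (0, [], [])
    wordIs ((hMvW u).getD i []) m.2.1 && pairOK12 m.2.1 m.2.2 && Nat.blt m.1 4096 &&
      cj m.2.1 m.2.2 (uH u).2 == (uH u).2 &&
      Nat.beq (Nat.xor (Nat.xor m.1 (ap m.2.1 (uH u).1)) (ap (uH u).2 m.1)) (uH u).1
where
  pairOK12 (W Wi : List ℕ) : Bool := comp Wi W == idn 12 && comp Wi (idn 12) == Wi

/-- The mask of twelve fields. -/
def mask12 : ℕ := maskP 12 12

/-- The packed identity. -/
def one12 : ℕ := pk 12 (idn 12)

/-- The packed scalar. -/
def w0K : ℕ := pk 12 gW0

/-- The same as `condH`, for evaluation in the kernel. -/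
noncomputable def condHF (n : ℕ) (inner : Bool) (S H : List ℕ) (s : ℕ) : Bool :=
  let x := apF S s
  bif Nat.beq x 0 then Nat.beq (n % 2) 1 || (inner && anNum.testBit (apF H s)) else anNum.testBit x

/-- The same as `valH`, for evaluation in the kernel. -/
noncomputable def valHF (au : ℕ) (Bu : List ℕ) (L : List (ℕ × ℕ)) (B : List ℕ) : ℕ :=
  let gk := compP mask12 Bu (pk 12 B)
  let g := unp 12 gk
  let n := ordP mask12 one12 g 100 gk 1
  let S := unp 12 (trnP mask12 one12 g n)
  let H := unp 12 (trnP mask12 one12 g (n / 2))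
  let wk := powP mask12 one12 g (n / 2)
  let inner := Nat.beq (compP mask12 (unp 12 wk) w0K) (compP mask12 gW0 wk)
  bif Nat.beq n 0 then 2 ^ 30
  else sumL (fun p => bif condHF n inner S H (Nat.xor au (apF Bu p.1)) then p.2 else 0) L

/-- The translations with their numbers, for evaluation in the kernel. -/
noncomputable def hListF (c : ℕ) : List (ℕ × ℕ) :=
  ((List.range 4096).filter fun a => Nat.beq (apF (hRep c) a) a).map fun a => (a, ntH c a)

/-- The value at a root, for evaluation in the kernel. -/
noncomputable def rootHF (u c : ℕ) (L : List (ℕ × ℕ)) (r : List ℕ) (i : ℕ) : ℕ :=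
  let W := trv 12 gH (hAux c) 127 i
  let B := cj W.2 W.1 (uH u).2
  bif okD 12 B then valHF (apF W.2 (uH u).1) B L r else 2 ^ 30

/-- The packed tables of one representative in one class. -/
noncomputable def stepHF (u c : ℕ) (gks : List ℕ) : Bool :=
  (List.range (hN c)).all (valF 12 (hN c) mask12 (hMv u) gks (hCh c) (hVa u c) (hVl u c)
    (rootHF u c (hListF c) (hRep c)))

end CfsgLib.JFourOrder
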