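import Cfsg.Agent.Lib.JFourOrder.HCalc

/-!
# The packed evaluation agrees with the calculation
-/

set_option autoImplicit false
set_option maxRecDepth 100000

namespace CfsgLib.JFourOrder

open CfsgLib.JFour (ap comp idB gW0)

theorem gW0_okD : okD 12 gW0 = true := by decide +kernel

theorem valHF_eq {au : ℕ} {Bu B : List ℕ} {L : List (ℕ × ℕ)} (hu : okD 12 Bu = true) (hB : okD 12 B = true) :
    valHF au Bu L B = valH au Bu L B := by
  have hg := okD_comp hu hB
  simp only [valHF, valH, mask12, one12, w0K]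
  rw [compP_eq hu hB, unp_pk hg, ordP_eq hg 100 hg 1]
  set n := ordM 12 (comp Bu B)
  rw [show ordLoop (idn 12) (comp Bu B) 100 (comp Bu B) 1 = n from rfl, trnP_eq hg, trnP_eq hg, powP_eq hg,
    unp_pk (okD_trnM hg _), unp_pk (okD_trnM hg _), unp_pk (okD_pw hg _), compP_eq (okD_pw hg _) gW0_okD,
    compP_eq gW0_okD (okD_pw hg _)]
  have hb : Nat.beq (pk 12 (comp (pw 12 (comp Bu B) (n / 2)) gW0)) (pk 12 (comp gW0 (pw 12 (comp Bu B) (n / 2)))) =
      (comp (pw 12 (comp Bu B) (n / 2)) gW0 == comp gW0 (pw 12 (comp Bu B) (n / 2))) := by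
    rw [Bool.eq_iff_iff, Nat.beq_eq, beq_iff_eq]
    exact ⟨fun e => by rw [← unp_pk (okD_comp (okD_pw hg _) gW0_okD), e,
      unp_pk (okD_comp gW0_okD (okD_pw hg _))], fun e => by rw [e]⟩
  rw [hb]
  simp only [condHF, condH, apF_eq]

theorem hListF_eq (c : ℕ) : hListF c = hList c := by
  simp only [hListF, hList, fixL, apF_eq]
  rfl

theorem rootHF_eq {u c : ℕ} {L : List (ℕ × ℕ)} {r : List ℕ} (hr : okD 12 r = true) {i : ℕ}
    (h : rootHF u c L r i < 2 ^ 24) : rootH u c L r i = rootHF u c L r i := by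
  simp only [rootHF, rootH] at h ⊢
  cases hb : okD 12 (cj (trv 12 gH (hAux c) 127 i).2 (trv 12 gH (hAux c) 127 i).1 (uH u).2)
  · rw [hb] at h; simp at h
  · simp only [cond_true]
    rw [valHF_eq hb hr, apF_eq]

theorem stepH_of_fast {u c : ℕ} {gks : List ℕ} (hr : okD 12 (hRep c) = true)
    (hm : movesOK 12 ((hMv u).map Prod.snd) gks = true)
    (hkey : ∀ i < hN c, pk 12 (getM 12 (hCh c) i) = keyM 12 (hCh c) i) (h : stepHF u c gks = true) :
    stepH u c = true := by
  simp only [stepH, stepHF, List.all_eq_true, List.mem_range] at h ⊢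
  intro i hi
  have h' := valStep_of_fast rfl hm hkey (h i hi)
  rw [valStep] at h' ⊢
  cases hb : Nat.beq (dpI (hVa u c) i) 0
  · rw [hb] at h'
    exact h'
  · rw [hb, cond_true, Nat.beq_eq, hListF_eq] at h'
    rw [cond_true, Nat.beq_eq, rootHF_eq hr (by rw [h']; exact Nat.mod_lt _ (by positivity)), h']

end CfsgLib.JFourOrder
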