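import Cfsg.Agent.Lib.JFourOrder.HCalc
import Cfsg.Agent.Lib.JFourOrder.HFast

/-!
# Kernel checks of the classes of the centralizer of the central involution
-/

set_option autoImplicit false
set_option Elab.async false
set_option maxRecDepth 100000
set_option maxHeartbeats 4000000

namespace CfsgLib.JFourOrder

open CfsgLib.JFour (ap comp gW0 MS outB idB)

theorem gH_ok : gH.all (pairOK 12) = true ∧
    gH.map Prod.fst = MS ++ [gW0, outB] ∧ gH.length = 7 := by decide +kernel

theorem hRepD0 : okD 12 (hRep 0) = true := by decide +kernel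

theorem hRepD1 : okD 12 (hRep 1) = true := by decide +kernel

theorem hRepD2 : okD 12 (hRep 2) = true := by decide +kernel

theorem gH_moves : movesOK 12 gH gHK = true := by decide +kernel

theorem hKeys0_ok : (List.range 1155).all (keysF 12 hCh0) = true := by decide +kernel

theorem hStepF0_ok :
    (List.range 1155).all (stepF 12 1155 mask12 gH gHK hCh0 hAux0 (pk 12 (hRep 0))) = true := by decide +kernel

theorem hClass0_ok : classOK 12 1155 gH hCh0 hAux0 (hRep 0) = true :=
  classOK_of_fast rfl hRepD0 rfl gH_moves hKeys0_ok hStepF0_ok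

theorem hKeys1_ok : (List.range 990).all (keysF 12 hCh1) = true := by decide +kernel

theorem hStepF1_ok :
    (List.range 990).all (stepF 12 990 mask12 gH gHK hCh1 hAux1 (pk 12 (hRep 1))) = true := by decide +kernel

theorem hClass1_ok : classOK 12 990 gH hCh1 hAux1 (hRep 1) = true :=
  classOK_of_fast rfl hRepD1 rfl gH_moves hKeys1_ok hStepF1_ok

theorem hKeys2_ok : (List.range 4158).all (keysF 12 hCh2) = true := by decide +kernel

theorem hStepF2_ok :
    (List.range 4158).all (stepF 12 4158 mask12 gH gHK hCh2 hAux2 (pk 12 (hRep 2))) = true := by decide +kernel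

theorem hClass2_ok : classOK 12 4158 gH hCh2 hAux2 (hRep 2) = true :=
  classOK_of_fast rfl hRepD2 rfl gH_moves hKeys2_ok hStepF2_ok

theorem hSub0_ok : subOK 12 256 (hSubG0.map Prod.fst) hSubCh0 hSubAux0 hSubMul0 = true := by decide +kernel

theorem hSub1_ok : subOK 12 128 (hSubG1.map Prod.fst) hSubCh1 hSubAux1 hSubMul1 = true := by decide +kernel

theorem hSub2_ok : subOK 12 128 (hSubG2.map Prod.fst) hSubCh2 hSubAux2 hSubMul2 = true := by decide +kernel

theorem hSubComm_ok : [(hSubG0, 0), (hSubG1, 1), (hSubG2, 2)].all (fun q => q.1.all fun p =>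
    wordIs p.2 p.1 && comp p.1 (hRep q.2) == comp (hRep q.2) p.1) = true := by decide +kernel

theorem hOddW_ok : [hOdd0, hOdd1, hOdd2].all (fun L => L.all fun p => wordIs p.2.1 p.1) = true := by
  decide +kernel

/-- Two commuting elements of order three fixing a representative. -/
def nineOK (r a b : List ℕ) : Bool :=
  pw 12 a 3 == idn 12 && pw 12 b 3 == idn 12 && !(a == idn 12) && !(b == idn 12) && !(b == a) &&
    !(b == comp a a) && comp a b == comp b a && comp a r == comp r a && comp b r == comp r b

/-- An element of prime order fixing a representative. -/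
def primeOK (r a : List ℕ) (p : ℕ) : Bool :=
  pw 12 a p == idn 12 && !(a == idn 12) && comp a r == comp r a

theorem hOdd0_ok : nineOK (hRep 0) (hOdd0.getD 0 ([], [], 0)).1 (hOdd0.getD 1 ([], [], 0)).1 = true := by
  decide +kernel

theorem hOdd1_ok : primeOK (hRep 1) (hOdd1.getD 0 ([], [], 0)).1 7 = true ∧
    primeOK (hRep 1) (hOdd1.getD 1 ([], [], 0)).1 3 = true := by decide +kernel

theorem hOdd2_ok : primeOK (hRep 2) (hOdd2.getD 0 ([], [], 0)).1 5 = true := by decide +kernel

theorem hSyl_ok : (List.range 256).all (fun i =>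
    let B := getM 12 hSubCh0 i
    let v := tab hSylCls 24 i
    bif Nat.beq v 0 then (B == idn 12 || !(comp B B == idn 12))
    else Nat.blt ((v - 1) % 4) 3 && Nat.blt ((v - 1) / 4) (hN ((v - 1) % 4)) &&
      getM 12 (hCh ((v - 1) % 4)) ((v - 1) / 4) == B) = true := by decide +kernel

theorem hApart_ok : (List.range 3).all (fun c => (List.range c).all fun c' =>
    (List.range (hN c')).all fun i => !(getM 12 (hCh c') i == hRep c)) = true := by decide +kernel

theorem hRep_ok : (List.range 3).all (fun c => !(hRep c == idB) && comp (hRep c) (hRep c) == idB &&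
    (comp (hRep c) gW0 == comp gW0 (hRep c)) == Nat.beq c 0) = true := by decide +kernel

theorem hZW_ok : hZW.all (fun p => wordIs p.2.2 p.1 && pairOK 12 (p.1, p.2.1) &&
    cj p.1 p.2.1 (hRep 0) == hRep 0) = true := by decide +kernel

theorem hZ_ok : hZ.all (fun p => Nat.blt p.2.2.1 4096 && Nat.blt p.2.1 2 && Nat.blt p.2.2.2 hZW.length &&
    Nat.beq p.1 (Nat.xor (Nat.xor p.2.2.1 (ap (hZW.getD p.2.2.2 ([], [], [])).1 (uH (p.2.1 + 1)).1))
      (ap (hRep 0) p.2.2.1))) = true := by decide +kernel

theorem hOutB_ok : (List.range 2).all (fun k =>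
    let b := hOutB.getD k []
    let K := fixL 12 (hRep (k + 1))
    Nat.beq b.length K.length && (List.range K.length).all fun i =>
      Nat.blt (b.getD i 4096) 4096 && Nat.beq (Nat.xor (b.getD i 0) (ap (hRep (k + 1)) (b.getD i 0))) (K.getD i 0))
    = true := by decide +kernel

end CfsgLib.JFourOrder
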