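import Cfsg.Agent.Lib.JFourOrder.HKeys

/-!
# Squares of codes and powers of products of two involutions
-/

set_option autoImplicit false
set_option maxRecDepth 100000
set_option linter.style.haveILetI false
set_option linter.unusedSectionVars false

open Cfsg

namespace CfsgLib.JFourOrder

open CfsgLib.JFour

/-- Two involutions with product of odd order are conjugate. -/
theorem conj_of_odd {G : Type*} [Group G] {u v : G} (hu : u * u = 1) (hv : v * v = 1) {n : ℕ} (hn : n % 2 = 1)
    (h : (u * v) ^ n = 1) : IsConj u v := by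
  have hui : u⁻¹ = u := inv_eq_of_mul_eq_one_right hu
  have hvi : v⁻¹ = v := inv_eq_of_mul_eq_one_right hv
  have hinv : u * (u * v) * u⁻¹ = (u * v)⁻¹ := by
    rw [mul_inv_rev, hvi, hui, ← mul_assoc, hu, one_mul]
  have e : ∀ k : ℕ, u * (u * v) ^ k = ((u * v) ^ k)⁻¹ * u := fun k => by
    rw [← mul_inv_eq_iff_eq_mul, ← conj_pow, hinv, inv_pow]
  refine (isConj_iff.2 ⟨(u * v) ^ ((n + 1) / 2), ?_⟩ : IsConj u (u * v * u)).trans (isConj_iff.2 ⟨u, ?_⟩)
  · rw [mul_inv_eq_iff_eq_mul]
    have h2 : (n + 1) / 2 + (n + 1) / 2 = n + 1 := by omega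
    have : (u * v) ^ ((n + 1) / 2) * u = u * v * (u * ((u * v) ^ ((n + 1) / 2))) := by
      rw [e, ← mul_assoc]
      congr 1
      rw [eq_mul_inv_iff_mul_eq, ← pow_add, h2, pow_succ, h, one_mul]
    rw [this]; group
  · rw [hui, show u * (u * v * u) * u = u * u * v * (u * u) by group, hu, one_mul, mul_one]

variable {G : Type*} [Group G] [Finite G] {M : Type*} [Group M] [Finite M] {z π : G} {E : Subgroup G}
variable {J : Ctx M z π E} {g : ℕ → M} {vec : ℕ → G} {V : Subgroup G} {D : J.Std g vec V}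

theorem z_conj_self (J : Ctx M z π E) {r : G} (hr : r * z = z * r) : r * z * r⁻¹ = z := by
  rw [hr, mul_inv_cancel_right]

theorem beta_self (D : J.Std g vec V) {n : ℕ} (hn : n < 4096) : beta n n = aniso n := by
  have h := D.hat_mul hn hn
  rw [D.hat_sq hn, Nat.xor_self, D.hat_zero, mul_one] at h
  exact (J.zb_inj h).symm

/-- The conjugate of a representative by an element inverting `π`. -/
theorem hat_conj_flip (D : J.Std g vec V) {τ : G} {B : List ℕ} (hB : Acts z vec τ B) (hτz : τ * z = z * τ)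
    (hτ : τ * π * τ⁻¹ = π⁻¹) {n : ℕ} (hn : n < 4096) :
    τ * hat z π vec n * τ⁻¹ = zb z (aniso n) * hat z π vec (ap B n) := by
  set x := hat z π vec n with hx
  have hτ' : π * τ = τ * π⁻¹ := by
    calc π * τ = (τ * π * τ⁻¹)⁻¹ * τ := by rw [hτ, inv_inv]
      _ = _ := by group
  have hτ'' : π⁻¹ * τ = τ * π := by
    calc π⁻¹ * τ = τ * π * τ⁻¹ * τ := by rw [hτ]
      _ = _ := by group
  have h1 := okB_lt gW1_ok.2.1 n
  have h2 := okB_lt gW1_ok.1 n
  have htr : x * hat z π vec (ap gW0 n) * hat z π vec (ap gW1 n) = 1 := by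
    have := D.hat_trip hn
    rwa [trip, D.hat_conj_pi hn, D.hat_conj_pi_inv hn] at this
  have hbb : bb (ap gW1 n) (ap gW0 n) = aniso n := by
    have e : ap gW1 n = ap gW0 (ap gW0 n) := ap_comp gW0 gW0 n
    have e2 : ap gW0 (ap gW1 n) = n := by rw [← ap_comp, gW1_ok.2.2.2, ap_idB hn]
    have h3 := D.bb_pi hn h2
    rw [e2] at h3
    rw [e, D.bb_pi h1 hn, h3]
    exact beta_self D hn
  have hxE := D.hat_mem hn
  have hyE : τ * x * τ⁻¹ ∈ E := J.conjE hτz hxE
  have hrel : Rel z (zb z (aniso n) * (τ * x * τ⁻¹)) (vec (ap B n)) := by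
    refine J.rel_trans (b := τ * x * τ⁻¹) ?_ (J.rel_trans (J.rel_conj hτz (D.hat_rel n)) (hB.2 n hn))
    cases aniso n
    · exact Or.inl (one_mul _)
    · exact Or.inr rfl
  have ht : trip π (τ * x * τ⁻¹) = zb z (aniso n) := by
    calc trip π (τ * x * τ⁻¹) = τ * x * τ⁻¹ * ((π * τ) * x * (π * τ)⁻¹) * ((π⁻¹ * τ) * x * (π⁻¹ * τ)⁻¹) := by
          rw [trip]; group
      _ = τ * (x * (π⁻¹ * x * π) * (π * x * π⁻¹)) * τ⁻¹ := by rw [hτ', hτ'']; group
      _ = τ * zb z (aniso n) * τ⁻¹ := by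
        rw [hx, D.hat_conj_pi hn, D.hat_conj_pi_inv hn, mul_assoc (hat z π vec n), D.hat_comm h2 h1, hbb,
          ← mul_assoc (hat z π vec n), J.zb_comm (J.s.z_comm hxE), mul_assoc (zb z _), ← mul_assoc (hat z π vec n),
          ← hx, htr, mul_one]
      _ = _ := by rw [J.zb_comm hτz, mul_inv_cancel_right]
  rw [← D.hat_unique (okB_lt hB.1 n) hrel (by rw [J.trip_zb hyE, ht, ← J.zb_xor, Bool.xor_self]; rfl),
    ← mul_assoc, ← J.zb_xor, Bool.xor_self]
  exact (one_mul _).symm

theorem outB_member (D : J.Std g vec V) : ∃ τ : G, τ * τ = 1 ∧ τ * z = z * τ ∧ τ * π * τ⁻¹ = π⁻¹ ∧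
    VActs J g vec τ outL ∧ Acts z vec τ outB ∧ τ * cp J g 3 = cp J g 3 * τ := by
  obtain ⟨s, t, ⟨hs, hsV, hs2⟩, ⟨ht, htV, ht2⟩, hu⟩ := D.exists_dihedral
  obtain ⟨τ, hτ2, hτV, hτp, -, -, hτz, hτB⟩ := D.exists_outB hs hsV hs2 ht htV ht2 hu
  have hτi : τ⁻¹ = τ := inv_eq_of_mul_eq_one_right hτ2
  refine ⟨τ, hτ2, hτz, by rw [hτi, hτp], hτV, hτB, ?_⟩
  have h := hτV.2 384 (by norm_num)
  rw [show ap outL 384 = 384 by decide +kernel, show (384 : ℕ) = 128 * 3 from rfl, ← D.cp_eq_ev (by norm_num)] at h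
  exact mul_inv_eq_iff_eq_mul.1 h

/-- Every class has a member of square one. -/
theorem rep_lift (D : J.Std g vec V) {c : ℕ} (hc : c < 3) :
    ∃ r : ↥(RSub z π), Std.matR D r = hRep c ∧ (r : G) * r = 1 := by
  obtain ⟨τ, hτ2, hτz, hτp, -, hτB, hτc⟩ := outB_member D
  have hτm : τ ∈ RSub z π := ⟨hτz, Or.inr hτp⟩
  interval_cases c
  · obtain ⟨h1, h2, h3⟩ := cp_acts D (S := 1) (by norm_num)
    exact ⟨⟨_, CZ_le_RSub h1⟩, Std.matR_eq D h3, h2⟩
  · exact ⟨⟨τ, hτm⟩, Std.matR_eq D hτB, hτ2⟩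
  · obtain ⟨h1, h2, h3⟩ := cp_acts D (S := 3) (by norm_num)
    refine ⟨⟨τ, hτm⟩ * ⟨_, CZ_le_RSub h1⟩, ?_, ?_⟩
    · rw [Std.matR_mul, Std.matR_eq D hτB, Std.matR_eq D h3]; rfl
    · show τ * cp J g 3 * (τ * cp J g 3) = 1
      rw [mul_assoc τ, ← mul_assoc (cp J g 3) τ, ← hτc, mul_assoc τ (cp J g 3), h2, mul_one, hτ2]

/-- An element with involutive columns squares to one. -/
theorem R_sq (D : J.Std g vec V) (r : ↥(RSub z π))
    (h : comp (Std.matR D r) (Std.matR D r) = idB) : (r : G) * r = 1 := by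
  have hx : imX D r * imX D r = 1 := (repX D).inj (by
    rw [(repX D).mul, repX_im, h, (repX D).one, idn_twelve])
  obtain ⟨i, hi⟩ := invol_keyH D hx
  rw [repX_im] at hi
  match i with
  | none =>
    rcases Std.matR_ker D hi with e | e <;> rw [e]
    exacts [one_mul 1, J.zz]
  | some ⟨c, j⟩ =>
    obtain ⟨x, hx⟩ := (repX D).class_mem (gensH D) (hClass_ok c.2) (hrp_spec D c.2) j.2
    obtain ⟨p, hp, hp2⟩ := rep_lift D c.2
    have himp : hrp D c.1 c.2 = imX D p := (repX D).inj (by rw [hrp_spec, repX_im, hp])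
    have hq : Std.matR D r = Std.matR D (preR D x * p * (preR D x)⁻¹) := by
      have e : x * imX D p * x⁻¹ = imX D (preR D x * p * (preR D x)⁻¹) := by
        have hpx : imX D (preR D x) = x := Subtype.ext (preR_spec D x)
        conv_lhs => rw [← hpx]
        rw [mul_inv_eq_iff_eq_mul, ← imX_mul, ← imX_mul, inv_mul_cancel_right]
      rw [hi, hKey, ← hx, himp]
      rw [e, repX_im]
    have hsq : ((preR D x * p * (preR D x)⁻¹ : ↥(RSub z π)) : G) *
        ((preR D x * p * (preR D x)⁻¹ : ↥(RSub z π)) : G) = 1 := by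
      simp only [Subgroup.coe_mul, InvMemClass.coe_inv]
      calc (preR D x : G) * p * (preR D x : G)⁻¹ * ((preR D x : G) * p * (preR D x : G)⁻¹)
          = (preR D x : G) * ((p : G) * p) * (preR D x : G)⁻¹ := by group
        _ = 1 := by rw [hp2]; group
    rcases Std.matR_rel D hq.symm with e | e <;> rw [e]
    · exact hsq
    · exact mul_mul_mul_comm' J (by simpa using RSub_comm (preR D x * p * (preR D x)⁻¹).2) hsq
where
  mul_mul_mul_comm' (J : Ctx M z π E) {q : G} (hq : q * z = z * q) (h : q * q = 1) : z * q * (z * q) = 1 := by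
    rw [mul_assoc, ← mul_assoc q z, hq, mul_assoc z q, h, mul_one, J.zz]

namespace Code

theorem lt {h : G} {a : ℕ} {B : List ℕ} (c : Code D h a B) : a < 4096 := c.1

theorem zmul {h : G} {a : ℕ} {B : List ℕ} (c : Code D h a B) : Code D (z * h) a B := by
  have := ctr.mul c
  rwa [ap_idB c.lt, Nat.zero_xor, c.one_comp] at this

theorem mem_ker {h : G} (c : Code D h 0 idB) : h = 1 ∨ h = z := by
  obtain ⟨-, r, rfl, hr⟩ := c
  rw [D.hat_zero, one_mul]
  exact Std.matR_ker D hr

/-- The square of a code with involutive columns fixing the vector. -/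
theorem sq {h : G} {a : ℕ} {B : List ℕ} (c : Code D h a B) (hBB : comp B B = idB) (hfix : ap B a = a) :
    h * h = zb z ((comp B gW0 == comp gW0 B) && anNum.testBit a) := by
  obtain ⟨ha, r, rfl, rfl⟩ := c
  have hr := R_sq D r hBB
  have hri : (r : G)⁻¹ = r := inv_eq_of_mul_eq_one_right hr
  have e : hat z π vec a * r * (hat z π vec a * r) =
      hat z π vec a * ((r : G) * hat z π vec a * (r : G)⁻¹) := by rw [hri]; group
  rw [e, an_eq ha]
  cases hb : (comp (Std.matR D r) gW0 == comp gW0 (Std.matR D r))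
  · rw [beq_eq_false_iff_ne] at hb
    rcases r.2.2 with k | k
    · exact absurd ((mem_CZ_iff D r).1 (mem_CZ.2 ⟨RSub_comm r.2, mul_inv_eq_iff_eq_mul.1 k⟩)) hb
    · rw [hat_conj_flip D (Std.matR_spec D r) (RSub_comm r.2) k ha, hfix, ← mul_assoc,
        J.zb_comm (J.s.z_comm (D.hat_mem ha)), mul_assoc, D.hat_sq ha, ← J.zb_xor, Bool.xor_self, Bool.false_and]
  · rw [beq_iff_eq] at hb
    have hC : (r : G) ∈ CZ z π := (mem_CZ_iff D r).2 hb
    rw [D.hat_conj (c := ⟨r, hC⟩) (Std.matR_spec D r) ha, hfix, D.hat_sq ha, Bool.true_and]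

/-- When the central involution is a power of a product of two involutions. -/
theorem cond_iff {u v : G} {au av : ℕ} {Bu B : List ℕ} (cu : Code D u au Bu) (cv : Code D v av B)
    (hu : u * u = 1) (hv : v * v = 1) (hne : ¬ IsConj u v) {n : ℕ} (hn : ordM 12 (comp Bu B) = n) (hn0 : n ≠ 0) :
    z ∈ Subgroup.zpowers (u * v) ↔
      condH n (comp (pw 12 (comp Bu B) (n / 2)) gW0 == comp gW0 (pw 12 (comp Bu B) (n / 2)))
        (trnM 12 (comp Bu B) n) (trnM 12 (comp Bu B) (n / 2)) (Nat.xor au (ap Bu av)) = true := by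
  have c := cu.mul cv
  set g := comp Bu B
  set w := u * v with hw
  have hs : au ^^^ ap Bu av < 2 ^ 12 := c.lt
  set s := au ^^^ ap Bu av
  simp only [condH, show Nat.xor au (ap Bu av) = s from rfl, trnM_eq n hs, trnM_eq (n / 2) hs]
  obtain ⟨hid, hmin⟩ := ordM_spec (idn_twelve ▸ c.comp_one) hn hn0
  rw [idn_twelve] at hid hmin
  have cn := c.pow n
  rw [hid] at cn
  set x := trn g s n
  -- a power equal to the central involution is a power of the power
  have hpow : z ∈ Subgroup.zpowers w ↔ ∃ k : ℕ, (w ^ n) ^ k = z := by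
    constructor
    · intro h
      obtain ⟨j, hj⟩ := (isOfFinOrder_of_finite w).mem_powers_iff_mem_zpowers.2 h
      refine ⟨j / n, ?_⟩
      have hdvd : j % n = 0 := by
        by_contra hne'
        refine hmin (j % n) (Nat.pos_of_ne_zero hne') (Nat.mod_lt _ (Nat.pos_of_ne_zero hn0)) ?_
        have h1 := ((c.pow n).pow (j / n)).mul (c.pow (j % n))
        rw [← pow_mul, ← pow_add, Nat.div_add_mod, show w ^ j = z from hj, hid, pw_idB] at h1
        exact (c.pow (j % n)).one_comp ▸ (h1.unique ctr).2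
      rw [← pow_mul, show n * (j / n) = j by have := Nat.div_add_mod j n; omega]
      exact hj
    · rintro ⟨k, hk⟩
      rw [← hk, ← pow_mul]
      exact Subgroup.npow_mem_zpowers _ _
  rw [hpow]
  cases hx : Nat.beq x 0
  · -- the power is a lift of a nonzero vector
    rw [cond_false]
    have hx0 : x ≠ 0 := fun e => by rw [e, Nat.beq_refl] at hx; exact Bool.noConfusion hx
    have hb : comp idB gW0 = comp gW0 idB := by decide +kernel
    have h2 : w ^ n * w ^ n = zb z (anNum.testBit x) := by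
      rw [cn.sq (by decide +kernel) (ap_idB cn.lt), hb]; simp
    constructor
    · rintro ⟨k, hk⟩
      by_contra hx1
      rw [Bool.not_eq_true] at hx1
      rw [hx1] at h2
      rcases Nat.even_or_odd k with ⟨i, hi⟩ | ⟨i, hi⟩
      · rw [hi, ← two_mul, pow_mul, pow_two, h2] at hk
        exact J.z_ne (by simpa [zb] using hk.symm)
      · rw [hi, pow_succ, pow_mul, pow_two, h2] at hk
        simp [zb] at hk
        rw [hk] at cn
        exact hx0 (cn.unique ctr).1
    · intro hx1
      exact ⟨2, by rw [pow_two, h2, hx1]; rfl⟩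
  · rw [Nat.eq_of_beq_eq_true hx] at cn
    rw [cond_true]
    have hiff : (∃ k : ℕ, (w ^ n) ^ k = z) ↔ w ^ n = z := by
      refine ⟨fun ⟨k, hk⟩ => cn.mem_ker.resolve_left fun e => ?_, fun h => ⟨1, by rw [pow_one, h]⟩⟩
      rw [e, one_pow] at hk
      exact J.z_ne hk.symm
    rw [hiff]
    rcases Nat.mod_two_eq_zero_or_one n with hpar | hpar
    · have hm : n / 2 + n / 2 = n := by omega
      set m := n / 2
      have cm := c.pow m
      have hne1 : pw 12 g m ≠ idB := hmin m (by omega) (by omega)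
      have cmm := cm.mul cm
      rw [← pow_add, hm] at cmm
      obtain ⟨h1, h2⟩ := cn.unique cmm
      have hsq := cm.sq h2.symm (Nat.xor_eq_zero_iff.1 h1.symm).symm
      rw [← pow_add, hm] at hsq
      rw [hsq, hpar]
      constructor
      · intro h
        cases hb : ((comp (pw 12 g m) gW0 == comp gW0 (pw 12 g m)) && anNum.testBit (trn g s m))
        · rw [hb] at h; exact absurd h.symm J.z_ne
        · simp
      · intro h
        simp at h
        rw [show ((comp (pw 12 g m) gW0 == comp gW0 (pw 12 g m)) && anNum.testBit (trn g s m)) = true by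
          simpa using h]
        rfl
    · rw [hpar]
      simp only [Nat.beq_refl, Bool.true_or, iff_true]
      refine cn.mem_ker.resolve_left fun e => hne (conj_of_odd hu hv hpar e)
where
  pw_idB : ∀ {k : ℕ}, pw 12 idB k = idB := by
    intro k
    induction k with
    | zero => exact idn_twelve
    | succ k ih => rw [pw, ih]; decide +kernel

end Code

end CfsgLib.JFourOrder
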