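import Cfsg.Agent.Lib.JFourOrder.HFib

/-!
# The pairs over a central involution
-/

set_option autoImplicit false
set_option maxRecDepth 100000
set_option linter.style.haveILetI false
set_option linter.unusedSectionVars false

open Cfsg

namespace CfsgLib.JFourOrder

open CfsgLib.JFour

/-- The kind of a translation with conjugates of `z` over it. -/
def kindZ (a : ℕ) : ℕ := ((hZ.find? fun p => Nat.beq p.1 a).map fun p => p.2.1).getD 2

set_option maxHeartbeats 4000000 in
theorem hInU_ok : (fixL 12 (hRep 0)).all (fun a => Nat.beq (nzIn a) 0 || Nat.blt (kindZ a) 2) = true ∧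
    sumL (fun a => nzIn a * [9217, 255776].getD (kindZ a) 0) (fixL 12 (hRep 0)) = 24701968 := by
  decide +kernel

theorem hOutN_ok : (fixL 12 (hRep 1)).length = 64 ∧ ((List.range 4096).filter (inLay layA)).length = 693 ∧
    inLay layA 0 = false := by
  decide +kernel

variable {G : Type*} [Group G] [Fintype G] {M : Type*} [Group M] [Finite M] {z π : G} {E : Subgroup G}
variable {J : Ctx M z π E} {g : ℕ → M} {vec : ℕ → G} {V : Subgroup G}
variable {D : J.Std g vec V} {K : Subgroup G}

theorem sumL_const (f : ℕ → ℕ) (n : ℕ) : ∀ l : List ℕ, (∀ a ∈ l, f a = n) → sumL f l = l.length * n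
  | [], _ => by simp [sumL]
  | a :: l, h => by
    rw [sumL, h a List.mem_cons_self, sumL_const f n l fun b hb => h b (List.mem_cons_of_mem _ hb), List.length_cons]
    ring

theorem second_z (D : J.Std g vec V) : (secondSet (tEl J g vec) z z).card = 0 := by
  classical
  rw [Finset.card_eq_zero, Finset.eq_empty_iff_forall_notMem]
  intro v hv
  obtain ⟨ht, hz, hmem⟩ := mem_secondSet.1 hv
  obtain ⟨h2, h1, hnz⟩ := t_of D ht
  obtain ⟨j, hj⟩ := (isOfFinOrder_of_finite _).mem_powers_iff_mem_zpowers.2 hmem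
  have hsq : z * v * (z * v) = 1 := by
    rw [mul_assoc, ← mul_assoc v, hz, mul_assoc z v, h2, mul_one, J.zz]
  rcases Nat.even_or_odd j with ⟨i, hi⟩ | ⟨i, hi⟩ <;> subst hi
  · simp only [← two_mul, pow_mul, pow_two, hsq, one_pow] at hj
    exact J.z_ne hj.symm
  · simp only [pow_succ, pow_mul, pow_two, hsq, one_pow, one_mul] at hj
    exact h1 (mul_eq_left.1 hj)

/-- The pairs over the central involution. -/
theorem pairs_z (hK : Comp D K) : (J2Order.pairsAt z (tEl J g vec) z).card = 29236337328 := by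
  classical
  set F : G → ℕ := fun u => (secondSet (tEl J g vec) z u).card with hF
  rw [card_pairsAt J.zz (t_facts D).1 J.zz]
  set U := firstSet z z with hU
  have hUm : ∀ v, v ∈ U ↔ IsConj z v ∧ v * z = z * v := fun v => mem_firstSet
  have hFd : ∀ d u, d * z = z * d → F (d * u * d⁻¹) = F u := fun d u hd => card_secondSet_conj hd
  rw [sum_by_key (hkey D) hKey (hKey_injective D) U (f := F) fun v hv => ?_]
  swap
  · obtain ⟨a, B, -, -, -, hkey', i, hi⟩ := invol_codeH D ((hUm v).1 hv).2 (z_of J ((hUm v).1 hv).1).1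
    exact ⟨i, hkey'.trans hi.symm⟩
  have hmem : ∀ B v, v ∈ U.filter (fun v => hkey D v = B) ↔ IsConj z v ∧ v * z = z * v ∧ hkey D v = B := by
    intro B v
    rw [Finset.mem_filter, hUm, and_assoc]
  -- the elementary part
  have hE : ∑ v ∈ U.filter (fun v => hkey D v = hKey none), F v = 356767488 := by
    rw [show hKey none = idB from rfl]
    set l := 0 :: (List.range 4096).filter (inLay layA) with hl
    have hnd : l.Nodup := List.nodup_cons.2 ⟨fun h => by
      rw [List.mem_filter, hOutN_ok.2.2] at h; exact Bool.false_ne_true h.2, List.Nodup.filter _ List.nodup_range⟩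
    rw [sum_codes (D := D) hnd (IsConj z) F (fun a => if a = 0 then 0 else 2 * 257408) ?_ ?_ _ (hmem idB)]
    · rw [hl, sumL, if_pos rfl, zero_add, sumL_const _ (2 * 257408) _ (fun a ha => if_neg fun e => ?_), hOutN_ok.2.1]
      rw [e, List.mem_filter, hOutN_ok.2.2] at ha
      exact Bool.false_ne_true ha.2
    · intro v a hv hc
      rcases (E_lifts hc).2.1 hv with h | h
      · subst h
        rw [(hc.unique Code.ctr).1]
        exact List.mem_cons_self
      · exact List.mem_cons_of_mem _ (List.mem_filter.2 ⟨List.mem_range.2 hc.lt, h⟩)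
    · intro a ha
      rcases List.mem_cons.1 ha with rfl | ha
      · refine ⟨1, Code.one, ?_⟩
        rw [if_neg fun h => (z_of J h).2 rfl, mul_one, if_pos (IsConj.refl z), zero_add, if_pos rfl]
        exact second_z D
      · rw [List.mem_filter, List.mem_range] at ha
        have hc := Code.of_hat (D := D) ha.1
        refine ⟨_, hc, ?_⟩
        have ha0 : a ≠ 0 := fun e => by rw [e, hOutN_ok.2.2] at ha; exact Bool.false_ne_true ha.2
        rw [if_pos ((E_lifts hc).2.2 (Or.inr ha.2)), if_pos ((E_lifts hc.zmul).2.2 (Or.inr ha.2)), if_neg ha0]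
        have hzh : z * hat z π vec a = hat z π vec a * z := (J.s.z_comm (D.hat_mem ha.1)).symm
        obtain ⟨d0, hd0, he0⟩ := D.conj_seed (by norm_num) (by norm_num) layA_ok (show (76 : ℕ) < 4096 by norm_num)
          (by decide +kernel) (D.hat_rel 76)
        have h76 : F (vec 76) = 257408 := by
          rw [← hFd d0 (vec 76) hd0, he0]
          have hc0 : Code D (hat z π vec 76) (uH 0).1 (uH 0).2 := Code.of_hat (show (76 : ℕ) < 4096 by norm_num)
          exact second_totalH hK (k := 0) (by norm_num) hc0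
            ((E_lifts (Code.of_hat (D := D) (show (76 : ℕ) < 4096 by norm_num))).2.2 (Or.inr (by decide +kernel)))
        have hany : ∀ e, Rel z e (vec a) → F e = 257408 := fun e hr => by
          obtain ⟨d, hd, he⟩ := D.conj_seed (by norm_num) (by norm_num) layA_ok ha.1 ha.2 hr
          rw [← he, hFd d _ hd, h76]
        rw [hany _ (D.hat_rel a), hany _ (J.rel_trans (b := hat z π vec a) (Or.inr rfl) (D.hat_rel a))]
  -- the classes
  have hC : ∀ (c : Fin 3) (s : ℕ) (val : ℕ → ℕ), sumL (fun a => nzH c.1 a * val a) (fixL 12 (hRep c.1)) = s →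
      (∀ a ∈ fixL 12 (hRep c.1), nzH c.1 a ≠ 0 → ∀ v, IsConj z v → Code D v a (hRep c.1) → F v = val a) →
      ∑ i : Fin (hN c.1), ∑ v ∈ U.filter (fun v => hkey D v = hKey (some ⟨c, i⟩)), F v = hN c.1 * s := by
    intro c s val hs hval
    have hrep : ∑ v ∈ U.filter (fun v => hkey D v = hRep c.1), F v = s := by
      rw [← hs]
      refine sum_codes (D := D) (fixL_nodup _) (IsConj z) F _
        (fun v a hv hc => (mem_fix_of_code (z_of J hv).1 hc).1) (fun a ha => ?_) _ (hmem _)
      obtain ⟨v, hv, -, hz⟩ := rep_lifts hK c.2 ha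
      refine ⟨v, hv, ?_⟩
      rw [← hz]
      simp only [lifts]
      by_cases h1 : IsConj z v <;> by_cases h2 : IsConj z (z * v) <;>
        simp only [lifts, h1, h2, if_true, if_false] at hz ⊢
      · rw [hval a ha (by omega) v h1 hv, hval a ha (by omega) _ h2 hv.zmul]; ring
      · rw [hval a ha (by omega) v h1 hv]; ring
      · rw [hval a ha (by omega) _ h2 hv.zmul]; ring
      · simp
    rw [Finset.sum_eq_card_nsmul (b := s) fun i _ => ?_]
    · simp
    obtain ⟨x, hx⟩ := (repX D).class_mem (gensH D) (hClass_ok c.2) (hrp_spec D c.2) i.2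
    rw [← hrep, show hKey (some ⟨c, i⟩) = (repX D).ρ (x * hrp D c.1 c.2 * x⁻¹) from hx.symm,
      ← hrp_spec D c.2]
    have hd' : Code D (hat z π vec 0 * (preR D x : G)) 0 ((repX D).ρ x) := code_move D (by norm_num) x
    set d := hat z π vec 0 * (preR D x : G)
    have hd := hd'.comm
    refine (Finset.sum_bij (fun v _ => d * v * d⁻¹) (fun v hv => ?_) (fun a _ b _ h => (MulAut.conj d).injective h)
      (fun w hw => ⟨d⁻¹ * w * d, ?_, by group⟩) fun v _ => (hFd d v hd).symm).symm
    · rw [hmem] at hv ⊢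
      exact ⟨hv.1.trans (isConj_iff.2 ⟨d, rfl⟩), conj_facts hd hv.2.1, (key_conjX D hd' hv.2.1 _).2 hv.2.2⟩
    · rw [hmem] at hw ⊢
      have hc : d⁻¹ * w * d * z = z * (d⁻¹ * w * d) := by
        simpa using conj_facts (d := d⁻¹) ((show Commute d z from hd).inv_left.eq) hw.2.1
      refine ⟨hw.1.trans (isConj_iff.2 ⟨d⁻¹, by group⟩), hc, (key_conjX D hd' hc _).1 ?_⟩
      rw [show d * (d⁻¹ * w * d) * d⁻¹ = w by group]
      exact hw.2.2
  rw [Fintype.sum_option, Fintype.sum_sigma, Fin.sum_univ_three, hE]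
  rw [hC 0 24701968 (fun a => [9217, 255776].getD (kindZ a) 0) hInU_ok.2 ?_,
    hC 1 (64 * 5505) (fun _ => 5505) ?_ ?_, hC 2 0 (fun _ => 0) ?_ ?_]
  · rfl
  · rw [sumL_const _ 0 _ (fun a _ => by simp), Nat.mul_zero]
  · intro a _ hnz
    exact absurd rfl hnz
  · rw [sumL_const _ 5505 _ (fun a _ => by simp [nzH, Nat.beq]), show (fixL 12 (hRep ((1 : Fin 3) : ℕ))).length = 64 from hOutN_ok.1]
  · intro a ha _ v hv hc
    obtain ⟨i, hi, rfl⟩ := List.getElem_of_mem ha
    have h := List.all_eq_true.1 hOutB_ok 0 (by decide)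
    simp only [Bool.and_eq_true, List.all_eq_true, List.mem_range, Nat.blt_eq, Nat.beq_eq] at h
    obtain ⟨h1, h2⟩ := h.2 i hi
    have hlen : i < (hOutB.getD 0 []).length := by
      rw [h.1]; exact hi
    set b := (hOutB.getD 0 []).getD i 4096 with hb'
    have hb : (hOutB.getD 0 []).getD i 0 = b := by
      rw [hb', List.getD_eq_getElem (l := hOutB.getD 0 []) _ hlen, List.getD_eq_getElem (l := hOutB.getD 0 []) _ hlen]
    rw [List.getD_eq_getElem (l := fixL 12 (hRep (0 + 1))) _ hi, hb] at h2
    have hid : (repX D).ρ 1 = idB := by rw [(repX D).one, idn_twelve]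
    have hd := code_move D h1 (1 : ↥(permR D).range)
    set d := hat z π vec b * (preR D 1 : G)
    have hRl : ∃ l : ↥(permR D).range, (repX D).ρ l = (uH 3).2 := exists_hRep D (c := 1) (by norm_num)
    obtain ⟨l, hl⟩ := exists_hRep D (c := 1) (by norm_num)
    have hback : Code D (d⁻¹ * v * d) (uH 3).1 (uH 3).2 := by
      refine code_back D hd (show (0 : ℕ) < 4096 by norm_num) hRl ?_
      rw [inv_one, hid, show (uH 3).2 = hRep 1 from rfl, show (uH 3).1 = 0 from rfl, ap_zero, Nat.xor_zero,
        show cj idB idB (hRep 1) = hRep 1 by decide +kernel]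
      convert hc using 1
      all_goals first | exact h2 | rfl
    rw [← hFd d⁻¹ v ((show Commute d z from hd.comm).inv_left.eq), inv_inv]
    exact second_totalH hK (k := 3) (by norm_num) hback (hv.trans (isConj_iff.2 ⟨d⁻¹, by group⟩))
  · -- over the inner representative
    intro a ha hnz v hv hc
    have hk := List.all_eq_true.1 hInU_ok.1 a ha
    simp only [Bool.or_eq_true, Nat.beq_eq, Nat.blt_eq] at hk
    replace hk := hk.resolve_left hnz
    obtain ⟨p, hp, hpa⟩ : ∃ p ∈ hZ, p.1 = a ∧ p.2.1 = kindZ a := by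
      unfold kindZ at hk ⊢
      cases hf : hZ.find? fun p => Nat.beq p.1 a with
      | none => rw [hf] at hk; simp at hk
      | some p => exact ⟨p, List.mem_of_find?_eq_some hf, Nat.eq_of_beq_eq_true (List.find?_some hf :), by simp⟩
    have h := List.all_eq_true.1 hZ_ok p hp
    simp only [Bool.and_eq_true, Nat.blt_eq, Nat.beq_eq] at h
    obtain ⟨⟨⟨hb, hk2⟩, hW⟩, hpe⟩ := h
    have hw := List.all_eq_true.1 hZW_ok (hZW.getD p.2.2.2 ([], [], []))
      (by rw [List.getD_eq_getElem _ _ hW]; exact List.getElem_mem hW)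
    simp only [Bool.and_eq_true, beq_iff_eq] at hw
    set q := hZW.getD p.2.2.2 ([], [], [])
    obtain ⟨x, hx⟩ := word_member D hw.1.1
    have hxi : (repX D).ρ x⁻¹ = q.2.1 := (repX D).inv_eq hx hw.1.2
    have hd := code_move D hb x
    have hu : (uH (p.2.1 + 1)).1 < 4096 ∧ (uH (p.2.1 + 1)).2 = hRep 0 := by
      rcases (show p.2.1 = 0 ∨ p.2.1 = 1 by omega) with e | e <;> rw [e] <;> exact ⟨by decide, rfl⟩
    set d := hat z π vec p.2.2.1 * (preR D x : G)
    have hback : Code D (d⁻¹ * v * d) (uH (p.2.1 + 1)).1 (uH (p.2.1 + 1)).2 := by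
      refine code_back D hd hu.1 (hu.2 ▸ exists_hRep D (c := 0) (by norm_num)) ?_
      rw [hu.2, hx, hxi, hw.2]
      convert hc using 1
      rw [← hpa.1, hpe]
      all_goals rfl
    rw [← hFd d⁻¹ v ((show Commute d z from hd.comm).inv_left.eq), inv_inv]
    rw [show F (d⁻¹ * v * d) = _ from second_totalH hK (k := p.2.1 + 1) (by omega) hback
      (hv.trans (isConj_iff.2 ⟨d⁻¹, by group⟩)), ← hpa.2]
    rcases (show p.2.1 = 0 ∨ p.2.1 = 1 by omega) with e | e <;> rw [e] <;> rfl

end CfsgLib.JFourOrder
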