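import Cfsg.Agent.Lib.JFourOrder.HFast

/-!
# Kernel checks of the values of representative 0
-/

set_option autoImplicit false
set_option Elab.async false
set_option maxRecDepth 100000
set_option maxHeartbeats 4000000

namespace CfsgLib.JFourOrder

open CfsgLib.JFour (idB)

theorem hMv0_ok : mvH 0 = true := by decide +kernel

theorem hMvMoves0 : movesOK 12 ((hMv 0).map Prod.snd) hMvK0 = true := by decide +kernel

theorem hStepF00 : stepHF 0 0 hMvK0 = true := by decide +kernel

theorem hStepF01 : stepHF 0 1 hMvK0 = true := by decide +kernel

theorem hStepF02 : stepHF 0 2 hMvK0 = true := by decide +kernel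

theorem hTot0 : valHF (uH 0).1 (uH 0).2 eList idB + sumH 0 = 257408 := by decide +kernel

theorem hUD0 : okD 12 (uH 0).2 = true := by decide +kernel

end CfsgLib.JFourOrder
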