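import Cfsg.Agent.Lib.JFourOrder.HFast

/-!
# Kernel checks of the values of representative 1
-/

set_option autoImplicit false
set_option Elab.async false
set_option maxRecDepth 100000
set_option maxHeartbeats 4000000

namespace CfsgLib.JFourOrder

open CfsgLib.JFour (idB)

theorem hMv1_ok : mvH 1 = true := by decide +kernel

theorem hMvMoves1 : movesOK 12 ((hMv 1).map Prod.snd) hMvK1 = true := by decide +kernel

theorem hStepF10 : stepHF 1 0 hMvK1 = true := by decide +kernel

theorem hStepF11 : stepHF 1 1 hMvK1 = true := by decide +kernel

theorem hStepF12 : stepHF 1 2 hMvK1 = true := by decide +kernel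

theorem hTot1 : valHF (uH 1).1 (uH 1).2 eList idB + sumH 1 = 9217 := by decide +kernel

theorem hUD1 : okD 12 (uH 1).2 = true := by decide +kernel

end CfsgLib.JFourOrder
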