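import Cfsg.Agent.Lib.JFourOrder.HFast

/-!
# Kernel checks of the values of representative 2
-/

set_option autoImplicit false
set_option Elab.async false
set_option maxRecDepth 100000
set_option maxHeartbeats 4000000

namespace CfsgLib.JFourOrder

open CfsgLib.JFour (idB)

theorem hMv2_ok : mvH 2 = true := by decide +kernel

theorem hMvMoves2 : movesOK 12 ((hMv 2).map Prod.snd) hMvK2 = true := by decide +kernel

theorem hStepF20 : stepHF 2 0 hMvK2 = true := by decide +kernel

theorem hStepF21 : stepHF 2 1 hMvK2 = true := by decide +kernel

theorem hStepF22 : stepHF 2 2 hMvK2 = true := by decide +kernel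

theorem hTot2 : valHF (uH 2).1 (uH 2).2 eList idB + sumH 2 = 255776 := by decide +kernel

theorem hUD2 : okD 12 (uH 2).2 = true := by decide +kernel

end CfsgLib.JFourOrder
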