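import Cfsg.Agent.Lib.JFourOrder.HFast

/-!
# Kernel checks of the values of representative 3
-/

set_option autoImplicit false
set_option Elab.async false
set_option maxRecDepth 100000
set_option maxHeartbeats 4000000

namespace CfsgLib.JFourOrder

open CfsgLib.JFour (idB)

theorem hMv3_ok : mvH 3 = true := by decide +kernel

theorem hMvMoves3 : movesOK 12 ((hMv 3).map Prod.snd) hMvK3 = true := by decide +kernel

theorem hStepF30 : stepHF 3 0 hMvK3 = true := by decide +kernel

theorem hStepF31 : stepHF 3 1 hMvK3 = true := by decide +kernel

theorem hStepF32 : stepHF 3 2 hMvK3 = true := by decide +kernel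

theorem hTot3 : valHF (uH 3).1 (uH 3).2 eList idB + sumH 3 = 5505 := by decide +kernel

theorem hUD3 : okD 12 (uH 3).2 = true := by decide +kernel

end CfsgLib.JFourOrder
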