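import Cfsg.Agent.Lib.JFourOrder.HLabels
import Cfsg.Agent.Lib.JFourOrder.HValChecks0
import Cfsg.Agent.Lib.JFourOrder.HValChecks1
import Cfsg.Agent.Lib.JFourOrder.HValChecks2
import Cfsg.Agent.Lib.JFourOrder.HValChecks3

/-!
# The second factors in the centralizer of the central involution, by key
-/

set_option autoImplicit false
set_option maxRecDepth 100000
set_option linter.style.haveILetI false
set_option linter.unusedSectionVars false

open Cfsg

namespace CfsgLib.JFourOrder

open CfsgLib.JFour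

theorem sumL_list {α : Type*} (f : α → ℕ) : ∀ l : List α, sumL f l = (l.map f).sum
  | [] => rfl
  | x :: l => by simp [sumL, sumL_list f l]

theorem sumL_map {α β : Type*} (f : β → ℕ) (h : α → β) : ∀ l : List α, sumL f (l.map h) = sumL (fun x => f (h x)) l
  | [] => rfl
  | x :: l => by simp [sumL, sumL_map f h l]

theorem sum_range' (f : ℕ → ℕ) (n : ℕ) : sumL f (List.range n) = ∑ i ∈ Finset.range n, f i := by
  rw [sumL_list, ← List.sum_toFinset _ List.nodup_range, List.toFinset_range]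

theorem hTotals : ∀ u < 4, mvH u = true ∧ (∀ c < 3, stepH u c = true) ∧
    valH (uH u).1 (uH u).2 eList idB + sumH u = [257408, 9217, 255776, 5505].getD u 0 := by
  have hk : ∀ c < 3, ∀ i < hN c, pk 12 (getM 12 (hCh c) i) = keyM 12 (hCh c) i := by
    intro c hc i hi
    have h := hClass_ok hc
    simp only [classOK, Bool.and_eq_true, List.all_eq_true, List.mem_range, Nat.beq_eq] at h
    exact (h.2 i hi).2
  have hd : ∀ c < 3, okD 12 (hRep c) = true := fun c hc => by
    interval_cases c; exacts [hRepD0, hRepD1, hRepD2]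
  have hi : okD 12 idB = true := by decide +kernel
  have key : ∀ {u : ℕ} {gks : List ℕ}, movesOK 12 ((hMv u).map Prod.snd) gks = true → stepHF u 0 gks = true →
      stepHF u 1 gks = true → stepHF u 2 gks = true → ∀ c < 3, stepH u c = true := by
    intro u gks hm h0 h1 h2 c hc
    refine stepH_of_fast (hd c hc) hm (hk c hc) ?_
    interval_cases c <;> assumption
  intro u hu
  interval_cases u
  · exact ⟨hMv0_ok, key hMvMoves0 hStepF00 hStepF01 hStepF02, by rw [← valHF_eq hUD0 hi]; exact hTot0⟩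
  · exact ⟨hMv1_ok, key hMvMoves1 hStepF10 hStepF11 hStepF12, by rw [← valHF_eq hUD1 hi]; exact hTot1⟩
  · exact ⟨hMv2_ok, key hMvMoves2 hStepF20 hStepF21 hStepF22, by rw [← valHF_eq hUD2 hi]; exact hTot2⟩
  · exact ⟨hMv3_ok, key hMvMoves3 hStepF30 hStepF31 hStepF32, by rw [← valHF_eq hUD3 hi]; exact hTot3⟩

variable {G : Type*} [Group G] [Fintype G] {M : Type*} [Group M] [Finite M] {z π : G} {E : Subgroup G}
variable {J : Ctx M z π E} {g : ℕ → M} {vec : ℕ → G} {V : Subgroup G}
variable {D : J.Std g vec V} {K : Subgroup G}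

theorem code_move (D : J.Std g vec V) {b : ℕ} (hb : b < 4096) (x : ↥(permR D).range) :
    Code D (hat z π vec b * (preR D x : G)) b ((repX D).ρ x) := by
  have := (Code.of_hat (D := D) hb).mul (Code.of_R (D := D) (preR D x))
  rwa [ap_zero, Nat.xor_zero, (Code.of_R (D := D) (preR D x)).one_comp] at this

theorem cols_member (D : J.Std g vec V) {h : G} {a : ℕ} {B : List ℕ} (c : Code D h a B) :
    ∃ l : ↥(permR D).range, (repX D).ρ l = B := by
  obtain ⟨-, r, -, hr⟩ := c
  exact ⟨imX D r, by rw [repX_im, hr]⟩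

theorem conjX (D : J.Std g vec V) (x l : ↥(permR D).range) :
    (repX D).ρ (x * l * x⁻¹) = cj ((repX D).ρ x) ((repX D).ρ x⁻¹) ((repX D).ρ l) :=
  (repX D).conj_eq rfl rfl

theorem code_conjX (D : J.Std g vec V) {d h : G} {a b : ℕ} {B : List ℕ} {x : ↥(permR D).range}
    (hd : Code D d b ((repX D).ρ x)) (hh : Code D h a B) :
    Code D (d * h * d⁻¹) ((b ^^^ ap ((repX D).ρ x) a) ^^^ ap (cj ((repX D).ρ x) ((repX D).ρ x⁻¹) B) b)
      (cj ((repX D).ρ x) ((repX D).ρ x⁻¹) B) :=
  hd.conj hh (by rw [← (repX D).mul, inv_mul_cancel, (repX D).one, idn_twelve])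
    (by rw [← idn_twelve]; exact (repX D).comp_id _)

theorem key_conjX (D : J.Std g vec V) {d v : G} {b : ℕ} {x : ↥(permR D).range}
    (hd : Code D d b ((repX D).ρ x)) (hv : v * z = z * v) (l : ↥(permR D).range) :
    hkey D (d * v * d⁻¹) = (repX D).ρ (x * l * x⁻¹) ↔ hkey D v = (repX D).ρ l := by
  obtain ⟨a, B, hc⟩ := Code.exists_code D hv
  obtain ⟨m, rfl⟩ := cols_member D hc
  rw [hkey_code D hc, hkey_code D (code_conjX D hd hc), ← conjX]
  constructor
  · intro h
    exact congrArg (repX D).ρ (mul_left_cancel (mul_right_cancel ((repX D).inj h)))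
  · intro h
    rw [(repX D).inj h]

/-- An element with the code of a conjugate is the conjugate of an element with the code. -/
theorem code_back (D : J.Std g vec V) {d h : G} {a b : ℕ} {B : List ℕ} {x : ↥(permR D).range}
    (hd : Code D d b ((repX D).ρ x)) (ha : a < 4096) (hB : ∃ l : ↥(permR D).range, (repX D).ρ l = B)
    (hh : Code D h ((b ^^^ ap ((repX D).ρ x) a) ^^^ ap (cj ((repX D).ρ x) ((repX D).ρ x⁻¹) B) b)
      (cj ((repX D).ρ x) ((repX D).ρ x⁻¹) B)) :
    Code D (d⁻¹ * h * d) a B := by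
  have hz : d⁻¹ * h * d * z = z * (d⁻¹ * h * d) :=
    (((show Commute d z from hd.comm).inv_left.mul_left (show Commute h z from hh.comm)).mul_left
      (show Commute d z from hd.comm)).eq
  obtain ⟨a', B', hc⟩ := Code.exists_code D hz
  have h' := code_conjX D hd hc
  rw [show d * (d⁻¹ * h * d) * d⁻¹ = h by group] at h'
  obtain ⟨e1, e2⟩ := h'.unique hh
  obtain ⟨m, rfl⟩ := hB
  obtain ⟨m', rfl⟩ := cols_member D hc
  rw [← conjX, ← conjX] at e2
  have hm : m' = m := mul_left_cancel (mul_right_cancel ((repX D).inj e2))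
  subst hm
  have e3 : ap ((repX D).ρ x) a' = ap ((repX D).ρ x) a := by
    have e4 := congrArg (fun t => t ^^^ ap (cj ((repX D).ρ x) ((repX D).ρ x⁻¹) ((repX D).ρ m')) b) e1
    simp only [Nat.xor_assoc, Nat.xor_self, Nat.xor_zero] at e4
    exact Nat.xor_right_injective e4
  have hid : comp ((repX D).ρ x⁻¹) ((repX D).ρ x) = idB := by
    rw [← (repX D).mul, inv_mul_cancel, (repX D).one, idn_twelve]
  have e5 := congrArg (ap ((repX D).ρ x⁻¹)) e3
  rw [← ap_comp, ← ap_comp, hid, ap_idB hc.lt, ap_idB ha] at e5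
  exact e5 ▸ hc

/-- A sum over the members with a property and a key, by translations. -/
theorem sum_codes {B : List ℕ} {l : List ℕ} (hnd : l.Nodup) (P : G → Prop) (f : G → ℕ) (val : ℕ → ℕ)
    (hin : ∀ v a, P v → Code D v a B → a ∈ l)
    (h : ∀ a ∈ l, ∃ v, Code D v a B ∧
      haveI := Classical.decPred P
      (if P v then f v else 0) + (if P (z * v) then f (z * v) else 0) = val a)
    (S : Finset G) (hS : ∀ v, v ∈ S ↔ P v ∧ v * z = z * v ∧ hkey D v = B) :
    ∑ v ∈ S, f v = sumL val l := by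
  classical
  choose! w hw hwv using h
  have hne : ∀ v : G, v ≠ z * v := fun v e => J.z_ne (mul_eq_right.1 e.symm)
  set T : ℕ → Finset G := fun a => ({w a, z * w a} : Finset G).filter P with hT
  have hcode : ∀ {a v}, a ∈ l → v ∈ T a → Code D v a B := fun {a v} ha hv => by
    simp only [hT, Finset.mem_filter, Finset.mem_insert, Finset.mem_singleton] at hv
    rcases hv.1 with e | e <;> rw [e]
    exacts [hw a ha, (hw a ha).zmul]
  have hset : S = l.toFinset.biUnion T := by
    ext v
    rw [hS, Finset.mem_biUnion]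
    constructor
    · rintro ⟨hP, hz, hk⟩
      obtain ⟨a, B', hc⟩ := Code.exists_code D hz
      rw [hkey_code D hc] at hk
      subst hk
      have ha := hin v a hP hc
      refine ⟨a, List.mem_toFinset.2 ha, ?_⟩
      simp only [hT, Finset.mem_filter, Finset.mem_insert, Finset.mem_singleton]
      exact ⟨(hw a ha).rel hc, hP⟩
    · rintro ⟨a, ha, hv⟩
      have hc := hcode (List.mem_toFinset.1 ha) hv
      exact ⟨(Finset.mem_filter.1 hv).2, hc.comm, hkey_code D hc⟩
  have hdisj : (l.toFinset : Set ℕ).PairwiseDisjoint T := fun a ha b hb hab => Finset.disjoint_left.2 fun v h1 h2 =>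
    hab ((hcode (List.mem_toFinset.1 ha) h1).unique (hcode (List.mem_toFinset.1 hb) h2)).1
  rw [hset, Finset.sum_biUnion hdisj, List.sum_toFinset _ hnd, sumL_list]
  refine congrArg List.sum (List.map_congr_left fun a ha => ?_)
  rw [hT, Finset.sum_filter, Finset.sum_pair (hne _), ← hwv a ha]

/-- The listed second factors over one key are counted by the arithmetic of codes. -/
theorem fib_eqH {u : G} {au : ℕ} {Bu B : List ℕ} (cu : Code D u au Bu) (hu : IsConj z u) {l : List ℕ}
    (nt : ℕ → ℕ) (hnd : l.Nodup) (hin : ∀ v a, IsConj (tEl J g vec) v → Code D v a B → a ∈ l)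
    (hlift : ∀ a ∈ l, ∃ v, Code D v a B ∧ lifts (IsConj (tEl J g vec)) z v = nt a)
    (hne : valH au Bu (l.map fun a => (a, nt a)) B ≠ 2 ^ 30) :
    fib (hkey D) (tEl J g vec) z u B = valH au Bu (l.map fun a => (a, nt a)) B := by
  classical
  simp only [valH] at hne ⊢
  set n := ordM 12 (comp Bu B) with hn
  cases hb : Nat.beq n 0
  swap
  · rw [hb, cond_true] at hne; exact absurd rfl hne
  have hn0 : n ≠ 0 := fun e => by rw [e, Nat.beq_refl] at hb; exact Bool.noConfusion hb
  rw [cond_false, sumL_map, fib, Finset.card_eq_sum_ones]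
  refine sum_codes (D := D) hnd (fun v => IsConj (tEl J g vec) v ∧ z ∈ Subgroup.zpowers (u * v)) (fun _ => 1) _
    (fun v a hv => hin v a hv.1) (fun a ha => ?_) _ (fun v => ?_)
  · obtain ⟨v, hv, hlv⟩ := hlift a ha
    refine ⟨v, hv, ?_⟩
    have hc : ∀ w : G, Code D w a B → IsConj (tEl J g vec) w → (z ∈ Subgroup.zpowers (u * w) ↔
        condH n (comp (pw 12 (comp Bu B) (n / 2)) gW0 == comp gW0 (pw 12 (comp Bu B) (n / 2)))
          (trnM 12 (comp Bu B) n) (trnM 12 (comp Bu B) (n / 2)) (Nat.xor au (ap Bu a)) = true) := fun w hw ht =>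
      cu.cond_iff hw (conj_sq J.zz hu) (t_of D ht).1 (fun e => (t_of D ht).2.2 (hu.trans e)) hn.symm hn0
    simp only [← hlv, lifts]
    cases hcd : condH n (comp (pw 12 (comp Bu B) (n / 2)) gW0 == comp gW0 (pw 12 (comp Bu B) (n / 2)))
        (trnM 12 (comp Bu B) n) (trnM 12 (comp Bu B) (n / 2)) (Nat.xor au (ap Bu a))
    · have no : ∀ w, Code D w a B → ¬(IsConj (tEl J g vec) w ∧ z ∈ Subgroup.zpowers (u * w)) := fun w hw h =>
        absurd ((hc w hw h.1).1 h.2) (by rw [hcd]; exact Bool.false_ne_true)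
      rw [cond_false, if_neg (no v hv), if_neg (no _ hv.zmul)]
    · have e : ∀ w, Code D w a B →
          ((IsConj (tEl J g vec) w ∧ z ∈ Subgroup.zpowers (u * w)) ↔ IsConj (tEl J g vec) w) :=
        fun w hw => and_iff_left_of_imp fun h => (hc w hw h).2 hcd
      simp only [cond_true, e v hv, e _ hv.zmul]
      by_cases h1 : IsConj (tEl J g vec) v <;> by_cases h2 : IsConj (tEl J g vec) (z * v) <;>
        simp [h1, h2, -isConj_iff]
  · simp only [Finset.mem_filter, mem_secondSet]
    tauto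

theorem fixL_nodup (L : List ℕ) : (fixL 12 L).Nodup := List.Nodup.filter _ List.nodup_range

theorem mem_fix_of_code {v : G} {a : ℕ} {B : List ℕ} (hv : v * v = 1) (c : Code D v a B) :
    a ∈ fixL 12 B ∧ comp B B = idB := by
  obtain ⟨h1, h2⟩ := Code.unique (hv ▸ c.mul c) Code.one
  rw [fixL, List.mem_filter, List.mem_range, Nat.beq_eq]
  exact ⟨⟨c.lt, (Nat.xor_eq_zero_iff.1 h1).symm⟩, h2⟩

theorem fib_rep (hK : Comp D K) {u : G} {au : ℕ} {Bu : List ℕ} (cu : Code D u au Bu) (hu : IsConj z u) {c : ℕ}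
    (hc : c < 3) (hne : valH au Bu (hList c) (hRep c) ≠ 2 ^ 30) :
    fib (hkey D) (tEl J g vec) z u (hRep c) = valH au Bu (hList c) (hRep c) :=
  fib_eqH cu hu (ntH c) (fixL_nodup _) (fun v a hv hcv => (mem_fix_of_code (t_of D hv).1 hcv).1)
    (fun a ha => by
      obtain ⟨v, h1, h2, -⟩ := rep_lifts hK hc ha
      exact ⟨v, h1, h2⟩) hne

theorem fib_entryH (hK : Comp D K) {k : ℕ} {c : ℕ} (hc : c < 3) (hmv : mvH k = true) (hstep : stepH k c = true) :
    ∀ i < hN c, ∀ u : G, Code D u (uH k).1 (uH k).2 → IsConj z u →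
      fib (hkey D) (tEl J g vec) z u (getM 12 (hCh c) i) = valI (hVl k c) i := by
  suffices H : ∀ f i, i < hN c → dpI (hVa k c) i ≤ f → ∀ u : G, Code D u (uH k).1 (uH k).2 → IsConj z u →
      fib (hkey D) (tEl J g vec) z u (getM 12 (hCh c) i) = valI (hVl k c) i from
    fun i hi => H _ i hi le_rfl
  have hstep' : ∀ i < hN c, valStep 12 (hN c) (hMv k) (hCh c) (hVa k c) (hVl k c)
      (rootH k c (hList c) (hRep c)) i = true := fun i hi => List.all_eq_true.1 hstep i (List.mem_range.2 hi)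
  intro f
  induction f with
  | zero => exact fun i hi hd => hroot i hi (Nat.le_zero.1 hd)
  | succ f ih =>
    intro i hi hd u cu hu
    by_cases hd0 : dpI (hVa k c) i = 0
    · exact hroot i hi hd0 u cu hu
    have h := hstep' i hi
    have hb : Nat.beq (dpI (hVa k c) i) 0 = false := by rw [nat_beq_decide]; exact decide_eq_false hd0
    rw [valStep, hb, cond_false] at h
    simp only [Bool.and_eq_true, Nat.blt_eq, Nat.beq_eq, beq_iff_eq] at h
    obtain ⟨⟨⟨⟨hp, hdp⟩, hm⟩, hval⟩, hget⟩ := h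
    have hm' := List.all_eq_true.1 hmv (mvI (hVa k c) i) (List.mem_range.2 hm)
    simp only [mvH.pairOK12, Bool.and_eq_true, Nat.blt_eq, Nat.beq_eq, beq_iff_eq] at hm'
    set m := (hMv k).getD (mvI (hVa k c) i) (0, [], [])
    obtain ⟨⟨⟨⟨hw, hpair⟩, hblt⟩, hfixB⟩, hfixa⟩ := hm'
    obtain ⟨x, hx⟩ := word_member D hw
    have hxi : (repX D).ρ x⁻¹ = m.2.2 := (repX D).inv_eq hx (by simp [pairOK, hpair.1, hpair.2])
    have hd : Code D (hat z π vec m.1 * (preR D x : G)) m.1 ((repX D).ρ x) := code_move D hblt x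
    set d := hat z π vec m.1 * (preR D x : G)
    have hu0 : Code D (d⁻¹ * u * d) (uH k).1 (uH k).2 := by
      refine code_back D hd cu.lt (cols_member D cu) ?_
      rw [hx, hxi, hfixB]
      convert cu using 1
      exact hfixa
    obtain ⟨l, hl⟩ := (repX D).class_mem (gensH D) (hClass_ok hc) (hrp_spec D hc) hp
    set l' := l * hrp D c hc * l⁻¹
    have hget' : (repX D).ρ (x * l' * x⁻¹) = getM 12 (hCh c) i := by
      rw [(repX D).conj_eq hx hxi, hl, hget]
    rw [← hval, ← ih _ hp (by omega) _ hu0 (hu.trans (isConj_iff.2 ⟨d⁻¹, by group⟩)), ← hget', ← hl]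
    have h := fib_conj (hkey D) (t := tEl J g vec) (u := d⁻¹ * u * d) hd.comm fun y hy => key_conjX D hd hy l'
    rw [show d * (d⁻¹ * u * d) * d⁻¹ = u by group] at h
    exact h.symm
where
  hroot : ∀ i < hN c, dpI (hVa k c) i = 0 → ∀ u : G, Code D u (uH k).1 (uH k).2 → IsConj z u →
      fib (hkey D) (tEl J g vec) z u (getM 12 (hCh c) i) = valI (hVl k c) i := by
    intro i hi hd0 u cu hu
    have h := List.all_eq_true.1 hstep i (List.mem_range.2 hi)
    rw [valStep, hd0, Nat.beq_refl, cond_true, Nat.beq_eq] at h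
    rw [← h]
    have hdp : dpI (hAux c) i ≤ 127 := by
      have h1 : tab (hAux c) 24 i < 2 ^ 24 := Nat.mod_lt _ (by positivity)
      have : tab (hAux c) 24 i / 131072 < 128 := Nat.div_lt_of_lt_mul (by norm_num at h1 ⊢; omega)
      rw [dpI]; omega
    obtain ⟨x, hx, hxi, hxc⟩ := (repX D).trv_spec (gensH D) (hClass_ok hc) (hrp_spec D hc) 127 i hi hdp
    have hd : Code D (hat z π vec 0 * (preR D x⁻¹ : G)) 0 ((repX D).ρ x⁻¹) := code_move D (by norm_num) x⁻¹
    set d := hat z π vec 0 * (preR D x⁻¹ : G)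
    have hkey' : ∀ y, y * z = z * y →
        (hkey D (d * y * d⁻¹) = hRep c ↔ hkey D y = getM 12 (hCh c) i) := fun y hy => by
      have := key_conjX D hd hy (x * hrp D c hc * x⁻¹)
      rwa [show x⁻¹ * (x * hrp D c hc * x⁻¹) * (x⁻¹)⁻¹ = hrp D c hc by group, hxc, hrp_spec] at this
    rw [fib_conj (hkey D) hd.comm hkey']
    have cu' := code_conjX D hd cu
    rw [inv_inv, hxi, hx, ap_zero, Nat.xor_zero, Nat.zero_xor] at cu'
    refine fib_rep hK cu' (hu.trans (isConj_iff.2 ⟨d, rfl⟩)) hc ?_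
    show rootH k c (hList c) (hRep c) i ≠ 2 ^ 30
    rw [h]
    have : valI (hVl k c) i < 2 ^ 24 := Nat.mod_lt _ (by positivity)
    omega

/-- The number of second factors of a representative. -/
theorem second_totalH (hK : Comp D K) {k : ℕ} (hk : k < 4) {u : G} (cu : Code D u (uH k).1 (uH k).2)
    (hu : IsConj z u) :
    (secondSet (tEl J g vec) z u).card = [257408, 9217, 255776, 5505].getD k 0 := by
  classical
  obtain ⟨hmv, hstep, htot⟩ := hTotals k hk
  rw [card_by_key (hkey D) hKey (hKey_injective D) _ _ _ fun v hv => ?_]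
  swap
  · rw [mem_secondSet] at hv
    obtain ⟨a, B, -, -, -, hkey', i, hi⟩ := invol_codeH D hv.2.1 (t_of D hv.1).1
    exact ⟨i, hkey'.trans hi.symm⟩
  rw [Fintype.sum_option, Fintype.sum_sigma, Fin.sum_univ_three, ← htot]
  have hv : ∀ (c : Fin 3), (∑ i : Fin (hN c.1), fib (hkey D) (tEl J g vec) z u (hKey (some ⟨c, i⟩))) =
      sumL (valI (hVl k c.1)) (List.range (hN c.1)) := by
    intro c
    rw [sum_range', ← Fin.sum_univ_eq_sum_range]
    exact Finset.sum_congr rfl fun i _ => fib_entryH hK c.2 hmv (hstep c.1 c.2) i.1 i.2 u cu hu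
  rw [hv 0, hv 1, hv 2]
  have hne : valH (uH k).1 (uH k).2 eList idB ≠ 2 ^ 30 := by
    intro e
    rw [e] at htot
    interval_cases k <;> norm_num at htot <;> omega
  have h0 := fib_eqH cu hu (B := idB) (l := (List.range 4096).filter (inLay layB)) (fun _ => 2)
    (List.Nodup.filter _ List.nodup_range)
    (fun v a hv hcv => List.mem_filter.2 ⟨List.mem_range.2 hcv.lt, (E_lifts hcv).1.1 hv⟩)
    (fun a ha => by
      rw [List.mem_filter, List.mem_range] at ha
      refine ⟨_, Code.of_hat ha.1, lifts_both ((E_lifts (Code.of_hat (D := D) ha.1)).1.2 ha.2)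
        ((E_lifts (Code.of_hat (D := D) ha.1).zmul).1.2 ha.2)⟩) hne
  rw [show hKey none = idB from rfl, h0]
  show valH (uH k).1 (uH k).2 eList idB + _ = _ + sumH k
  simp only [sumH, show List.range 3 = [0, 1, 2] from rfl, sumL, Fin.val_zero, Fin.val_one, Fin.val_two,
    Nat.add_zero, Nat.add_assoc]

end CfsgLib.JFourOrder
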