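import Cfsg.Agent.Lib.J2Order.Formula

/-!
# Counting pairs of involutions by keys

The pairs over an involution `x` are counted by the first member, and for a fixed first member by a key of the
second member which conjugation respects.
-/

set_option autoImplicit false
set_option linter.unusedSectionVars false

open CfsgLib.J2Order

namespace CfsgLib.JFourOrder

variable {G : Type*} [Group G] [Fintype G]

/-- The conjugates of `z` commuting with `x`. -/
noncomputable def firstSet (z x : G) : Finset G :=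
  haveI := Classical.decEq G
  haveI := Classical.decPred fun u : G => IsConj z u ∧ u * x = x * u
  Finset.univ.filter fun u => IsConj z u ∧ u * x = x * u

/-- The second members for the first member `u`. -/
noncomputable def secondSet (t x u : G) : Finset G :=
  haveI := Classical.decPred fun v : G => IsConj t v ∧ v * x = x * v ∧ x ∈ Subgroup.zpowers (u * v)
  Finset.univ.filter fun v => IsConj t v ∧ v * x = x * v ∧ x ∈ Subgroup.zpowers (u * v)

/-- The second members with a given key. -/
noncomputable def fib {κ : Type*} (key : G → κ) (t x u : G) (B : κ) : ℕ :=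
  haveI := Classical.decPred fun v : G => key v = B
  ((secondSet t x u).filter fun v => key v = B).card

theorem mem_firstSet {z x u : G} : u ∈ firstSet z x ↔ IsConj z u ∧ u * x = x * u := by
  simp [firstSet]

theorem mem_secondSet {t x u v : G} :
    v ∈ secondSet t x u ↔ IsConj t v ∧ v * x = x * v ∧ x ∈ Subgroup.zpowers (u * v) := by
  simp [secondSet]

theorem commute_of_invert {x u v : G} (hu : u * u = 1) (hv : v * v = 1) (hx : x * x = 1)
    (h : x ∈ Subgroup.zpowers (u * v)) : u * x = x * u ∧ v * x = x * v := by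
  obtain ⟨j, rfl⟩ := Subgroup.mem_zpowers_iff.1 h
  have hui : u⁻¹ = u := inv_eq_of_mul_eq_one_right hu
  have hvi : v⁻¹ = v := inv_eq_of_mul_eq_one_right hv
  have hxi : ((u * v) ^ j)⁻¹ = (u * v) ^ j := inv_eq_of_mul_eq_one_right hx
  have e1 : u * (u * v) * u⁻¹ = (u * v)⁻¹ := by
    rw [mul_inv_rev, hvi, hui, ← mul_assoc, hu, one_mul]
  have e2 : v * (u * v) * v⁻¹ = (u * v)⁻¹ := by
    rw [mul_inv_rev, hvi, hui, ← mul_assoc, mul_assoc _ v v, hv, mul_one]
  have key : ∀ w : G, w * (u * v) * w⁻¹ = (u * v)⁻¹ → w * (u * v) ^ j = (u * v) ^ j * w := fun w hw => by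
    have h2 : w * (u * v) ^ j * w⁻¹ = ((u * v)⁻¹) ^ j := by rw [← hw, conj_zpow]
    rw [inv_zpow, hxi] at h2
    exact mul_inv_eq_iff_eq_mul.1 h2
  exact ⟨key u e1, key v e2⟩

theorem sq_of_conj {z u : G} (hz : z * z = 1) (h : IsConj z u) : u * u = 1 := by
  obtain ⟨g, rfl⟩ := isConj_iff.1 h
  rw [show g * z * g⁻¹ * (g * z * g⁻¹) = g * (z * z) * g⁻¹ by group, hz]; group

theorem card_pairsAt {z t x : G} (hz : z * z = 1) (ht : t * t = 1) (hx : x * x = 1) :
    (pairsAt z t x).card = ∑ u ∈ firstSet z x, (secondSet t x u).card := by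
  classical
  rw [← Finset.card_sigma]
  refine Finset.card_bij (fun p _ => ⟨p.1, p.2⟩) (fun p hp => ?_) (fun p _ q _ h => ?_) (fun q hq => ?_)
  · simp only [pairsAt, Finset.mem_filter, Finset.mem_univ, true_and] at hp
    obtain ⟨h1, h2⟩ := commute_of_invert (sq_of_conj hz hp.1) (sq_of_conj ht hp.2.1) hx hp.2.2
    exact Finset.mem_sigma.2 ⟨mem_firstSet.2 ⟨hp.1, h1⟩, mem_secondSet.2 ⟨hp.2.1, h2, hp.2.2⟩⟩
  · simp only [Sigma.mk.injEq, heq_eq_eq] at h
    exact Prod.ext h.1 h.2
  · obtain ⟨u, v⟩ := q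
    obtain ⟨h1, h2⟩ := Finset.mem_sigma.1 hq
    refine ⟨(u, v), ?_, rfl⟩
    simp only [pairsAt, Finset.mem_filter, Finset.mem_univ, true_and]
    exact ⟨(mem_firstSet.1 h1).1, (mem_secondSet.1 h2).1, (mem_secondSet.1 h2).2.2⟩

theorem conj_facts {x d a : G} (hd : d * x = x * d) (ha : a * x = x * a) :
    d * a * d⁻¹ * x = x * (d * a * d⁻¹) :=
  ((show Commute d x from hd).mul_left (show Commute a x from ha)).mul_left
    (show Commute d x from hd).inv_left |>.eq

theorem mem_zpowers_conj {x d w : G} (hd : d * x = x * d) :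
    x ∈ Subgroup.zpowers (d * w * d⁻¹) ↔ x ∈ Subgroup.zpowers w := by
  have hxd : d * x * d⁻¹ = x := by rw [hd, mul_inv_cancel_right]
  constructor
  · intro h
    obtain ⟨j, hj⟩ := Subgroup.mem_zpowers_iff.1 h
    rw [conj_zpow] at hj
    refine Subgroup.mem_zpowers_iff.2 ⟨j, ?_⟩
    calc w ^ j = d⁻¹ * (d * w ^ j * d⁻¹) * d := by group
      _ = d⁻¹ * (d * x * d⁻¹) * d := by rw [hj, hxd]
      _ = x := by group
  · intro h
    obtain ⟨j, hj⟩ := Subgroup.mem_zpowers_iff.1 h
    exact Subgroup.mem_zpowers_iff.2 ⟨j, by rw [conj_zpow, hj, hxd]⟩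

theorem secondSet_conj {t x d u v : G} (hd : d * x = x * d) :
    d * v * d⁻¹ ∈ secondSet t x (d * u * d⁻¹) ↔ v ∈ secondSet t x u := by
  rw [mem_secondSet, mem_secondSet, show d * u * d⁻¹ * (d * v * d⁻¹) = d * (u * v) * d⁻¹ by group,
    mem_zpowers_conj hd]
  refine and_congr ⟨fun h => h.trans (isConj_iff.2 ⟨d⁻¹, by group⟩), fun h => h.trans (isConj_iff.2 ⟨d, rfl⟩)⟩
    (and_congr_left fun _ => ?_)
  refine ⟨fun h => ?_, fun h => conj_facts hd h⟩
  have := conj_facts (d := d⁻¹) ((show Commute d x from hd).inv_left.eq) h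
  simpa [mul_assoc] using this

/-- Conjugation carries the second members of one key to those of another. -/
theorem fib_conj {κ : Type*} (key : G → κ) {t x d u : G} (hd : d * x = x * d) {B B' : κ}
    (hkey : ∀ v, v * x = x * v → (key (d * v * d⁻¹) = B' ↔ key v = B)) :
    fib key t x u B = fib key t x (d * u * d⁻¹) B' := by
  classical
  unfold fib
  refine Finset.card_bij (fun v _ => d * v * d⁻¹) (fun v hv => ?_) (fun a _ b _ h => (MulAut.conj d).injective h)
    (fun w hw => ⟨d⁻¹ * w * d, ?_, by group⟩)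
  · rw [Finset.mem_filter] at hv ⊢
    exact ⟨(secondSet_conj hd).2 hv.1, (hkey v (mem_secondSet.1 hv.1).2.1).2 hv.2⟩
  · rw [Finset.mem_filter] at hw ⊢
    have e : d * (d⁻¹ * w * d) * d⁻¹ = w := by group
    have h1 : d⁻¹ * w * d ∈ secondSet t x u := (secondSet_conj hd).1 (by rw [e]; exact hw.1)
    exact ⟨h1, (hkey _ (mem_secondSet.1 h1).2.1).1 (by rw [e]; exact hw.2)⟩

/-- The number of second members is invariant under conjugation. -/
theorem card_secondSet_conj {t x d u : G} (hd : d * x = x * d) :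
    (secondSet t x (d * u * d⁻¹)).card = (secondSet t x u).card := by
  classical
  refine (Finset.card_bij (fun v _ => d * v * d⁻¹) (fun v hv => (secondSet_conj hd).2 hv)
    (fun a _ b _ h => (MulAut.conj d).injective h) (fun w hw => ⟨d⁻¹ * w * d, ?_, by group⟩)).symm
  exact (secondSet_conj hd).1 (by rwa [show d * (d⁻¹ * w * d) * d⁻¹ = w by group])

/-- A set sorted by keys from an injective family. -/
theorem sum_by_key {κ ι : Type*} [Fintype ι] [DecidableEq κ] (key : G → κ) (k : ι → κ) (hk : Function.Injective k)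
    (S : Finset G) (f : G → ℕ) (h : ∀ v ∈ S, ∃ i, key v = k i) :
    ∑ v ∈ S, f v = ∑ i, ∑ v ∈ S.filter (fun v => key v = k i), f v := by
  classical
  have h1 := Finset.sum_fiberwise_of_maps_to (s := S) (t := Finset.univ.image k) (g := key) (fun v hv => by
    obtain ⟨i, hi⟩ := h v hv
    exact Finset.mem_image.2 ⟨i, Finset.mem_univ _, hi.symm⟩) f
  rw [Finset.sum_image hk.injOn] at h1
  exact h1.symm

theorem card_by_key {κ ι : Type*} [Fintype ι] (key : G → κ) (k : ι → κ) (hk : Function.Injective k) (t x u : G)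
    (h : ∀ v ∈ secondSet t x u, ∃ i, key v = k i) :
    (secondSet t x u).card = ∑ i, fib key t x u (k i) := by
  classical
  rw [Finset.card_eq_sum_ones, sum_by_key key k hk _ _ h]
  refine Finset.sum_congr rfl fun i _ => ?_
  rw [fib, ← Finset.card_eq_sum_ones]

end CfsgLib.JFourOrder
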