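import Cfsg.Agent.Lib.JFourOrder.HPerm
import Cfsg.Agent.Lib.JFourOrder.HClassChecks
import Cfsg.Agent.Lib.JFourOrder.PairCount

/-!
# The involutions of the centralizer of the central involution, by key
-/

set_option autoImplicit false
set_option maxRecDepth 100000
set_option linter.style.haveILetI false
set_option linter.unusedSectionVars false

open Cfsg

namespace CfsgLib.JFourOrder

open CfsgLib.JFour

/-- The indices of the keys: the identity or a member of one of the classes. -/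
abbrev HIdx : Type := Option (Σ c : Fin 3, Fin (hN c.1))

/-- The key with a given index. -/
def hKey : HIdx → List ℕ
  | none => idB
  | some ⟨c, i⟩ => getM 12 (hCh c.1) i.1

theorem hClass_ok {c : ℕ} (hc : c < 3) : classOK 12 (hN c) gH (hCh c) (hAux c) (hRep c) = true := by
  interval_cases c
  exacts [hClass0_ok, hClass1_ok, hClass2_ok]

theorem hRep_facts {c : ℕ} (hc : c < 3) : hRep c ≠ idB ∧ comp (hRep c) (hRep c) = idB ∧
    (comp (hRep c) gW0 = comp gW0 (hRep c) ↔ c = 0) := by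
  have h := List.all_eq_true.1 hRep_ok c (List.mem_range.2 hc)
  simp only [Bool.and_eq_true, Bool.not_eq_true', beq_eq_false_iff_ne, beq_iff_eq] at h
  refine ⟨h.1.1, h.1.2, ?_⟩
  have h2 := h.2
  cases hb : Nat.beq c 0
  · rw [hb, beq_eq_false_iff_ne] at h2
    exact ⟨fun e => absurd e h2, fun e => by simp [e] at hb⟩
  · rw [hb, beq_iff_eq] at h2
    exact ⟨fun _ => Nat.eq_of_beq_eq_true hb, fun _ => h2⟩

variable {G : Type*} [Group G] [Finite G] {M : Type*} [Group M] [Finite M] {z π : G} {E : Subgroup G}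
variable {J : Ctx M z π E} {g : ℕ → M} {vec : ℕ → G} {V : Subgroup G} (D : J.Std g vec V)

theorem repX_spec (x : ↥(permR D).range) : ∃ r : ↥(RSub z π), Std.matR D r = (repX D).ρ x :=
  ⟨preR D x, rfl⟩

theorem gens_member (k : ℕ) (hk : k < 7) :
    ∃ x : ↥(permR D).range, (repX D).ρ x = (gH.getD k ([], [])).1 := by
  obtain ⟨-, hfst, hlen⟩ := gH_ok
  have hg : (gH.getD k ([], [])).1 = (MS ++ [gW0, outB]).getD k [] := by
    rw [← hfst, List.getD_eq_getElem _ _ (hlen.symm ▸ hk), List.getD_eq_getElem _ _ (by rw [List.length_map, hlen]; exact hk),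
      List.getElem_map]
  have hMS : ∀ j < 5, ∃ x : ↥(permR D).range, (repX D).ρ x = MS.getD j idB := fun j hj => by
    obtain ⟨c, -, hc⟩ := D.full.Mo.gens j hj
    exact ⟨imX D ⟨c, CZ_le_RSub c.2⟩, by rw [repX_im]; exact Std.matR_eq D hc⟩
  rw [hg]
  interval_cases k
  · exact hMS 0 (by norm_num)
  · exact hMS 1 (by norm_num)
  · exact hMS 2 (by norm_num)
  · exact hMS 3 (by norm_num)
  · exact hMS 4 (by norm_num)
  · exact ⟨imX D ⟨π, CZ_le_RSub J.pi_mem_CZ⟩, by rw [repX_im]; exact Std.matR_eq D D.full.Mo.om⟩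
  · obtain ⟨s, t, ⟨hs, hsV, hs2⟩, ⟨ht, htV, ht2⟩, hu⟩ := D.exists_dihedral
    obtain ⟨τ, hτ2, -, hτp, -, -, hτz, hτB⟩ := D.exists_outB hs hsV hs2 ht htV ht2 hu
    have hm : τ ∈ RSub z π := ⟨hτz, Or.inr (by rw [inv_eq_of_mul_eq_one_right hτ2, hτp])⟩
    exact ⟨imX D ⟨τ, hm⟩, by rw [repX_im]; exact Std.matR_eq D hτB⟩

theorem word_member {w W : List ℕ} (h : wordIs w W = true) : ∃ x : ↥(permR D).range, (repX D).ρ x = W := by
  simp only [wordIs, Bool.and_eq_true, List.all_eq_true, Nat.blt_eq, beq_iff_eq] at h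
  obtain ⟨hk, rfl⟩ := h
  suffices ∀ (acc : List ℕ), (∃ x : ↥(permR D).range, (repX D).ρ x = acc) →
      ∃ x : ↥(permR D).range, (repX D).ρ x = w.foldl (fun r k => comp r (gH.getD k ([], [])).1) acc from
    this idB ⟨1, by rw [(repX D).one, idn_twelve]⟩
  induction w with
  | nil => exact fun acc h => h
  | cons k w ih =>
    rintro acc ⟨x, hx⟩
    obtain ⟨y, hy⟩ := gens_member D k (gH_ok.2.2 ▸ hk k (List.mem_cons_self ..))
    exact ih (fun j hj => hk j (List.mem_cons_of_mem _ hj)) _ ⟨x * y, by rw [(repX D).mul, hx, hy]⟩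

theorem gensH : (repX D).Gens gH := (repX D).gens_of gH_ok.1 fun p hp => by
  obtain ⟨k, hk, rfl⟩ := List.getElem_of_mem hp
  obtain ⟨x, hx⟩ := gens_member D k (gH_ok.2.2 ▸ hk)
  exact ⟨x, by rw [hx, List.getD_eq_getElem _ _ hk]⟩

include D in
theorem cp_acts {S : ℕ} (hS : S < 16) :
    cp J g S ∈ CZ z π ∧ cp J g S * cp J g S = 1 ∧ Acts z vec (cp J g S) (hexT.getD S []) := by
  obtain ⟨c, hc, hc2, hcp⟩ := D.cp_proj hS
  have h := List.all_eq_true.1 hexT_ok S (List.mem_range.2 hS)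
  simp only [Bool.and_eq_true, beq_iff_eq] at h
  refine ⟨hc ▸ c.2, by rw [← hc]; exact hc2, ?_⟩
  rw [← hc, h.1]
  exact D.acts_hexB hS hcp hc2

theorem exists_hRep {c : ℕ} (hc : c < 3) : ∃ x : ↥(permR D).range, (repX D).ρ x = hRep c := by
  obtain ⟨x, hx⟩ := word_member D (W := outB) (w := [6]) (by decide +kernel)
  have hcp : ∀ S < 16, ∃ y : ↥(permR D).range, (repX D).ρ y = hexT.getD S [] := fun S hS =>
    ⟨imX D ⟨cp J g S, CZ_le_RSub (cp_acts D hS).1⟩, by rw [repX_im]; exact Std.matR_eq D (cp_acts D hS).2.2⟩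
  interval_cases c
  · exact hcp 1 (by norm_num)
  · exact ⟨x, hx⟩
  · obtain ⟨y, hy⟩ := hcp 3 (by norm_num)
    exact ⟨x * y, by rw [(repX D).mul, hx, hy]; rfl⟩

/-- The representative of a class. -/
noncomputable def hrp (c : ℕ) (hc : c < 3) : ↥(permR D).range := (exists_hRep D hc).choose

theorem hrp_spec {c : ℕ} (hc : c < 3) : (repX D).ρ (hrp D c hc) = hRep c := (exists_hRep D hc).choose_spec

theorem hrp_sq {c : ℕ} (hc : c < 3) : hrp D c hc * hrp D c hc = 1 ∧ hrp D c hc ≠ 1 := by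
  refine ⟨(repX D).inj ?_, fun e => (hRep_facts hc).1 ?_⟩
  · rw [(repX D).mul, hrp_spec, (hRep_facts hc).2.1, (repX D).one, idn_twelve]
  · rw [← hrp_spec D hc, e, (repX D).one, idn_twelve]

theorem class_allH {c : ℕ} (hc : c < 3) (x : ↥(permR D).range) :
    ∃ i < hN c, getM 12 (hCh c) i = (repX D).ρ (x * hrp D c hc * x⁻¹) := by
  classical
  have hr := hrp_spec D hc
  have hN' : Nat.card ↥(permR D).range = 2661120 := card_range D
  have hcm := List.all_eq_true.1 hSubComm_ok
  have how := List.all_eq_true.1 hOddW_ok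
  have hsub : ∀ (G0 : List (List ℕ × List ℕ)) {n : ℕ} {ch aux mt : List ℕ},
      subOK 12 n (G0.map Prod.fst) ch aux mt = true → (G0, c) ∈ [(hSubG0, 0), (hSubG1, 1), (hSubG2, 2)] →
      n ∣ Nat.card (Subgroup.centralizer ({hrp D c hc} : Set ↥(permR D).range)) := by
    intro G0 n ch aux mt hs hmem
    have h := List.all_eq_true.1 (hcm _ hmem)
    simp only [Bool.and_eq_true, beq_iff_eq] at h
    choose! f hf using fun p (hp : p ∈ G0) => word_member D (h p hp).1
    refine (repX D).sub_dvd hs (fun k => f (G0.getD k ([], []))) (fun k hk => ?_) hr ?_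
    · rw [List.length_map] at hk
      rw [hf _ (by rw [List.getD_eq_getElem _ _ hk]; exact List.getElem_mem hk), List.getD_eq_getElem _ _ hk,
        List.getD_eq_getElem _ _ (by rw [List.length_map]; exact hk), List.getElem_map]
    · rw [List.all_eq_true]
      intro W hW
      obtain ⟨p, hp, rfl⟩ := List.mem_map.1 hW
      rw [beq_iff_eq]
      exact (h p hp).2
  have hodd : ∀ (L : List (List ℕ × List ℕ × ℕ)) (j : ℕ), L ∈ [hOdd0, hOdd1, hOdd2] → j < L.length →
      ∃ y : ↥(permR D).range, (repX D).ρ y = (L.getD j ([], [], 0)).1 := fun L j hL hj => by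
    have h := List.all_eq_true.1 (how L hL) (L.getD j ([], [], 0))
      (by rw [List.getD_eq_getElem _ _ hj]; exact List.getElem_mem hj)
    exact word_member D h
  interval_cases c
  · refine (repX D).class_exact (gensH D) (hClass_ok (by norm_num)) hr (k := 2304) ?_ (by rw [hN']; decide) x
    obtain ⟨a, ha⟩ := hodd hOdd0 0 (by simp) (by decide)
    obtain ⟨b, hb⟩ := hodd hOdd0 1 (by simp) (by decide)
    exact Nat.Coprime.mul_dvd_of_dvd_of_dvd (m := 256) (n := 9) (by norm_num) (hsub hSubG0 hSub0_ok (by simp))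
      ((repX D).nine_dvd ha hb hr hOdd0_ok)
  · refine (repX D).class_exact (gensH D) (hClass_ok (by norm_num)) hr (k := 2688) ?_ (by rw [hN']; decide) x
    obtain ⟨a, ha⟩ := hodd hOdd1 0 (by simp) (by decide)
    obtain ⟨b, hb⟩ := hodd hOdd1 1 (by simp) (by decide)
    exact Nat.Coprime.mul_dvd_of_dvd_of_dvd (m := 128) (n := 21) (by norm_num) (hsub hSubG1 hSub1_ok (by simp))
      (Nat.Coprime.mul_dvd_of_dvd_of_dvd (m := 7) (n := 3) (by norm_num)
        ((repX D).prime_dvd (by norm_num) ha hr hOdd1_ok.1) ((repX D).prime_dvd Nat.prime_three hb hr hOdd1_ok.2))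
  · refine (repX D).class_exact (gensH D) (hClass_ok (by norm_num)) hr (k := 640) ?_ (by rw [hN']; decide) x
    obtain ⟨a, ha⟩ := hodd hOdd2 0 (by simp) (by decide)
    exact Nat.Coprime.mul_dvd_of_dvd_of_dvd (m := 128) (n := 5) (by norm_num) (hsub hSubG2 hSub2_ok (by simp))
      ((repX D).prime_dvd (by norm_num) ha hr hOdd2_ok)

theorem factorization_range : (Nat.card ↥(permR D).range).factorization 2 = 8 := by
  rw [card_range D, show (2661120 : ℕ) = 2 ^ 8 * 10395 from by norm_num,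
    Nat.factorization_mul (by norm_num) (by norm_num), Finsupp.add_apply, Nat.factorization_pow]
  simp [Nat.prime_two.factorization_self, Nat.factorization_eq_zero_of_not_dvd (show ¬ 2 ∣ 10395 by norm_num)]

/-- Every member of square one has a listed key. -/
theorem invol_keyH {x : ↥(permR D).range} (hx : x * x = 1) : ∃ i : HIdx, (repX D).ρ x = hKey i := by
  classical
  have h0 := List.all_eq_true.1 (List.all_eq_true.1 hSubComm_ok (hSubG0, 0) (by simp))
  simp only [Bool.and_eq_true] at h0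
  choose! f hf using fun p (hp : p ∈ hSubG0) => word_member D (h0 p hp).1
  obtain ⟨c, i, hi, he⟩ := (repX D).invol_in_sub (e := 8) (gens := hSubG0.map Prod.fst) hSub0_ok
    (fun k => f (hSubG0.getD k ([], []))) (fun k hk => by
      rw [List.length_map] at hk
      rw [hf _ (by rw [List.getD_eq_getElem _ _ hk]; exact List.getElem_mem hk), List.getD_eq_getElem _ _ hk,
        List.getD_eq_getElem _ _ (by rw [List.length_map]; exact hk), List.getElem_map])
    (factorization_range D) hx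
  set y := c * x * c⁻¹ with hy
  have hy2 : y * y = 1 := by rw [hy, show c * x * c⁻¹ * (c * x * c⁻¹) = c * (x * x) * c⁻¹ by group, hx]; group
  have h := List.all_eq_true.1 hSyl_ok i (List.mem_range.2 hi)
  simp only [] at h
  cases hv : Nat.beq (tab hSylCls 24 i) 0
  · simp only [hv, cond_false, Bool.and_eq_true, Nat.blt_eq, beq_iff_eq] at h
    obtain ⟨⟨hc3, hlt⟩, hget⟩ := h
    obtain ⟨w, hw⟩ := (repX D).class_mem (gensH D) (hClass_ok hc3) (hrp_spec D hc3) hlt
    rw [hget, ← he] at hw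
    have hwy := (repX D).inj hw
    obtain ⟨j, hj, hje⟩ := class_allH D hc3 (c⁻¹ * w)
    refine ⟨some ⟨⟨_, hc3⟩, ⟨j, hj⟩⟩, ?_⟩
    rw [hKey, hje]
    congr 1
    rw [show c⁻¹ * w * hrp D _ hc3 * (c⁻¹ * w)⁻¹ = c⁻¹ * (w * hrp D _ hc3 * w⁻¹) * c by group, hwy, hy]
    group
  · simp only [hv, cond_true, Bool.or_eq_true, beq_iff_eq, Bool.not_eq_true', beq_eq_false_iff_ne] at h
    refine ⟨none, ?_⟩
    have hy1 : y = 1 := by
      refine h.elim (fun e => (repX D).inj (by rw [he, e, (repX D).one])) (fun e => absurd ?_ e)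
      rw [← he, ← (repX D).mul, hy2, (repX D).one]
    rw [show x = 1 by
      have : c⁻¹ * y * c = x := by rw [hy]; group
      rw [← this, hy1]; group, (repX D).one, idn_twelve]
    rfl

theorem hkey_member (i : HIdx) : ∃ x : ↥(permR D).range, (repX D).ρ x = hKey i := by
  match i with
  | none => exact ⟨1, by rw [(repX D).one, idn_twelve]; rfl⟩
  | some ⟨c, j⟩ =>
    obtain ⟨x, hx⟩ := (repX D).class_mem (gensH D) (hClass_ok c.2) (hrp_spec D c.2) j.2
    exact ⟨_, hx⟩

include D in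
theorem hKey_injective : Function.Injective hKey := by
  have hne : ∀ (c : Fin 3) (i : Fin (hN c.1)), getM 12 (hCh c.1) i.1 ≠ idB := fun c i e => by
    obtain ⟨x, hx⟩ := (repX D).class_mem (gensH D) (hClass_ok c.2) (hrp_spec D c.2) i.2
    rw [e, ← idn_twelve, ← (repX D).one] at hx
    have := (repX D).inj hx
    rw [mul_inv_eq_one, mul_eq_left] at this
    exact (hrp_sq D c.2).2 this
  have happ : ∀ (c c' : Fin 3) (i : Fin (hN c.1)) (j : Fin (hN c'.1)), c.1 < c'.1 →
      getM 12 (hCh c.1) i.1 ≠ getM 12 (hCh c'.1) j.1 := fun c c' i j hlt e => by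
    obtain ⟨x, hx⟩ := (repX D).class_mem (gensH D) (hClass_ok c.2) (hrp_spec D c.2) i.2
    obtain ⟨y, hy⟩ := (repX D).class_mem (gensH D) (hClass_ok c'.2) (hrp_spec D c'.2) j.2
    have h := (repX D).inj (hx.trans (e.trans hy.symm))
    obtain ⟨l, hl, hle⟩ := class_allH D c.2 (y⁻¹ * x)
    rw [show y⁻¹ * x * hrp D c.1 c.2 * (y⁻¹ * x)⁻¹ = y⁻¹ * (x * hrp D c.1 c.2 * x⁻¹) * y by group, h,
      show y⁻¹ * (y * hrp D c'.1 c'.2 * y⁻¹) * y = hrp D c'.1 c'.2 by group, hrp_spec] at hle
    have := List.all_eq_true.1 (List.all_eq_true.1 (List.all_eq_true.1 hApart_ok c'.1 (List.mem_range.2 c'.2)) c.1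
      (List.mem_range.2 hlt)) l (List.mem_range.2 hl)
    rw [hle, beq_self_eq_true] at this
    exact absurd this (by decide)
  rintro (_ | ⟨c, i⟩) (_ | ⟨c', j⟩) e
  · rfl
  · exact absurd e.symm (hne c' j)
  · exact absurd e (hne c i)
  · rcases lt_trichotomy c.1 c'.1 with h | h | h
    · exact absurd e (happ c c' i j h)
    · obtain rfl := Fin.ext h
      have hij : i.1 = j.1 := classOK_keys (hClass_ok c.2) i.2 j.2 e
      rw [Fin.ext hij]
    · exact absurd e.symm (happ c' c j i h)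

/-- The key of an element of the centralizer. -/
noncomputable def hkey (h : G) : List ℕ :=
  haveI := Classical.propDecidable
  if hx : ∃ B : List ℕ, ∃ a, Code D h a B then hx.choose else []

theorem hkey_code {h : G} {a : ℕ} {B : List ℕ} (c : Code D h a B) : hkey D h = B := by
  have hx : ∃ B : List ℕ, ∃ a, Code D h a B := ⟨B, a, c⟩
  obtain ⟨b, hb⟩ := hx.choose_spec
  rw [hkey, dif_pos hx]
  exact (hb.unique c).2

theorem invol_codeH {v : G} (hv : v * z = z * v) (hv2 : v * v = 1) :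
    ∃ a B, Code D v a B ∧ comp B B = idB ∧ ap B a = a ∧ hkey D v = B ∧ ∃ i : HIdx, hKey i = B := by
  obtain ⟨a, B, hc⟩ := Code.exists_code D hv
  obtain ⟨h1, h2⟩ := Code.unique (hv2 ▸ hc.mul hc) Code.one
  refine ⟨a, B, hc, h2, (Nat.xor_eq_zero_iff.1 h1).symm, hkey_code D hc, ?_⟩
  obtain ⟨-, r, -, hr⟩ := hc
  have hx : imX D r * imX D r = 1 := (repX D).inj (by
    rw [(repX D).mul, repX_im, hr, h2, (repX D).one, idn_twelve])
  obtain ⟨i, hi⟩ := invol_keyH D hx
  exact ⟨i, by rw [← hi, repX_im, hr]⟩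

/-- An element of the centralizer of `π` and `z` is told by its columns. -/
theorem mem_CZ_iff (r : ↥(RSub z π)) :
    (r : G) ∈ CZ z π ↔ comp (Std.matR D r) gW0 = comp gW0 (Std.matR D r) := by
  refine ⟨fun h => ?_, Std.mem_CZ_of_comm D r⟩
  have hp : Std.matR D ⟨π, CZ_le_RSub J.pi_mem_CZ⟩ = gW0 := Std.matR_eq D D.full.Mo.om
  rw [← hp, ← Std.matR_mul, ← Std.matR_mul]
  exact congrArg (Std.matR D) (Subtype.ext (mem_CZ.1 h).2)

end CfsgLib.JFourOrder
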