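import Cfsg.Agent.Lib.JFourOrder.Defs
import Cfsg.Agent.Lib.JFourOrder.TData
import Cfsg.Agent.Lib.JFourOrder.TVals
import Cfsg.Agent.Lib.JFour.TAction

/-!
# The calculation in the centralizer of an involution of the second class
-/

set_option autoImplicit false
set_option maxRecDepth 100000

namespace CfsgLib.JFourOrder

open CfsgLib.JFour (ap comp toT okL keepsPairs id11)
open CfsgLib.LargeFischer (pairMask)

/-- The representatives of the classes. -/
def tRep (c : ℕ) : List ℕ := [tRep0, tRep1, tRep2].getD c []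

def tN (c : ℕ) : ℕ := [1155, 330, 1386].getD c 0

def tCh (c : ℕ) : List ℕ := [tCh0, tCh1, tCh2].getD c []

def tAux (c : ℕ) : List ℕ := [tAux0, tAux1, tAux2].getD c []

/-- The members of the small class. -/
def tMask : List ℕ := (List.range 2048).filter fun a => pairMask.testBit (ap toT a)

/-- The coordinates over a representative not giving conjugates of `z`. -/
def tSel (L : List ℕ) (w : Bool) : List ℕ := (fixL 11 L).filter fun a => (imL 11 L).contains a == w

/-- The same by class and by the type of the representative of the last class. -/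
def tList (c : ℕ) (e : Bool) : List ℕ := tSel (tRep c) (Nat.beq c 2 && e)

/-- The six representatives. -/
def uT (u : ℕ) : ℕ × List ℕ :=
  [(1, id11), (2, id11), (0, tRep0), (0, tRep1), (0, tRep2), (4, tRep2)].getD u (0, [])

def tMv (u : ℕ) : List (ℕ × List ℕ × List ℕ) := [tMv0, tMv1, tMv2, tMv3, tMv4, tMv5].getD u []

def tVa (u c : ℕ) : List ℕ :=
  ([[tVa00, tVa01, tVa02], [tVa10, tVa11, tVa12], [tVa20, tVa21, tVa22], [tVa30, tVa31, tVa32],
    [tVa40, tVa41, tVa42], [tVa50, tVa51, tVa52]].getD u []).getD c []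

def tVl (u c : ℕ) (e : Bool) : List ℕ :=
  cond (Nat.beq c 2 && e) ([tVl02b, tVl12b, tVl22b, tVl32b, tVl42b, tVl52b].getD u [])
    (([[tVl00, tVl01, tVl02], [tVl10, tVl11, tVl12], [tVl20, tVl21, tVl22], [tVl30, tVl31, tVl32],
      [tVl40, tVl41, tVl42], [tVl50, tVl51, tVl52]].getD u []).getD c [])

/-- The number of listed second factors of a code. -/
def valT (au : ℕ) (Bu : List ℕ) (L : List ℕ) (B : List ℕ) : ℕ :=
  let g := comp Bu B
  let n := ordM 11 g
  let S := trnM 11 g n
  bif Nat.beq n 0 then 2 ^ 30 else (L.filter fun a => Nat.beq (ap S (Nat.xor au (ap Bu a))) 4).length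

/-- The value at a root, computed at the representative of the class. -/
def rootT (u c : ℕ) (e : Bool) (i : ℕ) : ℕ :=
  let W := trv 11 gT (tAux c) 127 i
  valT (ap W.2 (uT u).1) (cj W.2 W.1 (uT u).2) (tList c e) (tRep c)

/-- The tables of one representative in one class. -/
def stepT (u c : ℕ) (e : Bool) : Bool :=
  (List.range (tN c)).all (valStep 11 (tN c) (tMv u) (tCh c) (tVa u c) (tVl u c e) (rootT u c e))

/-- The value of one representative. -/
def totT (u : ℕ) (e : Bool) : ℕ :=
  valT (uT u).1 (uT u).2 tMask id11 +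
    sumL (fun c => sumL (valI (tVl u c e)) (List.range (tN c))) (List.range 3)

/-- An element of the complement fixing the second involution. -/
def elOK (W Wi : List ℕ) : Bool :=
  okL W && keepsPairs W && Nat.beq (ap W 4) 4 && pairOK11 W Wi
where
  pairOK11 (W Wi : List ℕ) : Bool := comp Wi W == id11 && comp Wi id11 == Wi && comp W Wi == id11

/-- The moves fix the representative. -/
def mvT (u : ℕ) : Bool :=
  (tMv u).all fun m => elOK m.2.1 m.2.2 && Nat.blt m.1 2048 &&
    comp m.2.1 (uT u).2 == comp (uT u).2 m.2.1 &&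
    Nat.beq (Nat.xor (Nat.xor m.1 (ap m.2.1 (uT u).1)) (ap (uT u).2 m.1)) (uT u).1

/-- An orbit on the elementary subgroup. -/
def vOrbOK (a0 n : ℕ) (ch aux : List ℕ) : Bool :=
  (List.range n).all fun i =>
    (bif Nat.beq (dpI aux i) 0 then Nat.beq (tab ch 24 i) a0
    else Nat.blt (parI aux i) n && Nat.blt (dpI aux (parI aux i)) (dpI aux i) && Nat.blt (mvI aux i) gT.length &&
      Nat.beq (ap (gT.getD (mvI aux i) ([], [])).1 (tab ch 24 (parI aux i))) (tab ch 24 i)) &&
    (Nat.beq i 0 || Nat.blt (tab ch 24 (i - 1)) (tab ch 24 i))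

end CfsgLib.JFourOrder
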