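import Cfsg.Agent.Lib.JFourOrder.TCalc

/-!
# Kernel checks separating the classes in the complement
-/

set_option autoImplicit false
set_option Elab.async false
set_option maxRecDepth 100000
set_option maxHeartbeats 4000000

namespace CfsgLib.JFourOrder

open CfsgLib.JFour (ap comp id11)

theorem tApart_ok : (List.range 3).all (fun c => (List.range c).all fun c' =>
    (List.range (tN c')).all fun i => !(getM 11 (tCh c') i == tRep c)) = true := by decide +kernel

theorem tRep_ne : (List.range 3).all (fun c => !(tRep c == id11) && comp (tRep c) (tRep c) == id11) = true := by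
  decide +kernel

/-- The coordinate of the chosen conjugate of `z`. -/
def tZ0 (c : ℕ) (e : Bool) : ℕ := cond (Nat.beq c 2 && e) 4 0

theorem tZsel_ok : (List.range 3).all (fun c => [false, true].all fun e =>
    let S := tSel (tRep c) (!(Nat.beq c 2 && e))
    Nat.beq S.length (cond (Nat.beq c 2) 32 16) && S.contains (tZ0 c e) &&
      S.all fun a => (imL 11 (tRep c)).contains (Nat.xor a (tZ0 c e))) = true := by decide +kernel

end CfsgLib.JFourOrder
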