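import Cfsg.Agent.Lib.JFourOrder.Defs
import Cfsg.Agent.Lib.JFour.Words
import Cfsg.Agent.Lib.J2Order.Formula

/-!
# Finite groups given by column lists

Certified lists of conjugates are whole classes as soon as their length times a divisor of the order of a
centralizer reaches the order of the group; with a Sylow subgroup listed, every involution is then found.
-/

set_option autoImplicit false
set_option maxRecDepth 100000
set_option linter.style.haveILetI false
set_option linter.unusedSectionVars false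

namespace CfsgLib.JFourOrder

open CfsgLib.JFour (ap comp)
open scoped Pointwise

theorem comp_assoc (A B C : List ℕ) : comp A (comp B C) = comp (comp A B) C := by
  simp only [comp, List.map_map]
  exact List.map_congr_left fun c _ => (CfsgLib.JFour.ap_comp A B c).symm

/-- A faithful representation of a group by column lists. -/
structure Rep (X : Type*) [Group X] (d : ℕ) where
  ρ : X → List ℕ
  one : ρ 1 = idn d
  mul : ∀ x y, ρ (x * y) = comp (ρ x) (ρ y)
  inj : Function.Injective ρ

/-- A pair of inverse column lists. -/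
def pairOK (d : ℕ) (p : List ℕ × List ℕ) : Bool :=
  comp p.2 p.1 == idn d && comp p.2 (idn d) == p.2

/-- A list generating a subgroup: entries from the identity by left multiplication, closed under it. -/
def subOK (d n : ℕ) (gens : List (List ℕ)) (ch aux mulT : List ℕ) : Bool :=
  (List.range n).all (fun i =>
    (bif Nat.beq (dpI aux i) 0 then getM d ch i == idn d
    else Nat.blt (parI aux i) n && Nat.blt (dpI aux (parI aux i)) (dpI aux i) &&
      Nat.blt (mvI aux i) gens.length && comp (gens.getD (mvI aux i) []) (getM d ch (parI aux i)) == getM d ch i) &&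
    (Nat.beq i 0 || Nat.blt (keyM d ch (i - 1)) (keyM d ch i)) &&
    Nat.beq (pk d (getM d ch i)) (keyM d ch i)) &&
  (List.range n).any (fun i => getM d ch i == idn d) &&
  (List.range gens.length).all fun k => (List.range n).all fun i =>
    Nat.blt (tab mulT 16 (k * n + i)) n &&
      getM d ch (tab mulT 16 (k * n + i)) == comp (gens.getD k []) (getM d ch i)

theorem mono_of_step {n : ℕ} {f : ℕ → ℕ} (h : ∀ i < n, i = 0 ∨ f (i - 1) < f i) :
    ∀ j < n, ∀ i < j, f i < f j := by
  intro j
  induction j with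
  | zero => intro _ i hi; omega
  | succ j ih =>
    intro hj i hi
    have h1 : f j < f (j + 1) := by
      rcases h (j + 1) hj with e | e
      · omega
      · simpa using e
    rcases Nat.lt_succ_iff_lt_or_eq.1 hi with k | k
    · exact (ih (by omega) i k).trans h1
    · exact k ▸ h1

theorem getM_inj {d n : ℕ} {ch : List ℕ}
    (h : ∀ i < n, (i = 0 ∨ keyM d ch (i - 1) < keyM d ch i) ∧ pk d (getM d ch i) = keyM d ch i) {i j : ℕ}
    (hi : i < n) (hj : j < n) (e : getM d ch i = getM d ch j) : i = j := by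
  have hk : keyM d ch i = keyM d ch j := by rw [← (h i hi).2, ← (h j hj).2, e]
  rcases lt_trichotomy i j with k | k | k
  · exact absurd hk (ne_of_lt (mono_of_step (fun i hi => (h i hi).1) j hj i k))
  · exact k
  · exact absurd hk.symm (ne_of_lt (mono_of_step (fun i hi => (h i hi).1) i hi j k))

theorem classOK_keys {d n : ℕ} {gs : List (List ℕ × List ℕ)} {ch aux r : List ℕ}
    (hc : classOK d n gs ch aux r = true) {i j : ℕ} (hi : i < n) (hj : j < n)
    (e : getM d ch i = getM d ch j) : i = j := by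
  refine getM_inj (fun k hk => ?_) hi hj e
  simp only [classOK, Bool.and_eq_true, List.all_eq_true, List.mem_range, Bool.or_eq_true,
    Nat.beq_eq, Nat.blt_eq] at hc
  exact hc.2 k hk

namespace Rep

variable {X : Type*} [Group X] {d : ℕ} (R : Rep X d)

theorem id_comp (x : X) : comp (idn d) (R.ρ x) = R.ρ x := by rw [← R.one, ← R.mul, one_mul]

theorem comp_id (x : X) : comp (R.ρ x) (idn d) = R.ρ x := by rw [← R.one, ← R.mul, mul_one]

theorem inv_eq {x : X} {g gi : List ℕ} (hx : R.ρ x = g) (h : pairOK d (g, gi) = true) : R.ρ x⁻¹ = gi := by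
  simp only [pairOK, Bool.and_eq_true, beq_iff_eq] at h
  conv_rhs => rw [← h.2, ← R.one, ← mul_inv_cancel x, R.mul, hx, comp_assoc, h.1, R.id_comp]

theorem conj_eq {x y : X} {g gi : List ℕ} (hx : R.ρ x = g) (hi : R.ρ x⁻¹ = gi) :
    R.ρ (x * y * x⁻¹) = cj g gi (R.ρ y) := by
  rw [R.mul, R.mul, hx, hi]; rfl

theorem pow_eq {x : X} {g : List ℕ} (hx : R.ρ x = g) (k : ℕ) : R.ρ (x ^ k) = pw d g k := by
  induction k with
  | zero => rw [pow_zero, R.one, pw]
  | succ k ih => rw [pow_succ', R.mul, hx, ih, pw]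

/-- The moves are values of the representation with the stated inverses. -/
def Gens (gs : List (List ℕ × List ℕ)) : Prop :=
  ∀ p ∈ gs, ∃ x : X, R.ρ x = p.1 ∧ R.ρ x⁻¹ = p.2

theorem gens_of {gs : List (List ℕ × List ℕ)} (h : gs.all (pairOK d) = true)
    (hr : ∀ p ∈ gs, ∃ x : X, R.ρ x = p.1) : R.Gens gs := fun p hp => by
  obtain ⟨x, hx⟩ := hr p hp
  exact ⟨x, hx, R.inv_eq hx (List.all_eq_true.1 h p hp)⟩

variable {n : ℕ} {gs : List (List ℕ × List ℕ)} {ch aux r : List ℕ}

/-- An entry of a certified list is a conjugate, by the product of the moves. -/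
theorem trv_spec (hG : R.Gens gs) (hc : classOK d n gs ch aux r = true) {r0 : X} (hr : R.ρ r0 = r) :
    ∀ (f i : ℕ), i < n → dpI aux i ≤ f →
      ∃ x : X, R.ρ x = (trv d gs aux f i).1 ∧ R.ρ x⁻¹ = (trv d gs aux f i).2 ∧
        R.ρ (x * r0 * x⁻¹) = getM d ch i := by
  simp only [classOK, Bool.and_eq_true, List.all_eq_true, List.mem_range] at hc
  intro f
  induction f with
  | zero =>
    intro i hi hd
    have h := hc.1 i hi
    rw [stepOK, Nat.le_zero.1 hd] at h
    simp only [Nat.beq_refl, cond_true, beq_iff_eq] at h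
    exact ⟨1, by rw [trv, R.one], by rw [inv_one, R.one, trv], by rw [one_mul, inv_one, mul_one, hr, h]⟩
  | succ f ih =>
    intro i hi hd
    have h := hc.1 i hi
    rw [stepOK] at h
    cases hb : Nat.beq (dpI aux i) 0
    · simp only [hb, cond_false, Bool.and_eq_true, Nat.blt_eq, beq_iff_eq] at h
      obtain ⟨⟨⟨hp, hdp⟩, hm⟩, he⟩ := h
      obtain ⟨y, hy, hyi, hyc⟩ := ih _ hp (by omega)
      obtain ⟨x, hx, hxi⟩ := hG (gs.getD (mvI aux i) ([], []))
        (by rw [List.getD_eq_getElem _ _ hm]; exact List.getElem_mem hm)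
      refine ⟨x * y, ?_, ?_, ?_⟩
      · rw [R.mul, hx, hy, trv, hb]; rfl
      · rw [mul_inv_rev, R.mul, hyi, hxi, trv, hb]; rfl
      · rw [show x * y * r0 * (x * y)⁻¹ = x * (y * r0 * y⁻¹) * x⁻¹ by group, R.conj_eq hx hxi, hyc, he]
    · simp only [hb, cond_true, beq_iff_eq] at h
      exact ⟨1, by rw [trv, hb, R.one]; rfl, by rw [inv_one, R.one, trv, hb]; rfl,
        by rw [one_mul, inv_one, mul_one, hr, h]⟩

theorem class_mem (hG : R.Gens gs) (hc : classOK d n gs ch aux r = true) {r0 : X} (hr : R.ρ r0 = r)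
    {i : ℕ} (hi : i < n) : ∃ x : X, R.ρ (x * r0 * x⁻¹) = getM d ch i := by
  obtain ⟨x, -, -, hx⟩ := R.trv_spec hG hc hr _ i hi le_rfl
  exact ⟨x, hx⟩

/-- A long enough list of conjugates is the class. -/
theorem class_exact [Finite X] (hG : R.Gens gs) (hc : classOK d n gs ch aux r = true) {r0 : X}
    (hr : R.ρ r0 = r) {k : ℕ} (hk : k ∣ Nat.card (Subgroup.centralizer ({r0} : Set X)))
    (hcard : Nat.card X ≤ n * k) (x : X) : ∃ i < n, getM d ch i = R.ρ (x * r0 * x⁻¹) := by
  classical
  haveI := Fintype.ofFinite X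
  choose c hc' using fun i : Fin n => R.class_mem hG hc hr i.2
  let f : Fin n → X := fun i => c i * r0 * (c i)⁻¹
  have hinj : Function.Injective f := fun i j e => Fin.ext (classOK_keys hc i.2 j.2 (by
    rw [← hc' i, ← hc' j]; exact congrArg R.ρ e))
  have hsub : Finset.univ.image f ⊆ J2Order.cls r0 := by
    intro y hy
    obtain ⟨i, -, rfl⟩ := Finset.mem_image.1 hy
    simp only [J2Order.cls, Finset.mem_filter, Finset.mem_univ, true_and]
    exact isConj_iff.2 ⟨c i, rfl⟩
  have hk0 : 0 < Nat.card (Subgroup.centralizer ({r0} : Set X)) := Nat.card_pos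
  have h1 := J2Order.card_cls r0
  rw [← Nat.card_eq_fintype_card] at h1
  have hle : (J2Order.cls r0).card ≤ n := by
    have hkle : k ≤ Nat.card (Subgroup.centralizer ({r0} : Set X)) := Nat.le_of_dvd hk0 hk
    refine Nat.le_of_mul_le_mul_right (c := k) ?_ (Nat.pos_of_dvd_of_pos hk hk0)
    exact ((Nat.mul_le_mul_left _ hkle).trans h1.le).trans hcard
  have heq := Finset.eq_of_subset_of_card_le hsub (by
    rw [Finset.card_image_of_injective _ hinj, Finset.card_univ, Fintype.card_fin]; exact hle)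
  have hx : x * r0 * x⁻¹ ∈ J2Order.cls r0 := by
    simp only [J2Order.cls, Finset.mem_filter, Finset.mem_univ, true_and]
    exact isConj_iff.2 ⟨x, rfl⟩
  rw [← heq] at hx
  obtain ⟨i, -, hi⟩ := Finset.mem_image.1 hx
  exact ⟨i, i.2, by rw [← hc' i, ← hi]⟩

/-- The subgroup with a certified list of members. -/
theorem exists_sub [Finite X] {gens : List (List ℕ)} {mulT : List ℕ}
    (hc : subOK d n gens ch aux mulT = true) (xs : ℕ → X) (hxs : ∀ k < gens.length, R.ρ (xs k) = gens.getD k []) :
    Nat.card (Subgroup.closure (xs '' {k | k < gens.length})) = n ∧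
      ∀ x ∈ Subgroup.closure (xs '' {k | k < gens.length}), ∃ i < n, R.ρ x = getM d ch i := by
  classical
  simp only [subOK, Bool.and_eq_true, List.all_eq_true, List.any_eq_true, List.mem_range, Nat.blt_eq,
    beq_iff_eq, Bool.or_eq_true, Nat.beq_eq] at hc
  obtain ⟨⟨hstep, i0, hi0, hid⟩, hcl⟩ := hc
  set K := Subgroup.closure (xs '' {k | k < gens.length}) with hK
  have hmem : ∀ x ∈ K, ∃ i < n, R.ρ x = getM d ch i := by
    intro x hx
    rw [hK, ← Subgroup.mem_toSubmonoid, Subgroup.closure_toSubmonoid_of_finite] at hx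
    induction hx using Submonoid.closure_induction_left with
    | one => exact ⟨i0, hi0, by rw [R.one, hid]⟩
    | mul_left a ha y _ ih =>
      obtain ⟨k, hk, rfl⟩ := ha
      obtain ⟨i, hi, he⟩ := ih
      obtain ⟨h1, h2⟩ := hcl k hk i hi
      exact ⟨_, h1, by rw [R.mul, hxs k hk, he, h2]⟩
  have hall : ∀ (f i : ℕ), i < n → dpI aux i ≤ f → ∃ x ∈ K, R.ρ x = getM d ch i := by
    intro f
    induction f with
    | zero =>
      intro i hi hd
      have h := (hstep i hi).1.1
      rw [Nat.le_zero.1 hd] at h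
      simp only [Nat.beq_refl, cond_true, beq_iff_eq] at h
      exact ⟨1, K.one_mem, by rw [R.one, h]⟩
    | succ f ih =>
      intro i hi hd
      have h := (hstep i hi).1.1
      cases hb : Nat.beq (dpI aux i) 0
      · simp only [hb, cond_false, Bool.and_eq_true, Nat.blt_eq, beq_iff_eq] at h
        obtain ⟨⟨⟨hp, hdp⟩, hm⟩, he⟩ := h
        obtain ⟨y, hy, hye⟩ := ih _ hp (by omega)
        exact ⟨xs (mvI aux i) * y, mul_mem (Subgroup.subset_closure ⟨_, hm, rfl⟩) hy,
          by rw [R.mul, hxs _ hm, hye, he]⟩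
      · simp only [hb, cond_true, beq_iff_eq] at h
        exact ⟨1, K.one_mem, by rw [R.one, h]⟩
  refine ⟨?_, hmem⟩
  choose u hu huρ using fun i : Fin n => hall _ i i.2 le_rfl
  rw [show n = Nat.card (Fin n) from (Nat.card_fin n).symm]
  refine (Nat.card_eq_of_bijective (fun i : Fin n => (⟨u i, hu i⟩ : ↥K)) ⟨fun i j e => ?_, fun x => ?_⟩).symm
  · refine Fin.ext (getM_inj (fun k hk => ⟨(hstep k hk).1.2, (hstep k hk).2⟩) i.2 j.2 ?_)
    rw [← huρ i, ← huρ j, show u i = u j from congrArg Subtype.val e]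
  · obtain ⟨i, hi, he⟩ := hmem x x.2
    exact ⟨⟨i, hi⟩, Subtype.ext (R.inj (by rw [huρ, he]))⟩

/-- A listed subgroup centralizing an element divides the order of its centralizer. -/
theorem sub_dvd [Finite X] {gens : List (List ℕ)} {mulT : List ℕ} (hc : subOK d n gens ch aux mulT = true)
    (xs : ℕ → X) (hxs : ∀ k < gens.length, R.ρ (xs k) = gens.getD k []) {r0 : X} (hr : R.ρ r0 = r)
    (hcomm : gens.all (fun g => comp g r == comp r g) = true) :
    n ∣ Nat.card (Subgroup.centralizer ({r0} : Set X)) := by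
  rw [← (R.exists_sub hc xs hxs).1]
  refine Subgroup.card_dvd_of_le ((Subgroup.closure_le _).2 ?_)
  rintro _ ⟨k, hk, rfl⟩
  refine Subgroup.mem_centralizer_singleton_iff.2 (R.inj ?_)
  have := List.all_eq_true.1 hcomm (gens.getD k []) (by rw [List.getD_eq_getElem _ _ hk]; exact List.getElem_mem hk)
  rw [R.mul, R.mul, hxs k hk, hr]
  exact beq_iff_eq.1 this

/-- An element of prime order centralizing an element. -/
theorem prime_dvd [Finite X] {p : ℕ} (hp : p.Prime) {y r0 : X} {g : List ℕ} (hy : R.ρ y = g) (hr : R.ρ r0 = r)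
    (h : (pw d g p == idn d && !(g == idn d) && comp g r == comp r g) = true) :
    p ∣ Nat.card (Subgroup.centralizer ({r0} : Set X)) := by
  simp only [Bool.and_eq_true, beq_iff_eq, Bool.not_eq_true', beq_eq_false_iff_ne] at h
  haveI := Fact.mk hp
  have h1 : y ≠ 1 := fun e => h.1.2 (by rw [← hy, e, R.one])
  have hpow : y ^ p = 1 := R.inj (by rw [R.pow_eq hy, h.1.1, R.one])
  have hmem : y ∈ Subgroup.centralizer ({r0} : Set X) :=
    Subgroup.mem_centralizer_singleton_iff.2 (R.inj (by rw [R.mul, R.mul, hy, hr, h.2]))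
  rw [← orderOf_eq_prime hpow h1, ← Nat.card_zpowers]
  exact Subgroup.card_dvd_of_le (Subgroup.zpowers_le.2 hmem)

/-- Two commuting elements of order three. -/
theorem nine_dvd [Finite X] {a b r0 : X} {ga gb : List ℕ} (ha : R.ρ a = ga) (hb : R.ρ b = gb) (hr : R.ρ r0 = r)
    (h : (pw d ga 3 == idn d && pw d gb 3 == idn d && !(ga == idn d) && !(gb == idn d) && !(gb == ga) &&
      !(gb == comp ga ga) && comp ga gb == comp gb ga && comp ga r == comp r ga && comp gb r == comp r gb) = true) :
    9 ∣ Nat.card (Subgroup.centralizer ({r0} : Set X)) := by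
  simp only [Bool.and_eq_true, beq_iff_eq, Bool.not_eq_true', beq_eq_false_iff_ne] at h
  obtain ⟨⟨⟨⟨⟨⟨⟨⟨a3, b3⟩, a1⟩, b1⟩, ba⟩, baa⟩, hab⟩, har⟩, hbr⟩ := h
  haveI := Fact.mk Nat.prime_three
  have A3 : a ^ 3 = 1 := R.inj (by rw [R.pow_eq ha, a3, R.one])
  have B3 : b ^ 3 = 1 := R.inj (by rw [R.pow_eq hb, b3, R.one])
  have hA : orderOf a = 3 := orderOf_eq_prime A3 fun e => a1 (by rw [← ha, e, R.one])
  have hB : orderOf b = 3 := orderOf_eq_prime B3 fun e => b1 (by rw [← hb, e, R.one])
  have hcomm : Commute a b := R.inj (by rw [R.mul, R.mul, ha, hb, hab])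
  let C := Subgroup.centralizer ({r0} : Set X)
  let K := Subgroup.zpowers a ⊔ Subgroup.zpowers b
  have hKC : K ≤ C := sup_le (Subgroup.zpowers_le.2 (Subgroup.mem_centralizer_singleton_iff.2
    (R.inj (by rw [R.mul, R.mul, ha, hr, har])))) (Subgroup.zpowers_le.2
      (Subgroup.mem_centralizer_singleton_iff.2 (R.inj (by rw [R.mul, R.mul, hb, hr, hbr]))))
  refine dvd_trans ?_ (Subgroup.card_dvd_of_le hKC)
  have hle : Subgroup.zpowers b ≤ Subgroup.normalizer (Subgroup.zpowers a : Set X) := by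
    refine Subgroup.zpowers_le.2 (Subgroup.centralizer_le_normalizer _ (Subgroup.mem_centralizer_iff.2 ?_))
    intro x hx
    obtain ⟨i, rfl⟩ := Subgroup.mem_zpowers_iff.1 hx
    exact (hcomm.zpow_left i).eq
  have hbot : Subgroup.zpowers a ⊓ Subgroup.zpowers b = ⊥ := by
    by_contra hne
    have hbA : b ∈ Subgroup.zpowers a := by
      have hc : Nat.card ↥(Subgroup.zpowers a ⊓ Subgroup.zpowers b) = 3 := by
        rcases (Nat.prime_three.eq_one_or_self_of_dvd (Nat.card ↥(Subgroup.zpowers a ⊓ Subgroup.zpowers b)) (by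
          have := Subgroup.card_dvd_of_le (inf_le_right : Subgroup.zpowers a ⊓ Subgroup.zpowers b ≤ _)
          rwa [Nat.card_zpowers, hB] at this)) with e | e
        · exact absurd (Subgroup.card_eq_one.1 e) hne
        · exact e
      have heq := Subgroup.eq_of_le_of_card_ge (inf_le_right : Subgroup.zpowers a ⊓ Subgroup.zpowers b ≤ _)
        (by rw [hc, Nat.card_zpowers, hB])
      exact (heq.ge (Subgroup.mem_zpowers b)).1
    obtain ⟨j, hj⟩ := (isOfFinOrder_of_finite a).mem_powers_iff_mem_zpowers.2 hbA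
    have hj' : a ^ (j % 3) = b := by rw [← hj, ← hA, pow_mod_orderOf]
    have : j % 3 < 3 := Nat.mod_lt _ (by norm_num)
    interval_cases hh : j % 3
    · exact b1 (by rw [← hb, ← hj', pow_zero, R.one])
    · exact ba (by rw [← hb, ← hj', pow_one, ha])
    · exact baa (by rw [← hb, ← hj', pow_two, R.mul, ha])
  have hcard : Nat.card ↥K = 9 := by
    rw [← SetLike.coe_sort_coe, Subgroup.coe_mul_of_right_le_normalizer_left _ _ hle]
    refine (Nat.card_eq_of_bijective (fun p : ↥(Subgroup.zpowers a) × ↥(Subgroup.zpowers b) =>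
      (⟨(p.1 : X) * p.2, Set.mul_mem_mul p.1.2 p.2.2⟩ :
      ↥((Subgroup.zpowers a : Set X) * (Subgroup.zpowers b : Set X)))) ⟨fun p q hpq => ?_, fun y => ?_⟩).symm.trans (by
      rw [Nat.card_prod, Nat.card_zpowers, Nat.card_zpowers, hA, hB])
    · exact Subgroup.mul_injective_of_disjoint (disjoint_iff.2 hbot) (congrArg Subtype.val hpq)
    · obtain ⟨u, hu, v, hv, e⟩ := y.2
      exact ⟨(⟨u, hu⟩, ⟨v, hv⟩), Subtype.ext e⟩
  rw [hcard]

/-- Every involution meets a listed Sylow subgroup. -/
theorem invol_in_sub [Finite X] {gens : List (List ℕ)} {mulT : List ℕ} {e : ℕ}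
    (hc : subOK d (2 ^ e) gens ch aux mulT = true) (xs : ℕ → X)
    (hxs : ∀ k < gens.length, R.ρ (xs k) = gens.getD k []) (he : (Nat.card X).factorization 2 = e)
    {x : X} (hx : x * x = 1) :
    ∃ c : X, ∃ i < 2 ^ e, R.ρ (c * x * c⁻¹) = getM d ch i := by
  classical
  haveI := Fact.mk Nat.prime_two
  obtain ⟨hcard, hmem⟩ := R.exists_sub hc xs hxs
  let P : Sylow 2 X := Sylow.ofCard (Subgroup.closure (xs '' {k | k < gens.length})) (by rw [hcard, he])
  have hp : IsPGroup 2 ↥(Subgroup.zpowers x) := by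
    refine (IsPGroup.iff_orderOf).2 fun g => ?_
    have hdvd : orderOf g ∣ 2 ^ 1 := (orderOf_dvd_natCard g).trans (by
      rw [Nat.card_zpowers, pow_one]; exact orderOf_dvd_of_pow_eq_one (by rw [pow_two, hx]))
    obtain ⟨k, -, hk⟩ := (Nat.dvd_prime_pow Nat.prime_two).1 hdvd
    exact ⟨k, hk⟩
  obtain ⟨T, hT⟩ := hp.exists_le_sylow
  obtain ⟨c, hcT⟩ := MulAction.exists_smul_eq X T P
  have : c * x * c⁻¹ ∈ (P : Subgroup X) := by
    rw [← hcT, Sylow.coe_subgroup_smul]
    exact Subgroup.smul_mem_pointwise_smul x (MulAut.conj c) _ (hT (Subgroup.mem_zpowers x))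
  obtain ⟨i, hi, hie⟩ := hmem _ this
  exact ⟨c, i, hi, hie⟩

end Rep

end CfsgLib.JFourOrder
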