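import Cfsg.Agent.Lib.JFourOrder.TFast
import Cfsg.Agent.Lib.JFourOrder.Mat

/-!
# Kernel checks of the classes in the complement
-/

set_option autoImplicit false
set_option Elab.async false
set_option maxRecDepth 100000
set_option maxHeartbeats 4000000

namespace CfsgLib.JFourOrder

open CfsgLib.JFour (ap comp id11)

theorem smallBits_ok : (List.range 2048).all (fun n =>
    smallBits.testBit n == LargeFischer.pairMask.testBit (ap JFour.toT n)) = true := by decide +kernel

theorem gTF_ok : gT.all (fun p => elF p.1 p.2) = true := by decide +kernel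

theorem gT_ok : gT.all (fun p => elOK p.1 p.2) = true :=
  List.all_eq_true.2 fun p hp => elOK_of_fast smallBits_ok (List.all_eq_true.1 gTF_ok p hp)

/-- The packed generators. -/
def gTK : List ℕ := gT.map fun p => pk 11 p.1

theorem gT_moves : movesOK 11 gT gTK = true := by decide +kernel

theorem tRepD : okD 11 tRep0 = true ∧ okD 11 tRep1 = true ∧ okD 11 tRep2 = true := by decide +kernel

theorem tKeys0_ok : (List.range 1155).all (keysF 11 tCh0) = true := by decide +kernel

theorem tStepF0_ok :
    (List.range 1155).all (stepF 11 1155 mask11 gT gTK tCh0 tAux0 (pk 11 tRep0)) = true := by decide +kernel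

theorem tClass0_ok : classOK 11 1155 gT tCh0 tAux0 tRep0 = true :=
  classOK_of_fast rfl tRepD.1 rfl gT_moves tKeys0_ok tStepF0_ok

theorem tKeys1_ok : (List.range 330).all (keysF 11 tCh1) = true := by decide +kernel

theorem tStepF1_ok :
    (List.range 330).all (stepF 11 330 mask11 gT gTK tCh1 tAux1 (pk 11 tRep1)) = true := by decide +kernel

theorem tClass1_ok : classOK 11 330 gT tCh1 tAux1 tRep1 = true :=
  classOK_of_fast rfl tRepD.2.1 rfl gT_moves tKeys1_ok tStepF1_ok

theorem tKeys2_ok : (List.range 1386).all (keysF 11 tCh2) = true := by decide +kernel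

theorem tStepF2_ok :
    (List.range 1386).all (stepF 11 1386 mask11 gT gTK tCh2 tAux2 (pk 11 tRep2)) = true := by decide +kernel

theorem tClass2_ok : classOK 11 1386 gT tCh2 tAux2 tRep2 = true :=
  classOK_of_fast rfl tRepD.2.2 rfl gT_moves tKeys2_ok tStepF2_ok

theorem tSub0_ok : subOK 11 256 tSubG0 tSubCh0 tSubAux0 tSubMul0 = true := by decide +kernel

theorem tSub1_ok : subOK 11 128 tSubG1 tSubCh1 tSubAux1 tSubMul1 = true := by decide +kernel

theorem tSub2_ok : subOK 11 128 tSubG2 tSubCh2 tSubAux2 tSubMul2 = true := by decide +kernel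

theorem tSubComm_ok : tSubG0.all (fun g => comp g tRep0 == comp tRep0 g) = true ∧
    tSubG1.all (fun g => comp g tRep1 == comp tRep1 g) = true ∧
    tSubG2.all (fun g => comp g tRep2 == comp tRep2 g) = true := by decide +kernel

/-- Membership of a listed element by an exhibited inverse, for evaluation in the kernel. -/
noncomputable def elAnyF (W : List ℕ) : Bool :=
  let Wi := pw 11 W (ordM 11 W - 1)
  elF W Wi

/-- Membership of a listed element by an exhibited inverse. -/
def elAny (W : List ℕ) : Bool :=
  let Wi := pw 11 W (ordM 11 W - 1)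
  elOK W Wi

theorem tElsF_ok :
    (tSubG0 ++ tSubG1 ++ tSubG2 ++ [tOdd0p3, tOdd1p3, tOdd1p7, tOdd2p5, tRep0, tRep1, tRep2]).all elAnyF
    = true := by decide +kernel

theorem tEls_ok : (tSubG0 ++ tSubG1 ++ tSubG2 ++ [tOdd0p3, tOdd1p3, tOdd1p7, tOdd2p5, tRep0, tRep1, tRep2]).all elAny
    = true :=
  List.all_eq_true.2 fun W hW => elOK_of_fast smallBits_ok (List.all_eq_true.1 tElsF_ok W hW)

theorem tOdd_ok :
    (pw 11 tOdd0p3 3 == idn 11 && !(tOdd0p3 == idn 11) && comp tOdd0p3 tRep0 == comp tRep0 tOdd0p3) = true ∧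
    (pw 11 tOdd1p3 3 == idn 11 && !(tOdd1p3 == idn 11) && comp tOdd1p3 tRep1 == comp tRep1 tOdd1p3) = true ∧
    (pw 11 tOdd1p7 7 == idn 11 && !(tOdd1p7 == idn 11) && comp tOdd1p7 tRep1 == comp tRep1 tOdd1p7) = true ∧
    (pw 11 tOdd2p5 5 == idn 11 && !(tOdd2p5 == idn 11) && comp tOdd2p5 tRep2 == comp tRep2 tOdd2p5) = true := by
  decide +kernel

theorem tSyl_ok : (List.range 256).all (fun i =>
    let B := getM 11 tSubCh0 i
    let v := tab tSylCls 24 i
    bif Nat.beq v 0 then (B == idn 11 || !(comp B B == idn 11))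
    else Nat.blt ((v - 1) % 4) 3 && Nat.blt ((v - 1) / 4) (tN ((v - 1) % 4)) &&
      getM 11 (tCh ((v - 1) % 4)) ((v - 1) / 4) == B) = true := by decide +kernel

theorem tV0_ok : vOrbOK 1 1540 tV0 tVAux0 = true := by decide +kernel

theorem tV1_ok : vOrbOK 2 231 tV1 tVAux1 = true := by decide +kernel

theorem tVBits_ok : orAll ((List.range 1540).map (tab tV0 24)) = tV0Bits ∧
    orAll ((List.range 231).map (tab tV1 24)) = tV1Bits := by decide +kernel

theorem tV_coverF : (List.range 2048).all (fun a => Nat.beq a 0 || smallBits.testBit a || tV0Bits.testBit a ||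
    tV1Bits.testBit a) = true := by decide +kernel

theorem tV_cover : (List.range 2048).all (fun a => Nat.beq a 0 || LargeFischer.pairMask.testBit (ap JFour.toT a) ||
    ((List.range 1540).map (tab tV0 24) ++ (List.range 231).map (tab tV1 24)).contains a) = true := by
  rw [List.all_eq_true]
  intro a ha
  have h := List.all_eq_true.1 tV_coverF a ha
  rw [beq_iff_eq.1 (List.all_eq_true.1 smallBits_ok a ha)] at h
  simp only [Bool.or_eq_true] at h ⊢
  rcases h with (h | h) | h
  · exact Or.inl h
  · exact Or.inr (List.contains_iff_mem.2 (List.mem_append_left _ (mem_of_orAll (by rw [tVBits_ok.1]; exact h))))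
  · exact Or.inr (List.contains_iff_mem.2 (List.mem_append_right _ (mem_of_orAll (by rw [tVBits_ok.2]; exact h))))

theorem tV_nomask : ((List.range 1540).map (tab tV0 24) ++ (List.range 231).map (tab tV1 24)).all (fun a =>
    Nat.blt a 2048 && !Nat.beq a 0 && !LargeFischer.pairMask.testBit (ap JFour.toT a)) = true := by decide +kernel

theorem orAll_mem {L : List ℕ} {a : ℕ} (h : a ∈ L) : (orAll L).testBit a = true := by
  suffices ∀ (L : List ℕ) (m : ℕ), m.testBit a = true ∨ a ∈ L →
      (L.foldl (fun m a => m ||| 2 ^ a) m).testBit a = true from this L 0 (Or.inr h)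
  intro L
  induction L with
  | nil => exact fun m h => h.resolve_right List.not_mem_nil
  | cons b L ih =>
    intro m h
    refine ih _ ?_
    rcases h with k | k
    · exact Or.inl (by rw [Nat.testBit_or, k, Bool.true_or])
    · rcases List.mem_cons.1 k with k | k
      · subst k
        exact Or.inl (by rw [Nat.testBit_or, Nat.testBit_two_pow_self, Bool.or_true])
      · exact Or.inr k

theorem tV_apartF : ((List.range 231).map (tab tV1 24)).all (fun a => !tV0Bits.testBit a) = true := by
  decide +kernel

theorem tV_apart : (tV0 != tV1) = true ∧ ((List.range 231).map (tab tV1 24)).all (fun a =>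
    !((List.range 1540).map (tab tV0 24)).contains a) = true := by
  refine ⟨by decide +kernel, List.all_eq_true.2 fun a ha => ?_⟩
  have h := List.all_eq_true.1 tV_apartF a ha
  rw [Bool.not_eq_true', ← tVBits_ok.1] at h
  rw [Bool.not_eq_true', Bool.eq_false_iff]
  intro hc
  rw [orAll_mem (List.contains_iff_mem.1 hc)] at h
  exact Bool.noConfusion h

theorem tRep_ok : (List.range 3).all (fun c => Nat.beq ((fixL 11 (tRep c)).length) (cond (Nat.beq c 2) 64 128) &&
    Nat.beq ((imL 11 (tRep c)).length) (cond (Nat.beq c 2) 32 16)) = true := by decide +kernel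

end CfsgLib.JFourOrder
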