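import Cfsg.Agent.Lib.JFourOrder.TType
import Cfsg.Agent.Lib.JFourOrder.TClassChecks
import Cfsg.Agent.Lib.JFourOrder.TApartChecks
import Cfsg.Agent.Lib.JFourOrder.PairCount

/-!
# The involutions of the centralizer of the second involution, by key
-/

set_option autoImplicit false
set_option maxRecDepth 100000
set_option linter.style.haveILetI false
set_option linter.unusedSectionVars false

open Cfsg

namespace CfsgLib.JFourOrder

open CfsgLib.JFour

/-- The indices of the keys: the identity or a member of one of the classes. -/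
abbrev TIdx : Type := Option (Σ c : Fin 3, Fin (tN c.1))

/-- The key with a given index. -/
def tKey : TIdx → List ℕ
  | none => id11
  | some ⟨c, i⟩ => getM 11 (tCh c.1) i.1

theorem tClass_ok {c : ℕ} (hc : c < 3) : classOK 11 (tN c) gT (tCh c) (tAux c) (tRep c) = true := by
  interval_cases c
  exacts [tClass0_ok, tClass1_ok, tClass2_ok]

theorem elOK_facts {W Wi : List ℕ} (h : elOK W Wi = true) :
    okL W = true ∧ keepsPairs W = true ∧ ap W 4 = 4 ∧ comp Wi W = id11 ∧ comp Wi id11 = Wi ∧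
      comp W Wi = id11 := by
  simp only [elOK, elOK.pairOK11, Bool.and_eq_true, Nat.beq_eq, beq_iff_eq] at h
  obtain ⟨⟨⟨h1, h2⟩, h3⟩, ⟨h4, h5⟩, h6⟩ := h
  exact ⟨h1, h2, h3, h4, h5, h6⟩

theorem pairOK_of {W Wi : List ℕ} (h1 : comp Wi W = id11) (h2 : comp Wi id11 = Wi) : pairOK 11 (W, Wi) = true := by
  simp [pairOK, idn_eleven, h1, h2]

namespace Comp

variable {G : Type*} [Group G] [Finite G] {M : Type*} [Group M] [Finite M] {z π : G} {E : Subgroup G}
variable {J : Ctx M z π E} {g : ℕ → M} {vec : ℕ → G} {V : Subgroup G}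
variable {D : J.Std g vec V} {K : Subgroup G} (hK : Comp D K)
include hK

theorem exists_el {W Wi : List ℕ} (h : elOK W Wi = true) :
    ∃ k : ↥(Kt J g vec K), hK.repT.ρ k = W ∧ hK.repT.ρ k⁻¹ = Wi := by
  obtain ⟨hL, hP, h4, hi1, hi2, -⟩ := elOK_facts h
  obtain ⟨m, hmA⟩ := D.realize hL hP (R := Wi) (List.all_eq_true.2 fun n hn => by
    rw [nat_beq_decide, decide_eq_true_eq, ← ap_comp, hi1, ap_id11 (List.mem_range.1 hn)])
  obtain ⟨b, hb, k, rfl⟩ := hK.split (D.vacts_mem hmA)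
  have hk : hK.mat k = W := by
    refine hK.mat_eq ?_
    have h1 := D.vacts_mul (D.vacts_V (D.ev_mem b)) hmA
    rw [← mul_assoc, D.isV.sq _ (D.ev_mem b), one_mul] at h1
    have h2 : comp id11 W = W := cols_ext (vacts_len h1) (okL_len hL) fun j hj => by
      rw [ap_comp, ap_id11 (okL_lt hL _)]
    rwa [h2] at h1
  refine ⟨⟨k, hK.mem_Kt.2 (by rw [hk, h4])⟩, hk, ?_⟩
  exact hK.repT.inv_eq hk (pairOK_of hi1 hi2)

theorem gensT : hK.repT.Gens gT := fun p hp => hK.exists_el (List.all_eq_true.1 gT_ok p hp)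

theorem exists_listed {W : List ℕ}
    (h : W ∈ tSubG0 ++ tSubG1 ++ tSubG2 ++ [tOdd0p3, tOdd1p3, tOdd1p7, tOdd2p5, tRep0, tRep1, tRep2]) :
    ∃ k : ↥(Kt J g vec K), hK.repT.ρ k = W := by
  obtain ⟨k, hk, -⟩ := hK.exists_el (List.all_eq_true.1 tEls_ok W h)
  exact ⟨k, hk⟩

theorem exists_tRep {c : ℕ} (hc : c < 3) : ∃ k : ↥(Kt J g vec K), hK.repT.ρ k = tRep c :=
  hK.exists_listed (by interval_cases c <;> simp [tRep])

/-- The representative of a class. -/
noncomputable def rp (c : ℕ) (hc : c < 3) : ↥(Kt J g vec K) := (hK.exists_tRep hc).choose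

theorem rp_spec {c : ℕ} (hc : c < 3) : hK.repT.ρ (hK.rp c hc) = tRep c := (hK.exists_tRep hc).choose_spec

theorem rp_sq {c : ℕ} (hc : c < 3) : hK.rp c hc * hK.rp c hc = 1 ∧ hK.rp c hc ≠ 1 := by
  have h := List.all_eq_true.1 tRep_ne c (List.mem_range.2 hc)
  simp only [Bool.and_eq_true, Bool.not_eq_true', beq_eq_false_iff_ne, beq_iff_eq] at h
  refine ⟨hK.repT.inj ?_, fun e => h.1 ?_⟩
  · rw [hK.repT.mul, hK.rp_spec hc, h.2, hK.repT.one, idn_eleven]
  · rw [← hK.rp_spec hc, e, hK.repT.one, idn_eleven]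

theorem class_all {c : ℕ} (hc : c < 3) (x : ↥(Kt J g vec K)) :
    ∃ i < tN c, getM 11 (tCh c) i = hK.repT.ρ (x * hK.rp c hc * x⁻¹) := by
  classical
  have hr := hK.rp_spec hc
  obtain ⟨o0, o1, o7, o5⟩ := tOdd_ok
  have hsub : ∀ (gens : List (List ℕ)) {n : ℕ} {ch aux mt : List ℕ}, subOK 11 n gens ch aux mt = true →
      (∀ W ∈ gens, W ∈ tSubG0 ++ tSubG1 ++ tSubG2 ++ [tOdd0p3, tOdd1p3, tOdd1p7, tOdd2p5, tRep0, tRep1, tRep2]) →
      gens.all (fun g => comp g (tRep c) == comp (tRep c) g) = true →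
      n ∣ Nat.card (Subgroup.centralizer ({hK.rp c hc} : Set ↥(Kt J g vec K))) := by
    intro gens n ch aux mt hs hmem hcomm
    choose! f hf using fun W (hW : W ∈ gens) => hK.exists_listed (hmem W hW)
    refine hK.repT.sub_dvd hs (fun k => f (gens.getD k [])) (fun k hk => hf _ ?_) hr hcomm
    rw [List.getD_eq_getElem _ _ hk]; exact List.getElem_mem hk
  have hodd : ∀ {W : List ℕ} {p : ℕ}, p.Prime →
      W ∈ tSubG0 ++ tSubG1 ++ tSubG2 ++ [tOdd0p3, tOdd1p3, tOdd1p7, tOdd2p5, tRep0, tRep1, tRep2] →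
      (pw 11 W p == idn 11 && !(W == idn 11) && comp W (tRep c) == comp (tRep c) W) = true →
      p ∣ Nat.card (Subgroup.centralizer ({hK.rp c hc} : Set ↥(Kt J g vec K))) := by
    intro W p hp hmem h
    obtain ⟨y, hy⟩ := hK.exists_listed hmem
    exact hK.repT.prime_dvd hp hy hr h
  have hN : Nat.card ↥(Kt J g vec K) = 887040 := hK.card_Kt
  interval_cases c
  · refine hK.repT.class_exact hK.gensT (tClass_ok (by norm_num)) hr (k := 768) ?_ (by rw [hN]; decide) x
    exact Nat.Coprime.mul_dvd_of_dvd_of_dvd (m := 256) (n := 3) (by norm_num)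
      (hsub tSubG0 tSub0_ok (fun W hW => by simp [hW]) tSubComm_ok.1) (hodd Nat.prime_three (by simp) o0)
  · refine hK.repT.class_exact hK.gensT (tClass_ok (by norm_num)) hr (k := 2688) ?_ (by rw [hN]; decide) x
    exact Nat.Coprime.mul_dvd_of_dvd_of_dvd (m := 128) (n := 21) (by norm_num)
      (hsub tSubG1 tSub1_ok (fun W hW => by simp [hW]) tSubComm_ok.2.1)
      (Nat.Coprime.mul_dvd_of_dvd_of_dvd (m := 3) (n := 7) (by norm_num) (hodd Nat.prime_three (by simp) o1)
        (hodd (by norm_num) (by simp) o7))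
  · refine hK.repT.class_exact hK.gensT (tClass_ok (by norm_num)) hr (k := 640) ?_ (by rw [hN]; decide) x
    exact Nat.Coprime.mul_dvd_of_dvd_of_dvd (m := 128) (n := 5) (by norm_num)
      (hsub tSubG2 tSub2_ok (fun W hW => by simp [hW]) tSubComm_ok.2.2) (hodd (by norm_num) (by simp) o5)

theorem factorization_Kt : (Nat.card ↥(Kt J g vec K)).factorization 2 = 8 := by
  rw [hK.card_Kt, show (887040 : ℕ) = 2 ^ 8 * 3465 from by norm_num,
    Nat.factorization_mul (by norm_num) (by norm_num), Finsupp.add_apply, Nat.factorization_pow]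
  simp [Nat.prime_two.factorization_self, Nat.factorization_eq_zero_of_not_dvd (show ¬ 2 ∣ 3465 by norm_num)]

/-- Every member of square one has a listed key. -/
theorem invol_key {k : ↥(Kt J g vec K)} (hk : k * k = 1) : ∃ i : TIdx, hK.repT.ρ k = tKey i := by
  classical
  choose! f hf using fun W (hW : W ∈ tSubG0) => hK.exists_listed (W := W) (by simp [hW])
  obtain ⟨c, i, hi, he⟩ := hK.repT.invol_in_sub (e := 8) (gens := tSubG0) tSub0_ok
    (fun k => f (tSubG0.getD k [])) (fun k hk => hf _ (by rw [List.getD_eq_getElem _ _ hk]; exact List.getElem_mem hk))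
    hK.factorization_Kt hk
  set y := c * k * c⁻¹ with hy
  have hy2 : y * y = 1 := by rw [hy, show c * k * c⁻¹ * (c * k * c⁻¹) = c * (k * k) * c⁻¹ by group, hk]; group
  have h := List.all_eq_true.1 tSyl_ok i (List.mem_range.2 hi)
  simp only [] at h
  cases hv : Nat.beq (tab tSylCls 24 i) 0
  · simp only [hv, cond_false, Bool.and_eq_true, Nat.blt_eq, beq_iff_eq] at h
    obtain ⟨⟨hc3, hlt⟩, hget⟩ := h
    obtain ⟨x, hx⟩ := hK.repT.class_mem hK.gensT (tClass_ok hc3) (hK.rp_spec hc3) hlt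
    rw [hget, ← he] at hx
    have hxy := hK.repT.inj hx
    obtain ⟨j, hj, hje⟩ := hK.class_all hc3 (c⁻¹ * x)
    refine ⟨some ⟨⟨_, hc3⟩, ⟨j, hj⟩⟩, ?_⟩
    rw [tKey, hje]
    congr 1
    rw [show c⁻¹ * x * hK.rp _ hc3 * (c⁻¹ * x)⁻¹ = c⁻¹ * (x * hK.rp _ hc3 * x⁻¹) * c by group, hxy, hy]
    group
  · simp only [hv, cond_true, Bool.or_eq_true, beq_iff_eq, Bool.not_eq_true', beq_eq_false_iff_ne] at h
    refine ⟨none, ?_⟩
    have hy1 : y = 1 := by
      refine h.elim (fun e => hK.repT.inj (by rw [he, e, hK.repT.one])) (fun e => absurd ?_ e)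
      rw [← he, ← hK.repT.mul, hy2, hK.repT.one]
    rw [show k = 1 by
      have : c⁻¹ * y * c = k := by rw [hy]; group
      rw [← this, hy1]; group, hK.repT.one, idn_eleven]
    rfl

theorem key_member (i : TIdx) : ∃ k : ↥(Kt J g vec K), hK.repT.ρ k = tKey i := by
  match i with
  | none => exact ⟨1, by rw [hK.repT.one, idn_eleven]; rfl⟩
  | some ⟨c, j⟩ =>
    obtain ⟨x, hx⟩ := hK.repT.class_mem hK.gensT (tClass_ok c.2) (hK.rp_spec c.2) j.2
    exact ⟨_, hx⟩

theorem tKey_injective : Function.Injective tKey := by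
  have hne : ∀ (c : Fin 3) (i : Fin (tN c.1)), getM 11 (tCh c.1) i.1 ≠ id11 := fun c i e => by
    obtain ⟨x, hx⟩ := hK.repT.class_mem hK.gensT (tClass_ok c.2) (hK.rp_spec c.2) i.2
    rw [e, ← idn_eleven, ← hK.repT.one] at hx
    have := hK.repT.inj hx
    rw [mul_inv_eq_one, mul_eq_left] at this
    exact (hK.rp_sq c.2).2 this
  have happ : ∀ (c c' : Fin 3) (i : Fin (tN c.1)) (j : Fin (tN c'.1)), c.1 < c'.1 →
      getM 11 (tCh c.1) i.1 ≠ getM 11 (tCh c'.1) j.1 := fun c c' i j hlt e => by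
    obtain ⟨x, hx⟩ := hK.repT.class_mem hK.gensT (tClass_ok c.2) (hK.rp_spec c.2) i.2
    obtain ⟨y, hy⟩ := hK.repT.class_mem hK.gensT (tClass_ok c'.2) (hK.rp_spec c'.2) j.2
    have h := hK.repT.inj (hx.trans (e.trans hy.symm))
    obtain ⟨l, hl, hle⟩ := hK.class_all c.2 (y⁻¹ * x)
    rw [show y⁻¹ * x * hK.rp c.1 c.2 * (y⁻¹ * x)⁻¹ = y⁻¹ * (x * hK.rp c.1 c.2 * x⁻¹) * y by group, h,
      show y⁻¹ * (y * hK.rp c'.1 c'.2 * y⁻¹) * y = hK.rp c'.1 c'.2 by group, hK.rp_spec] at hle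
    have := List.all_eq_true.1 (List.all_eq_true.1 (List.all_eq_true.1 tApart_ok c'.1 (List.mem_range.2 c'.2)) c.1
      (List.mem_range.2 hlt)) l (List.mem_range.2 hl)
    rw [hle, beq_self_eq_true] at this
    exact absurd this (by decide)
  rintro (_ | ⟨c, i⟩) (_ | ⟨c', j⟩) e
  · rfl
  · exact absurd e.symm (hne c' j)
  · exact absurd e (hne c i)
  · rcases lt_trichotomy c.1 c'.1 with h | h | h
    · exact absurd e (happ c c' i j h)
    · obtain rfl := Fin.ext h
      have hij : i.1 = j.1 := classOK_keys (tClass_ok c.2) i.2 j.2 e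
      rw [Fin.ext hij]
    · exact absurd e.symm (happ c' c j i h)

/-- The key of an element of the centralizer. -/
noncomputable def key (v : G) : List ℕ :=
  haveI := Classical.propDecidable
  if h : ∃ k : ↥K, ∃ a < 2048, v = ev J g vec a * k then hK.mat h.choose else []

theorem key_code {a : ℕ} (ha : a < 2048) (k : ↥K) : hK.key (ev J g vec a * k) = hK.mat k := by
  have h : ∃ l : ↥K, ∃ b < 2048, ev J g vec a * k = ev J g vec b * l := ⟨k, a, ha, rfl⟩
  obtain ⟨b, hb, e⟩ := h.choose_spec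
  rw [key, dif_pos h, ← (hK.split_unique ha hb e).2]

theorem invol_code {v : G} (hv : v * tEl J g vec = tEl J g vec * v) (hv2 : v * v = 1) :
    ∃ a < 2048, ∃ k : ↥(Kt J g vec K), v = ev J g vec a * ((k : ↥K) : G) ∧ k * k = 1 ∧
      ap (hK.repT.ρ k) a = a ∧ hK.key v = hK.repT.ρ k := by
  obtain ⟨a, ha, k, hk, rfl⟩ := hK.cent_split hv
  have hkk : k * k = 1 := by
    refine (hK.split_unique (Nat.xor_lt_two_pow (n := 11) ha (okL_lt (hK.mat_spec k).1 a))
      (show (0 : ℕ) < 2048 by norm_num) (l := 1) ?_).2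
    rw [← hK.code_mul ha, hv2, D.ev_zero]; simp
  exact ⟨a, ha, ⟨k, hk⟩, rfl, Subtype.ext hkk, (hK.fixed_iff ha hkk).1 hv2, hK.key_code ha k⟩

omit hK in
theorem isConj_t_iff (D : J.Std g vec V) {v : G} (hv2 : v * v = 1) (hv1 : v ≠ 1) :
    IsConj (tEl J g vec) v ↔ ¬ IsConj z v := by
  have ht := isD_four D
  refine ⟨fun h hz => ht.2.2 (hz.trans h.symm), fun hnz => ?_⟩
  obtain ⟨d, hd, hvd⟩ := (D.invol_cases hv2 hv1).resolve_left hnz
  obtain ⟨n, -, hn⟩ := D.D_trans ht hd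
  exact (isConj_iff.2 ⟨n, hn⟩ : IsConj (tEl J g vec) d).trans hvd.symm

end Comp

end CfsgLib.JFourOrder
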