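import Cfsg.Agent.Lib.JFourOrder.TType

/-!
# The types of the outer involutions

Of the outer involution and its product with `z` exactly one is conjugate to `z`; neither of the products with a
lift of the third basis product is.
-/

set_option autoImplicit false
set_option maxRecDepth 100000
set_option linter.style.haveILetI false
set_option linter.unusedSectionVars false

open Cfsg

namespace CfsgLib.JFourOrder

open CfsgLib.JFour

namespace Comp

variable {G : Type*} [Group G] [Finite G] {M : Type*} [Group M] [Finite M] {z π : G} {E : Subgroup G}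
variable {J : Ctx M z π E} {g : ℕ → M} {vec : ℕ → G} {V : Subgroup G}
variable {D : J.Std g vec V} {K : Subgroup G} (hK : Comp D K)
include hK

omit hK in
theorem ev_zz (D : J.Std g vec V) : ev J g vec 64 = z := by
  have h := D.ev_low_zb (j := 0) (by norm_num) true
  simp only [cond_true] at h
  rw [h, show uC 0 = 0 from ap_zero _, D.hat_zero]
  simp [zb]

theorem tau_types {τ : G} (hτ2 : τ * τ = 1) (hτA : VActs J g vec τ outL) (hτB : Acts z vec τ outB)
    (hτz : τ * z = z * τ) (hτp : τ * π * τ⁻¹ = π⁻¹) :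
    (IsConj z τ ↔ ¬ IsConj z (z * τ)) ∧ ¬ IsConj z (τ * ev J g vec 384) ∧ ¬ IsConj z (τ * ev J g vec 448) := by
  obtain ⟨f384, f64, hcnt, -, hall⟩ := tau_ok
  obtain ⟨a, ha, k, hak⟩ := hK.split (D.vacts_mem hτA)
  have hm : hK.mat k = outL := by
    refine hK.mat_eq ?_
    have h1 := D.vacts_mul (D.vacts_V (D.ev_mem a)) hτA
    rw [hak, ← mul_assoc, D.isV.sq _ (D.ev_mem a), one_mul] at h1
    have h2 : comp id11 outL = outL := cols_ext (vacts_len h1) (okL_len hτA.1) fun j hj => by
      rw [ap_comp, ap_id11 (okL_lt hτA.1 _)]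
    rwa [h2] at h1
  have hsq : k * k = 1 ∧ ap outL a = a := by
    have h : ev J g vec a * k * (ev J g vec a * k) = ev J g vec 0 * ((1 : ↥K) : G) := by
      rw [← hak, hτ2, D.ev_zero]; simp
    have hk : k * k = 1 := by
      rw [hK.code_mul ha] at h
      exact (hK.split_unique (Nat.xor_lt_two_pow (n := 11) ha (okL_lt (hK.mat_spec k).1 a)) (by norm_num) h).2
    refine ⟨hk, ?_⟩
    rw [← hm, ← hK.fixed_iff ha hk, ← hak, hτ2]
  obtain ⟨hk, hfa⟩ := hsq
  have hk1 : k ≠ 1 := by
    intro e
    have hid : outL = id11 := by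
      rw [← hm, e, ← idn_eleven]; exact hK.rep.one
    exact absurd hid (by decide +kernel)
  have hA := fun x (hx : x < 2048) (hf : ap outL x = x) =>
    (hK.two_A hk hk1 (hm ▸ hcnt) (a := x) hx (hm ▸ hf)).trans (iff_of_eq (congrArg (fun L => InIm L x) hm))
  have hlen : outL.length = 11 := okL_len hτA.1
  -- the commuting representatives
  have hante : tauJ.all (fun p => (imL 11 (actW p.1)).any fun b =>
      Nat.beq (Nat.xor a (ap outL (Nat.xor p.2 b))) (Nat.xor (Nat.xor p.2 b) (ap (actW p.1) a))) = true := by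
    rw [List.all_eq_true]
    rintro ⟨j, q⟩ hp
    have h := List.all_eq_true.1 tauJ_ok _ hp
    simp only [Bool.and_eq_true, Nat.blt_eq, Nat.beq_eq] at h
    obtain ⟨⟨⟨⟨⟨hj, hq⟩, hfix⟩, hfq⟩, hcj⟩, hlay⟩ := h
    have hAj := D.actW_eq hj
    obtain ⟨b, hb, kj, hbk⟩ := hK.split (D.vacts_mem hAj)
    have hmj : hK.mat kj = actW j := by
      refine hK.mat_eq ?_
      have h1 := D.vacts_mul (D.vacts_V (D.ev_mem b)) hAj
      rw [hbk, ← mul_assoc, D.isV.sq _ (D.ev_mem b), one_mul] at h1
      have h2 : comp id11 (actW j) = actW j := cols_ext (vacts_len h1) (okL_len hAj.1) fun i hi => by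
        rw [ap_comp, ap_id11 (okL_lt hAj.1 _)]
      rwa [h2] at h1
    have hkj : kj * kj = 1 := by
      have h := D.hat_wC_sq hj
      rw [hbk, hK.code_mul hb] at h
      refine (hK.split_unique (Nat.xor_lt_two_pow (n := 11) hb (okL_lt (hK.mat_spec kj).1 b))
        (show (0 : ℕ) < 2048 by norm_num) (l := 1) ?_).2
      rw [h, D.ev_zero]; simp
    have hfb : ap (actW j) b = b := by
      rw [← hmj, ← hK.fixed_iff hb hkj, ← hbk]; exact D.hat_wC_sq hj
    have hkj1 : kj ≠ 1 := fun e => by
      rw [e, show hK.mat 1 = idn 11 from hK.rep.one] at hmj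
      rw [← hmj, show (fixL 11 (idn 11)).length = 2048 from by decide +kernel] at hcj
      omega
    have hq11 : q < 2048 := by omega
    have hin : InIm (actW j) (b ^^^ q) := by
      rw [← hmj, ← hK.two_A hkj hkj1 (hmj ▸ hcj) (Nat.xor_lt_two_pow (n := 11) hb hq11)
        (by rw [hmj, ap_xor, hfb, hfq])]
      have hz := (hK.low_type hj hq).1 hlay
      rwa [hbk, mul_assoc, hK.push kj hq11, hmj, hfq, ← mul_assoc, ← D.ev_xor] at hz
    have hcomm : τ * hat z π vec (wC j) = hat z π vec (wC j) * τ := by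
      have hw := List.all_eq_true.1 w_ok.2.2 j (List.mem_range.2 hj)
      simp only [Bool.and_eq_true, List.all_eq_true, Bool.not_eq_true'] at hw
      have hbe : beta (wC j) (wC j) = false := by
        rw [← betaQ_eq (wC_facts hj).1]; exact hw.2 j (List.mem_range.2 hj)
      have := D.hat_conj_invert hτB hτz hτp (wC_facts hj).1 hbe
      rw [hfix] at this
      exact mul_inv_eq_iff_eq_mul.1 this
    rw [hak, hbk, hK.code_mul hb, hK.code_mul ha] at hcomm
    have e := (hK.split_unique (Nat.xor_lt_two_pow (n := 11) ha (okL_lt (hK.mat_spec k).1 b))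
      (Nat.xor_lt_two_pow (n := 11) hb (okL_lt (hK.mat_spec kj).1 a)) hcomm).1
    rw [hm, hmj] at e
    rw [List.any_eq_true]
    refine ⟨b ^^^ q, List.contains_iff_mem.1 ((contains_imL (okL_len hAj.1)).2 hin), ?_⟩
    rw [Nat.beq_eq]
    show a ^^^ ap outL (q ^^^ (b ^^^ q)) = (q ^^^ (b ^^^ q)) ^^^ ap (actW j) a
    rw [show q ^^^ (b ^^^ q) = b by rw [Nat.xor_comm b q, ← Nat.xor_assoc, Nat.xor_self, Nat.zero_xor]]
    exact e
  have h := List.all_eq_true.1 hall a (List.mem_filter.2 ⟨List.mem_range.2 ha, by rw [hfa]; exact Nat.beq_refl a⟩)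
  rw [hante] at h
  simp only [Bool.not_true, Bool.false_or, Bool.and_eq_true, Bool.not_eq_true'] at h
  obtain ⟨⟨hx, h1⟩, h2⟩ := h
  have hcode : ∀ n < 2048, ap outL n = n → τ * ev J g vec n = ev J g vec (a ^^^ n) * k := fun n hn hf => by
    rw [hak, mul_assoc, hK.push k hn, hm, hf, ← mul_assoc, D.ev_xor]
  have f448 : ap outL 448 = 448 := by
    rw [show (448 : ℕ) = 384 ^^^ 64 from rfl, ap_xor, f384, f64]
  have hl : ∀ n < 2048, a ^^^ n < 2048 := fun n hn => Nat.xor_lt_two_pow (n := 11) ha hn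
  have hz : z * τ = ev J g vec (a ^^^ 64) * k := by rw [← hcode 64 (by norm_num) f64, ev_zz D, hτz]
  refine ⟨?_, ?_, ?_⟩
  · rw [hz, hA _ (hl 64 (by norm_num)) (by rw [ap_xor, hfa, f64]), hak, hA a ha hfa,
      ← contains_imL hlen, ← contains_imL hlen]
    change ((imL 11 outL).contains a ^^ (imL 11 outL).contains (a ^^^ 64)) = true at hx
    revert hx
    cases (imL 11 outL).contains a <;> cases (imL 11 outL).contains (a ^^^ 64) <;> simp
  · rw [hcode 384 (by norm_num) f384, hA _ (hl 384 (by norm_num)) (by rw [ap_xor, hfa, f384]), ← contains_imL hlen]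
    change (imL 11 outL).contains (a ^^^ 384) = false at h1
    exact Bool.eq_false_iff.1 h1
  · rw [hcode 448 (by norm_num) f448, hA _ (hl 448 (by norm_num)) (by rw [ap_xor, hfa, f448]), ← contains_imL hlen,
      show a ^^^ 448 = (a ^^^ 384) ^^^ 64 from by rw [Nat.xor_assoc]; rfl]
    change (imL 11 outL).contains ((a ^^^ 384) ^^^ 64) = false at h2
    exact Bool.eq_false_iff.1 h2

end Comp

end CfsgLib.JFourOrder
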