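import Cfsg.Agent.Lib.JFourOrder.HCond
import Cfsg.Agent.Lib.JFourOrder.TTau
import Cfsg.Agent.Lib.JFourOrder.TKeys
import Cfsg.Agent.Lib.JFourOrder.TCalc

/-!
# The types of the involutions of the centralizer of the central involution, by code
-/

set_option autoImplicit false
set_option maxRecDepth 100000
set_option linter.style.haveILetI false
set_option linter.unusedSectionVars false

open Cfsg

namespace CfsgLib.JFourOrder

open CfsgLib.JFour
open CfsgLib.LargeFischer (pairMask)

/-- The number of members with the property among an element and its translate by `z`. -/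
noncomputable def lifts {G : Type*} [Group G] (P : G → Prop) (z v : G) : ℕ :=
  haveI := Classical.decPred P
  (if P v then 1 else 0) + (if P (z * v) then 1 else 0)

theorem conj_sq {G : Type*} [Group G] {a v : G} (ha : a * a = 1) (h : IsConj a v) : v * v = 1 := by
  obtain ⟨c, rfl⟩ := isConj_iff.1 h
  rw [show c * a * c⁻¹ * (c * a * c⁻¹) = c * (a * a) * c⁻¹ by group, ha]
  group

theorem lifts_none {G : Type*} [Group G] {P : G → Prop} {z v : G} (h1 : ¬ P v) (h2 : ¬ P (z * v)) :
    lifts P z v = 0 := by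
  simp [lifts, h1, h2]

theorem lifts_both {G : Type*} [Group G] {P : G → Prop} {z v : G} (h1 : P v) (h2 : P (z * v)) :
    lifts P z v = 2 := by
  simp [lifts, h1, h2]

theorem lifts_one {G : Type*} [Group G] {P : G → Prop} {z v : G} (h : P v ↔ ¬ P (z * v)) : lifts P z v = 1 := by
  by_cases h2 : P (z * v) <;> simp [lifts, h, h2]

/-- The number of conjugates of `z` over a translation for the inner representative. -/
def nzIn (a : ℕ) : ℕ := bif anNum.testBit a then 0 else 2 - ntIn a

/-- The number of conjugates of `z` over a translation for a representative. -/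
def nzH (c a : ℕ) : ℕ := bif Nat.beq c 0 then nzIn a else bif Nat.beq c 1 then 1 else 0

variable {G : Type*} [Group G] [Finite G] {M : Type*} [Group M] [Finite M] {z π : G} {E : Subgroup G}
variable {J : Ctx M z π E} {g : ℕ → M} {vec : ℕ → G} {V : Subgroup G}
variable {D : J.Std g vec V} {K : Subgroup G}

theorem t_facts (D : J.Std g vec V) :
    tEl J g vec * tEl J g vec = 1 ∧ tEl J g vec ≠ 1 ∧ ¬ IsConj z (tEl J g vec) :=
  ⟨D.isV.sq _ (D.ev_mem 4), (isD_four D).2.1, (isD_four D).2.2⟩

theorem t_of {v : G} (D : J.Std g vec V) (hv : IsConj (tEl J g vec) v) : v * v = 1 ∧ v ≠ 1 ∧ ¬ IsConj z v :=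
  ⟨conj_sq (t_facts D).1 hv, fun e => (t_facts D).2.1 (by
    subst e
    obtain ⟨c, hc⟩ := isConj_iff.1 hv
    exact conj_eq_one_iff.1 hc), fun h => (t_facts D).2.2 (h.trans hv.symm)⟩

theorem z_of {v : G} (J : Ctx M z π E) (hv : IsConj z v) : v * v = 1 ∧ v ≠ 1 :=
  ⟨conj_sq J.zz hv, fun e => J.z_ne (by
    subst e
    obtain ⟨c, hc⟩ := isConj_iff.1 hv
    exact conj_eq_one_iff.1 hc)⟩

theorem ev_isD {n : ℕ} (D : J.Std g vec V) (hn : n < 2048) :
    IsConj (tEl J g vec) (ev J g vec n) ↔ pairMask.testBit (ap toT n) = true := by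
  rw [← D.isD_pairs hn]
  refine ⟨fun h => ⟨D.ev_mem n, (t_of D h).2.1, (t_of D h).2.2⟩, fun h => ?_⟩
  obtain ⟨m, -, hm⟩ := D.D_trans (isD_four D) h
  exact isConj_iff.2 ⟨m, hm⟩

theorem E_lifts {v : G} {a : ℕ} (c : Code D v a idB) :
    (IsConj (tEl J g vec) v ↔ inLay layB a = true) ∧ (IsConj z v ↔ v = z ∨ inLay layA a = true) := by
  obtain ⟨ha, r, rfl, hr⟩ := c
  have hrE : (r : G) ∈ E := by
    rcases Std.matR_ker D hr with e | e <;> rw [e]
    exacts [one_mem E, J.s.z_mem]
  have hE : hat z π vec a * r ∈ E := E.mul_mem (D.hat_mem ha) hrE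
  have hrel : Rel z (hat z π vec a * r) (vec a) := by
    refine J.rel_trans (b := hat z π vec a) ?_ (D.hat_rel a)
    rcases Std.matR_ker D hr with e | e <;> rw [e]
    · exact Or.inl (mul_one _)
    · exact Or.inr (J.s.z_comm (D.hat_mem ha))
  set v := hat z π vec a * (r : G)
  have hsame : ∀ {n : ℕ}, n < 4096 → Rel z v (vec n) → n = a := fun hn h =>
    (D.full.Mo.coords.rel_iff J hn ha).1 (J.rel_trans (J.rel_symm h) hrel)
  have hzero : inLay layA 0 = false ∧ inLay layB 0 = false := by decide +kernel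
  refine ⟨⟨fun h => ?_, fun h => ?_⟩, ⟨fun h => ?_, fun h => ?_⟩⟩
  · obtain ⟨h2, h1, hnz⟩ := t_of D h
    obtain ⟨n, hn, hrn, hc⟩ := D.E_cases hE h2 h1 (fun e => hnz (e ▸ IsConj.refl z))
    obtain rfl := hsame hn hrn
    exact (hc.resolve_left fun k => hnz k.2).1
  · obtain ⟨d, hd, he⟩ := D.conj_seed (by norm_num) (by norm_num) layB_ok ha h hrel
    have h2 : v * v = 1 := by
      rw [← he, show d * vec 260 * d⁻¹ * (d * vec 260 * d⁻¹) = d * (vec 260 * vec 260) * d⁻¹ by group,
        D.isV.sq _ (D.full.seeds_mem D.isV).2, mul_one, mul_inv_cancel]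
    have h1 : v ≠ 1 := fun e => (D.vec_ne (n := 260) (by norm_num) (by norm_num)).1 (conj_eq_one_iff.1 (he.trans e))
    exact (Comp.isConj_t_iff D h2 h1).2 (D.not_conj_of_layB ha h hrel)
  · obtain ⟨h2, h1⟩ := z_of J h
    by_cases hz : v = z
    · exact Or.inl hz
    obtain ⟨n, hn, hrn, hc⟩ := D.E_cases hE h2 h1 hz
    obtain rfl := hsame hn hrn
    exact Or.inr (hc.resolve_right fun k => k.2 h).1
  · rcases h with h | h
    · rw [h]
    · exact D.conj_of_layA ha h hrel

theorem inner_lift {a : ℕ} (ha : a < 4096) (hfix : ap (hRep 0) a = a) :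
    ∃ v : G, Code D v a (hRep 0) ∧ lifts (IsConj (tEl J g vec)) z v = ntIn a ∧
      lifts (IsConj z) z v = nzIn a := by
  obtain ⟨hmem, hsq, hA⟩ := cp_acts D (S := 1) (by norm_num)
  have hc0 : Code D (cp J g 1) 0 (hRep 0) := by
    have := Code.of_R (D := D) ⟨_, CZ_le_RSub hmem⟩
    rwa [Std.matR_eq D hA] at this
  have hv : Code D (hat z π vec a * cp J g 1) a (hRep 0) := by
    have := (Code.of_hat (D := D) ha).mul hc0
    rwa [ap_zero, Nat.xor_zero, hc0.one_comp] at this
  refine ⟨_, hv, ?_⟩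
  set v := hat z π vec a * cp J g 1 with hvdef
  obtain ⟨hne, hRR, hin⟩ := hRep_facts (c := 0) (by norm_num)
  have hv2 := hv.sq hRR hfix
  rw [show comp (hRep 0) gW0 = comp gW0 (hRep 0) from hin.2 rfl, beq_self_eq_true, Bool.true_and] at hv2
  have hne1 : ∀ {w : G}, Code D w a (hRep 0) → w ≠ 1 := fun cw e =>
    hne ((e ▸ cw).unique Code.one).2
  have hz2 : z * v * (z * v) = v * v := by
    rw [mul_assoc, ← mul_assoc v, hv.comm, mul_assoc z v, ← mul_assoc z z, J.zz, one_mul]
  by_cases hV : a ∈ fixV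
  · obtain ⟨he, hj⟩ := uInv_facts hV
    set j := ap uInv a
    have e1 : ev J g vec (j + 128) = v := by
      rw [D.ev_parts (by omega), show (j + 128) % 64 = j by omega, show (j + 128) / 64 % 2 = 0 by omega,
        show (j + 128) / 128 = 1 by omega, he]
      simp [zb, hvdef, Nat.beq]
    have e2 : ev J g vec (j + 192) = z * v := by
      rw [D.ev_parts (by omega), show (j + 192) % 64 = j by omega, show (j + 192) / 64 % 2 = 1 by omega,
        show (j + 192) / 128 = 1 by omega, he, hvdef, ← mul_assoc z, ← J.s.z_comm (D.hat_mem ha)]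
      simp [zb]
    have ht1 := (e1 ▸ ev_isD D (n := j + 128) (by omega) : IsConj (tEl J g vec) v ↔ _)
    have ht2 := (e2 ▸ ev_isD D (n := j + 192) (by omega) : IsConj (tEl J g vec) (z * v) ↔ _)
    have h2 : v * v = 1 := e1 ▸ D.isV.sq _ (D.ev_mem _)
    have ha0 : anNum.testBit a = false := by
      rw [h2] at hv2
      cases hb : anNum.testBit a
      · rfl
      · rw [hb] at hv2; exact absurd hv2.symm J.z_ne
    have iff1 := Comp.isConj_t_iff D h2 (hne1 hv)
    have iff2 := Comp.isConj_t_iff D (hz2.trans h2) (hne1 hv.zmul)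
    rw [ht1] at iff1
    rw [ht2] at iff2
    have hnt : ntIn a = cond (pairMask.testBit (ap toT (j + 128))) 1 0 +
        cond (pairMask.testBit (ap toT (j + 192))) 1 0 := by
      rw [ntIn, List.contains_iff_mem.2 hV, cond_true]
    rw [nzIn, ha0, cond_false, hnt]
    simp only [lifts, ht1, ht2]
    generalize pairMask.testBit (ap toT (j + 128)) = p at iff1 ⊢
    generalize pairMask.testBit (ap toT (j + 192)) = q at iff2 ⊢
    by_cases c1 : IsConj z v <;> by_cases c2 : IsConj z (z * v) <;> cases p <;> cases q <;>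
      simp_all [-isConj_iff]
  · have hnt : ntIn a = bif anNum.testBit a then 0 else 2 := by
      rw [ntIn, show fixV.contains a = false by
        rw [Bool.eq_false_iff]; exact fun h => hV (List.contains_iff_mem.1 h), cond_false]
    cases hb : anNum.testBit a
    · rw [nzIn, hb, cond_false, hnt, hb, cond_false]
      rw [hb] at hv2
      have h2 : v * v = 1 := hv2
      have hnot : ∀ w : G, w = v ∨ w = z * v → ¬ IsConj z w := by
        intro w hw hconj
        obtain ⟨c, hc, -, hcp⟩ := D.cp_proj (S := 1) (by norm_num)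
        have hzE : (z : G) ∈ Ctx.H0 z π E := Ctx.E_le_H0 z π E J.s.z_mem
        have hvH : v ∈ Ctx.H0 z π E :=
          mul_mem (Ctx.E_le_H0 z π E (D.hat_mem ha)) (Ctx.CZ_le_H0 z π E hmem)
        have hcV : cp J g 1 ∈ V := by rw [D.cp_eq_ev (by norm_num)]; exact D.ev_mem _
        have hwH : w ∈ Ctx.H0 z π E ∧ w * (c : G)⁻¹ ∈ E ∧ (w ∈ V → hat z π vec a ∈ V) := by
          rcases hw with rfl | rfl
          · refine ⟨hvH, by rw [hc, hvdef, mul_inv_cancel_right]; exact D.hat_mem ha, fun h => ?_⟩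
            have := V.mul_mem h (V.inv_mem hcV)
            rwa [hvdef, mul_inv_cancel_right] at this
          · refine ⟨mul_mem hzE hvH, by
              rw [hc, hvdef, mul_assoc, mul_inv_cancel_right]; exact E.mul_mem J.s.z_mem (D.hat_mem ha), fun h => ?_⟩
            have := V.mul_mem (V.mul_mem (V.inv_mem D.isV.z_mem) h) (V.inv_mem hcV)
            rwa [hvdef, inv_mul_cancel_left, mul_inv_cancel_right] at this
        obtain ⟨hH, hcE, hback⟩ := hwH
        have hwV := D.inner_mem hH (z_of J hconj).1 hconj hcE (hcp ▸ D.hexS_mem)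
          (hcp ▸ D.hexS_ne (by norm_num) (by norm_num))
        have hvec : vec a ∈ V := by
          rcases J.rel_symm (D.hat_rel a) with e | e <;> rw [e]
          · exact hback hwV
          · exact V.mul_mem D.isV.z_mem (hback hwV)
        exact hV (List.mem_filter.2 ⟨List.mem_range.2 ha, (D.full.vec_mem_V D.isV ha).1 hvec⟩)
      exact ⟨lifts_both ((Comp.isConj_t_iff D h2 (hne1 hv)).2 (hnot v (Or.inl rfl)))
        ((Comp.isConj_t_iff D (hz2.trans h2) (hne1 hv.zmul)).2 (hnot _ (Or.inr rfl))),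
        lifts_none (hnot v (Or.inl rfl)) (hnot _ (Or.inr rfl))⟩
    · rw [hb] at hv2
      have hne2 : v * v ≠ 1 := fun e => J.z_ne (hv2.symm.trans e)
      rw [nzIn, hb, cond_true, hnt, hb, cond_true]
      exact ⟨lifts_none (fun h => hne2 (t_of D h).1) (fun h => hne2 (hz2 ▸ (t_of D h).1)),
        lifts_none (fun h => hne2 (z_of J h).1) (fun h => hne2 (hz2 ▸ (z_of J h).1))⟩

theorem outer_code {b : ℕ} (hb : b < 4096) {r : G} {R : List ℕ} (c : Code D r 0 R) :
    Code D (hat z π vec b * r * (hat z π vec b)⁻¹) (b ^^^ ap R b) R := by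
  have := (Code.of_hat (D := D) hb).conj c (Wi := idB) (by decide +kernel) (by decide +kernel)
  rwa [cj, c.one_comp, c.comp_one, ap_zero, Nat.xor_zero] at this

theorem outer_lift (hK : Comp D K) {c : ℕ} (hc0 : c ≠ 0) (hc : c < 3) {a : ℕ}
    (ha : a ∈ fixL 12 (hRep c)) :
    ∃ v : G, Code D v a (hRep c) ∧ lifts (IsConj (tEl J g vec)) z v = ntH c a ∧
      lifts (IsConj z) z v = nzH c a := by
  obtain ⟨i, hi, rfl⟩ := List.getElem_of_mem ha
  have hk : ∀ k < 2, k + 1 = c → ∃ b < 4096, b ^^^ ap (hRep c) b = (fixL 12 (hRep c))[i] := by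
    intro k hk hkc
    have h := List.all_eq_true.1 hOutB_ok k (List.mem_range.2 hk)
    simp only [Bool.and_eq_true, List.all_eq_true, List.mem_range, Nat.blt_eq, Nat.beq_eq, hkc] at h
    obtain ⟨h1, h2⟩ := h.2 i hi
    rw [List.getD_eq_getElem _ _ hi, List.getD_eq_getElem _ _ (h.1.symm ▸ hi)] at h2
    rw [List.getD_eq_getElem _ _ (h.1.symm ▸ hi)] at h1
    exact ⟨_, h1, h2⟩
  obtain ⟨b, hb, hba⟩ := hk (c - 1) (by omega) (by omega)
  rw [← hba]
  obtain ⟨τ, hτ2, hτz, hτp, hτV, hτB, -⟩ := outB_member D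
  obtain ⟨ht, h384, h448⟩ := hK.tau_types hτ2 hτV hτB hτz hτp
  have hτc : Code D τ 0 outB := by
    have := Code.of_R (D := D) ⟨τ, hτz, Or.inr hτp⟩
    rwa [Std.matR_eq D hτB] at this
  set h := hat z π vec b
  have hzh : z * h = h * z := (J.s.z_comm (D.hat_mem hb)).symm
  have hzr : ∀ r : G, z * (h * r * h⁻¹) = h * (z * r) * h⁻¹ := fun r => by
    rw [show z * (h * r * h⁻¹) = z * h * r * h⁻¹ by group, hzh]; group
  rcases (show c = 1 ∨ c = 2 by omega) with rfl | rfl
  · refine ⟨h * τ * h⁻¹, outer_code hb hτc, ?_⟩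
    have hR : hRep 1 ≠ idB := (hRep_facts (by norm_num)).1
    have h1 : τ ≠ 1 := fun e => hR ((e ▸ hτc).unique Code.one).2
    have h2 : z * τ ≠ 1 := fun e => hR ((e ▸ hτc.zmul).unique Code.one).2
    have hz2 : z * τ * (z * τ) = 1 := by
      rw [show z * τ * (z * τ) = z * (τ * z) * τ by group, hτz, ← mul_assoc, J.zz, one_mul, hτ2]
    refine ⟨lifts_one ?_, lifts_one ?_⟩
    · rw [hzr, isConj_conj_iff, isConj_conj_iff, Comp.isConj_t_iff D hτ2 h1, Comp.isConj_t_iff D hz2 h2, ht]
    · rw [hzr, isConj_conj_iff, isConj_conj_iff]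
      exact ht
  · obtain ⟨hmem, hsq, hA⟩ := cp_acts D (S := 3) (by norm_num)
    have hr : Code D (τ * cp J g 3) 0 (hRep 2) := by
      have h3 := Code.of_R (D := D) ⟨_, CZ_le_RSub hmem⟩
      rw [Std.matR_eq D hA] at h3
      have := hτc.mul h3
      rwa [ap_zero, Nat.xor_zero] at this
    refine ⟨h * (τ * cp J g 3) * h⁻¹, outer_code hb hr, ?_⟩
    have hR : hRep 2 ≠ idB := (hRep_facts (by norm_num)).1
    rw [show (384 : ℕ) = 128 * 3 from rfl, ← D.cp_eq_ev (by norm_num)] at h384
    have e : τ * ev J g vec 448 = z * (τ * cp J g 3) := by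
      rw [show (448 : ℕ) = 128 * 3 + cond true 64 0 from rfl, ← D.zb_cp (by norm_num), ← mul_assoc]
      show τ * z * _ = _
      rw [hτz, mul_assoc]
    rw [e] at h448
    have hs := hr.sq (hRep_facts (c := 2) (by norm_num)).2.1 (ap_zero _)
    rw [show anNum.testBit 0 = false by decide +kernel, Bool.and_false] at hs
    have hs' : z * (τ * cp J g 3) * (z * (τ * cp J g 3)) = 1 := by
      have := hr.zmul.sq (hRep_facts (c := 2) (by norm_num)).2.1 (ap_zero _)
      rwa [show anNum.testBit 0 = false by decide +kernel, Bool.and_false] at this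
    have n1 : τ * cp J g 3 ≠ 1 := fun e => hR ((e ▸ hr).unique Code.one).2
    have n2 : z * (τ * cp J g 3) ≠ 1 := fun e => hR ((e ▸ hr.zmul).unique Code.one).2
    refine ⟨lifts_both ?_ ?_, lifts_none ?_ ?_⟩
    · rw [isConj_conj_iff]; exact (Comp.isConj_t_iff D hs n1).2 h384
    · rw [hzr, isConj_conj_iff]; exact (Comp.isConj_t_iff D hs' n2).2 h448
    · rw [isConj_conj_iff]; exact h384
    · rw [hzr, isConj_conj_iff]; exact h448

/-- The numbers of members of the two classes over the translations of a representative. -/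
theorem rep_lifts (hK : Comp D K) {c : ℕ} (hc : c < 3) {a : ℕ} (ha : a ∈ fixL 12 (hRep c)) :
    ∃ v : G, Code D v a (hRep c) ∧ lifts (IsConj (tEl J g vec)) z v = ntH c a ∧
      lifts (IsConj z) z v = nzH c a := by
  by_cases h0 : c = 0
  · subst h0
    rw [fixL, List.mem_filter, Nat.beq_eq, List.mem_range] at ha
    obtain ⟨v, h1, h2, h3⟩ := inner_lift (D := D) ha.1 ha.2
    exact ⟨v, h1, by rw [h2]; rfl, by rw [h3]; rfl⟩
  · exact outer_lift hK h0 hc ha

end CfsgLib.JFourOrder
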