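import Cfsg.Agent.Lib.JFourOrder.HBase

/-!
# The group of column lists of the centralizer modulo its radical
-/

set_option autoImplicit false
set_option maxRecDepth 100000
set_option linter.style.haveILetI false
set_option linter.unusedSectionVars false

open Cfsg

namespace CfsgLib.JFourOrder

open CfsgLib.JFour

variable {G : Type*} [Group G] [Finite G] {M : Type*} [Group M] [Finite M] {z π : G} {E : Subgroup G}
variable {J : Ctx M z π E} {g : ℕ → M} {vec : ℕ → G} {V : Subgroup G} (D : J.Std g vec V)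

/-- The permutation of the twelve coordinates. -/
noncomputable def permR : ↥(RSub z π) →* Equiv.Perm (Fin 4096) where
  toFun r :=
    { toFun := fun n => ⟨ap (Std.matR D r) n.1, okB_lt (Std.matR_spec D r).1 _⟩
      invFun := fun n => ⟨ap (Std.matR D r⁻¹) n.1, okB_lt (Std.matR_spec D r⁻¹).1 _⟩
      left_inv := fun n => Fin.ext (by
        show ap (Std.matR D r⁻¹) (ap (Std.matR D r) n.1) = n.1
        rw [← ap_comp, ← Std.matR_mul, inv_mul_cancel, Std.matR_one, ap_idB n.2])
      right_inv := fun n => Fin.ext (by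
        show ap (Std.matR D r) (ap (Std.matR D r⁻¹) n.1) = n.1
        rw [← ap_comp, ← Std.matR_mul, mul_inv_cancel, Std.matR_one, ap_idB n.2]) }
  map_one' := Equiv.ext fun n => Fin.ext (by
    show ap (Std.matR D 1) n.1 = n.1
    rw [Std.matR_one, ap_idB n.2])
  map_mul' r s := Equiv.ext fun n => Fin.ext (by
    show ap (Std.matR D (r * s)) n.1 = ap (Std.matR D r) (ap (Std.matR D s) n.1)
    rw [Std.matR_mul, ap_comp])

theorem permR_eq_iff {r s : ↥(RSub z π)} : permR D r = permR D s ↔ Std.matR D r = Std.matR D s := by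
  refine ⟨fun h => cols_ext (Std.matR_len D r) (Std.matR_len D s) fun i hi => ?_, fun h => ?_⟩
  · have := congrArg (fun σ : Equiv.Perm (Fin 4096) => (σ ⟨2 ^ i, Nat.pow_lt_pow_right (n := 12) (by norm_num) hi⟩).1) h
    exact this
  · exact Equiv.ext fun n => Fin.ext (by
      show ap (Std.matR D r) n.1 = ap (Std.matR D s) n.1
      rw [h])

/-- A preimage. -/
noncomputable def preR (x : ↥(permR D).range) : ↥(RSub z π) := x.2.choose

theorem preR_spec (x : ↥(permR D).range) : permR D (preR D x) = (x : Equiv.Perm (Fin 4096)) := x.2.choose_spec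

theorem matR_preR {x : ↥(permR D).range} {r : ↥(RSub z π)} (h : permR D r = (x : Equiv.Perm (Fin 4096))) :
    Std.matR D (preR D x) = Std.matR D r :=
  (permR_eq_iff D).1 ((preR_spec D x).trans h.symm)

/-- The representation by columns. -/
noncomputable def repX : Rep ↥(permR D).range 12 where
  ρ x := Std.matR D (preR D x)
  one := by rw [idn_twelve, matR_preR D (r := 1) (by simp), Std.matR_one]
  mul x y := by
    rw [matR_preR D (r := preR D x * preR D y) (by rw [map_mul, preR_spec, preR_spec]; rfl), Std.matR_mul]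
  inj x y h := Subtype.ext (by rw [← preR_spec D x, ← preR_spec D y]; exact (permR_eq_iff D).2 h)

/-- The image of an element. -/
noncomputable def imX (r : ↥(RSub z π)) : ↥(permR D).range := ⟨permR D r, r, rfl⟩

theorem imX_mul (r s : ↥(RSub z π)) : imX D (r * s) = imX D r * imX D s := Subtype.ext (map_mul (permR D) r s)

theorem repX_im (r : ↥(RSub z π)) : (repX D).ρ (imX D r) = Std.matR D r := matR_preR D rfl

include D in
theorem card_RSub : Nat.card ↥(RSub z π) = 2 * Nat.card ↥(CZ z π) := by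
  obtain ⟨σ, hσz, hσ⟩ := J.swap
  have hσR : σ ∈ RSub z π := ⟨hσz, Or.inr hσ⟩
  have hflip : ∀ {c : G}, c ∈ CZ z π → σ * c * π * (σ * c)⁻¹ = π⁻¹ := fun {c} hc => by
    rw [show σ * c * π * (σ * c)⁻¹ = σ * (c * π * c⁻¹) * σ⁻¹ by group, (mem_CZ.1 hc).2, mul_inv_cancel_right, hσ]
  rw [show 2 = Nat.card Bool by rw [Nat.card_eq_fintype_card, Fintype.card_bool], ← Nat.card_prod]
  refine (Nat.card_eq_of_bijective (fun p : Bool × ↥(CZ z π) =>
    (⟨cond p.1 (σ * p.2) p.2, by
      cases p.1
      · exact CZ_le_RSub p.2.2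
      · exact (RSub z π).mul_mem hσR (CZ_le_RSub p.2.2)⟩ : ↥(RSub z π))) ⟨fun p q e => ?_, fun r => ?_⟩).symm
  · have e' : cond p.1 (σ * (p.2 : G)) p.2 = cond q.1 (σ * (q.2 : G)) q.2 := congrArg Subtype.val e
    obtain ⟨b, c⟩ := p
    obtain ⟨b', c'⟩ := q
    cases b <;> cases b' <;> simp only [cond_true, cond_false] at e'
    · rw [Subtype.ext e']
    · exfalso
      have h := hflip c'.2
      rw [← e', (mem_CZ.1 c.2).2, mul_inv_cancel_right] at h
      exact J.pi_inv_ne h.symm
    · exfalso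
      have h := hflip c.2
      rw [e', (mem_CZ.1 c'.2).2, mul_inv_cancel_right] at h
      exact J.pi_inv_ne h.symm
    · rw [Subtype.ext (mul_left_cancel e')]
  · rcases r.2.2 with h | h
    · exact ⟨(false, ⟨r, mem_CZ.2 ⟨RSub_comm r.2, mul_inv_eq_iff_eq_mul.1 h⟩⟩), rfl⟩
    · have hc : σ⁻¹ * (r : G) ∈ CZ z π := by
        refine mem_CZ.2 ⟨((show Commute σ z from hσz).inv_left.mul_left (show Commute (r : G) z from RSub_comm r.2)).eq, ?_⟩
        calc σ⁻¹ * (r : G) * π = σ⁻¹ * ((r : G) * π * (r : G)⁻¹) * r := by group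
          _ = σ⁻¹ * (σ * π * σ⁻¹) * r := by rw [h, hσ]
          _ = _ := by group
      exact ⟨(true, ⟨_, hc⟩), Subtype.ext (mul_inv_cancel_left σ r)⟩

theorem card_range : Nat.card ↥(permR D).range = 2661120 := by
  have h := (permR D).ker.card_mul_index
  rw [Subgroup.index_ker, card_RSub D, J.card_CZ D.small.card] at h
  have hk : Nat.card ↥(permR D).ker = 2 := by
    have hz : (⟨z, z_mem_RSub J⟩ : ↥(RSub z π)) ∈ (permR D).ker := by
      rw [MonoidHom.mem_ker, ← map_one (permR D), permR_eq_iff, Std.matR_z, Std.matR_one]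
    rw [show 2 = Nat.card Bool by rw [Nat.card_eq_fintype_card, Fintype.card_bool]]
    refine (Nat.card_eq_of_bijective (fun b : Bool => cond b (⟨_, hz⟩ : ↥(permR D).ker) 1) ⟨fun a b e => ?_, fun k => ?_⟩).symm
    · have := congrArg (fun k : ↥(permR D).ker => ((k : ↥(RSub z π)) : G)) e
      cases a <;> cases b <;> simp at this ⊢
      · exact J.z_ne this.symm
      · exact J.z_ne this
    · have hk := k.2
      rw [MonoidHom.mem_ker, ← map_one (permR D), permR_eq_iff, Std.matR_one] at hk
      rcases Std.matR_ker D hk with e | e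
      · exact ⟨false, Subtype.ext (Subtype.ext e.symm)⟩
      · exact ⟨true, Subtype.ext (Subtype.ext e.symm)⟩
  rw [hk] at h
  omega

include D in
theorem card_cent_z : Nat.card ↥(Subgroup.centralizer ({z} : Set G)) = 2 ^ 13 * 2661120 := by
  rw [show 2 ^ 13 * 2661120 = Nat.card (Fin 4096) * Nat.card ↥(RSub z π) by
    rw [Nat.card_fin, card_RSub D, J.card_CZ D.small.card]; norm_num, ← Nat.card_prod]
  refine (Nat.card_eq_of_bijective (fun p : Fin 4096 × ↥(RSub z π) =>
    (⟨hat z π vec p.1.1 * p.2, Subgroup.mem_centralizer_singleton_iff.2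
      (Code.comm (D := D) ⟨p.1.2, p.2, rfl, rfl⟩)⟩ : ↥(Subgroup.centralizer ({z} : Set G))))
    ⟨fun p q e => ?_, fun y => ?_⟩).symm
  · obtain ⟨h1, h2⟩ := Std.split_z_unique D p.1.2 q.1.2 (congrArg Subtype.val e)
    exact Prod.ext (Fin.ext h1) h2
  · obtain ⟨a, ha, r, e⟩ := Std.split_z D (Subgroup.mem_centralizer_singleton_iff.1 y.2)
    exact ⟨(⟨a, ha⟩, r), Subtype.ext e.symm⟩

end CfsgLib.JFourOrder
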