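import Cfsg.Agent.Lib.JFour.SecondCent
import Cfsg.Agent.Lib.JFourOrder.Mat

/-!
# Codes in the normalizer of the elementary subgroup

With a complement `K`, an element of the normalizer is a member of `V` times a member of `K`, the latter given
by its columns on `V`.
-/

set_option autoImplicit false
set_option maxRecDepth 100000
set_option linter.style.haveILetI false
set_option linter.unusedSectionVars false

open Cfsg

namespace CfsgLib.JFourOrder

open CfsgLib.JFour
open scoped Pointwise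

theorem idn_eleven : idn 11 = id11 := by decide +kernel

theorem idn_twelve : idn 12 = idB := by decide +kernel

/-- Lists of one length with the same values on the unit vectors agree. -/
theorem cols_ext {d : ℕ} {A B : List ℕ} (hA : A.length = d) (hB : B.length = d)
    (h : ∀ i < d, ap A (2 ^ i) = ap B (2 ^ i)) : A = B := by
  refine List.ext_getElem (by rw [hA, hB]) fun i hi hi' => ?_
  have := h i (hA ▸ hi)
  rwa [ap_pow, ap_pow, List.getD_eq_getElem _ _ hi, List.getD_eq_getElem _ _ hi'] at this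

theorem okL_len {L : List ℕ} (h : okL L = true) : L.length = 11 := by
  simp only [okL, Bool.and_eq_true, beq_iff_eq] at h; exact h.1

/-- A function commuting with the exclusive or is given by its columns. -/
theorem ap_cols {d : ℕ} {f : ℕ → ℕ} (hf : ∀ m n, m < 2 ^ d → n < 2 ^ d → f (m ^^^ n) = f m ^^^ f n)
    {n : ℕ} (hn : n < 2 ^ d) : ap ((List.range d).map fun i => f (2 ^ i)) n = f n := by
  have h0 : f 0 = 0 := by
    have := hf 0 0 (by positivity) (by positivity)
    simp only [Nat.xor_self] at this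
    exact this
  suffices H : ∀ k ≤ d, ∀ n < 2 ^ k, ap ((List.range d).map fun i => f (2 ^ i)) n = f n from H d le_rfl n hn
  intro k
  induction k with
  | zero => intro _ n hn; rw [pow_zero, Nat.lt_one_iff] at hn; rw [hn, h0, ap_zero]
  | succ k ih =>
    intro hk n hn
    by_cases hlt : n < 2 ^ k
    · exact ih (by omega) n hlt
    · have hd : 2 ^ k < 2 ^ d := Nat.pow_lt_pow_right (by norm_num) (by omega)
      have hpk : 2 ^ (k + 1) = 2 * 2 ^ k := by rw [pow_succ]; ring
      have hlow : n ^^^ 2 ^ k < 2 ^ k := by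
        apply Nat.lt_pow_two_of_testBit
        intro i hi
        rw [Nat.testBit_xor, Nat.testBit_two_pow]
        rcases eq_or_lt_of_le hi with rfl | hlt'
        · have : n.testBit k = true := by
            rw [Nat.testBit, Nat.shiftRight_eq_div_pow]
            have h1 : n / 2 ^ k = 1 := Nat.div_eq_of_lt_le (by omega) (by omega)
            simp [h1]
          simp [this]
        · have : n.testBit i = false := Nat.testBit_lt_two_pow (lt_of_lt_of_le hn
            (Nat.pow_le_pow_right (by norm_num) hlt'))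
          simp [this, Nat.ne_of_lt hlt']
      have e : n = (n ^^^ 2 ^ k) ^^^ 2 ^ k := by rw [Nat.xor_assoc, Nat.xor_self, Nat.xor_zero]
      rw [e, ap_xor, ih (by omega) _ hlow, hf _ _ (hlow.trans hd) hd, ap_pow,
        List.getD_eq_getElem _ _ (by simp; omega)]
      simp

theorem trn_xor (g : List ℕ) : ∀ (k a b : ℕ), trn g (a ^^^ b) k = trn g a k ^^^ trn g b k
  | 0, _, _ => by simp [trn]
  | k + 1, a, b => by
    simp only [trn, trn_xor g k a b, ap_xor]
    show (a ^^^ b) ^^^ (_ ^^^ _) = (a ^^^ _) ^^^ (b ^^^ _)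
    ac_rfl

theorem trnM_eq {d : ℕ} {g : List ℕ} (k : ℕ) {s : ℕ} (hs : s < 2 ^ d) : ap (trnM d g k) s = trn g s k :=
  ap_cols (f := fun s => trn g s k) (fun m n _ _ => trn_xor g k m n) hs

theorem ordLoop_spec {d : ℕ} {g : List ℕ} : ∀ (f k : ℕ), 0 < k → (∀ j, 0 < j → j < k → pw d g j ≠ idn d) →
    ∀ n, ordLoop (idn d) g f (pw d g k) k = n → n ≠ 0 →
      pw d g n = idn d ∧ ∀ j, 0 < j → j < n → pw d g j ≠ idn d
  | 0, _, _, _, n, h, hn => absurd h.symm hn
  | f + 1, k, hk, hlt, n, h, hn => by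
    rw [ordLoop] at h
    cases hb : (pw d g k == idn d)
    · rw [hb, cond_false] at h
      refine ordLoop_spec f (k + 1) (by omega) (fun j hj hjk => ?_) n h hn
      rcases Nat.lt_succ_iff_lt_or_eq.1 hjk with e | e
      · exact hlt j hj e
      · rw [e]; exact beq_eq_false_iff_ne.1 hb
    · rw [hb, cond_true] at h
      subst h
      exact ⟨beq_iff_eq.1 hb, hlt⟩

/-- The exponent found is the order. -/
theorem ordM_spec {d : ℕ} {g : List ℕ} (hg : comp g (idn d) = g) {n : ℕ} (h : ordM d g = n) (hn : n ≠ 0) :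
    pw d g n = idn d ∧ ∀ j, 0 < j → j < n → pw d g j ≠ idn d := by
  refine ordLoop_spec 100 1 one_pos (fun j hj hj' => by omega) n ?_ hn
  rw [pw, pw, hg]
  exact h

variable {G : Type*} [Group G] [Finite G] {M : Type*} [Group M] [Finite M] {z π : G} {E : Subgroup G}
variable {J : Ctx M z π E} {g : ℕ → M} {vec : ℕ → G} {V : Subgroup G}

theorem vacts_len {m : G} {L : List ℕ} (h : VActs J g vec m L) : L.length = 11 := okL_len h.1

/-- A complement in the normalizer with the second involution `ev 4`. -/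
structure Comp (D : J.Std g vec V) (K : Subgroup G) : Prop where
  le : K ≤ Subgroup.normalizer (V : Set G)
  inf : K ⊓ V = ⊥
  sup : K ⊔ V = Subgroup.normalizer (V : Set G)

/-- The second involution. -/
noncomputable def tEl (J : Ctx M z π E) (g : ℕ → M) (vec : ℕ → G) : G := ev J g vec 4

namespace Comp

variable {D : J.Std g vec V} {K : Subgroup G} (hK : Comp D K)
include hK

theorem exists_vacts {m : G} (hm : m ∈ Subgroup.normalizer (V : Set G)) : ∃ L, VActs J g vec m L := by
  classical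
  have h : ∀ n, ∃ k, k < 2048 ∧ ev J g vec k = m * ev J g vec n * m⁻¹ :=
    fun n => D.ev_surj (D.conj_mem hm (D.ev_mem n))
  choose f hf1 hf2 using h
  have hlin : ∀ a b, a < 2 ^ 11 → b < 2 ^ 11 → f (a ^^^ b) = f a ^^^ f b := fun a b _ _ => by
    refine D.ev_inj (hf1 _) (Nat.xor_lt_two_pow (n := 11) (hf1 a) (hf1 b)) ?_
    rw [hf2, D.ev_xor, D.ev_xor, hf2, hf2]; group
  refine ⟨(List.range 11).map fun i => f (2 ^ i), ?_, fun n hn => ?_⟩
  · simp only [okL, List.length_map, List.length_range, beq_self_eq_true, Bool.true_and, List.all_eq_true,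
      List.mem_map, List.mem_range, Nat.blt_eq]
    rintro _ ⟨i, -, rfl⟩
    exact hf1 _
  · rw [ap_cols hlin hn, hf2]

omit hK in
theorem vacts_eq {m : G} {L L' : List ℕ} (h : VActs J g vec m L) (h' : VActs J g vec m L') (D : J.Std g vec V) :
    L = L' :=
  cols_ext (vacts_len h) (vacts_len h') fun i hi =>
    D.vacts_inj h h' (Nat.pow_lt_pow_right (n := 11) (by norm_num) hi)

/-- The columns of a member of the complement. -/
noncomputable def mat (k : ↥K) : List ℕ := (hK.exists_vacts (hK.le k.2)).choose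

theorem mat_spec (k : ↥K) : VActs J g vec (k : G) (hK.mat k) := (hK.exists_vacts (hK.le k.2)).choose_spec

theorem mat_eq {k : ↥K} {L : List ℕ} (h : VActs J g vec (k : G) L) : hK.mat k = L :=
  Comp.vacts_eq (hK.mat_spec k) h D

/-- The representation of the complement. -/
noncomputable def rep : Rep ↥K 11 where
  ρ := hK.mat
  one := hK.mat_eq (idn_eleven ▸ D.vacts_one)
  mul x y := hK.mat_eq (D.vacts_mul (hK.mat_spec x) (hK.mat_spec y))
  inj x y h := by
    have hV := D.vacts_unique (hK.mat_spec x) (h ▸ hK.mat_spec y)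
    have : (x : G)⁻¹ * y ∈ K ⊓ V := ⟨K.mul_mem (K.inv_mem x.2) y.2, hV⟩
    rw [hK.inf, Subgroup.mem_bot, inv_mul_eq_one] at this
    exact Subtype.ext this

theorem split {m : G} (hm : m ∈ Subgroup.normalizer (V : Set G)) :
    ∃ a < 2048, ∃ k : ↥K, m = ev J g vec a * k := by
  rw [← hK.sup, sup_comm, ← SetLike.mem_coe, Subgroup.coe_mul_of_right_le_normalizer_left V K hK.le] at hm
  obtain ⟨v, hv, k, hk, e⟩ := hm
  obtain ⟨a, ha, rfl⟩ := D.ev_surj hv
  exact ⟨a, ha, ⟨k, hk⟩, e.symm⟩

theorem split_unique {a b : ℕ} (ha : a < 2048) (hb : b < 2048) {k l : ↥K}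
    (h : ev J g vec a * k = ev J g vec b * l) : a = b ∧ k = l := by
  have e : (ev J g vec b)⁻¹ * ev J g vec a = (l : G) * (k : G)⁻¹ := by
    calc (ev J g vec b)⁻¹ * ev J g vec a = (ev J g vec b)⁻¹ * (ev J g vec a * k) * (k : G)⁻¹ := by group
      _ = _ := by rw [h]; group
  have hm : (l : G) * (k : G)⁻¹ ∈ K ⊓ V :=
    ⟨K.mul_mem l.2 (K.inv_mem k.2), e ▸ V.mul_mem (V.inv_mem (D.ev_mem b)) (D.ev_mem a)⟩
  rw [hK.inf, Subgroup.mem_bot] at hm
  rw [hm, inv_mul_eq_one] at e
  exact ⟨D.ev_inj ha hb e.symm, Subtype.ext (mul_inv_eq_one.1 hm).symm⟩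

theorem push (k : ↥K) {b : ℕ} (hb : b < 2048) :
    (k : G) * ev J g vec b = ev J g vec (ap (hK.mat k) b) * k := by
  rw [← (hK.mat_spec k).2 b hb]; group

theorem code_mul {a b : ℕ} (hb : b < 2048) (k l : ↥K) :
    ev J g vec a * k * (ev J g vec b * l) = ev J g vec (a ^^^ ap (hK.mat k) b) * ((k * l : ↥K) : G) := by
  rw [mul_assoc, ← mul_assoc (k : G), hK.push k hb, D.ev_xor, Subgroup.coe_mul]; group

theorem code_pow {a : ℕ} (ha : a < 2048) (k : ↥K) : ∀ n : ℕ,
    (ev J g vec a * k) ^ n = ev J g vec (trn (hK.mat k) a n) * ((k ^ n : ↥K) : G) ∧ trn (hK.mat k) a n < 2048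
  | 0 => by simp [trn, D.ev_zero]
  | n + 1 => by
    obtain ⟨h1, h2⟩ := code_pow ha k n
    refine ⟨?_, Nat.xor_lt_two_pow (n := 11) ha (okL_lt (hK.mat_spec k).1 _)⟩
    rw [pow_succ', h1, hK.code_mul h2, pow_succ' k n]
    rfl

/-- The part of the complement fixing the second involution. -/
def Kt (J : Ctx M z π E) (g : ℕ → M) (vec : ℕ → G) (K : Subgroup G) : Subgroup ↥K :=
  (Subgroup.centralizer ({tEl J g vec} : Set G)).subgroupOf K

theorem mem_Kt {k : ↥K} : k ∈ Kt J g vec K ↔ ap (hK.mat k) 4 = 4 := by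
  rw [Kt, Subgroup.mem_subgroupOf, Subgroup.mem_centralizer_singleton_iff]
  have h := (hK.mat_spec k).2 4 (by norm_num)
  rw [tEl]
  constructor
  · intro e
    rw [e, mul_inv_cancel_right] at h
    exact (D.ev_inj (by norm_num) (okL_lt (hK.mat_spec k).1 4) h).symm
  · intro e
    rw [e] at h
    exact mul_inv_eq_iff_eq_mul.1 h

/-- The representation of that part. -/
noncomputable def repT : Rep ↥(Kt J g vec K) 11 where
  ρ k := hK.mat k
  one := hK.rep.one
  mul x y := hK.rep.mul x y
  inj x y h := Subtype.ext (hK.rep.inj h)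

end Comp

theorem isD_four (D : J.Std g vec V) : IsD z V (tEl J g vec) :=
  (D.isD_pairs (by norm_num)).2 (by decide +kernel)

namespace Comp

variable {D : J.Std g vec V} {K : Subgroup G} (hK : Comp D K)
include hK

theorem cent_split {u : G} (hu : u * tEl J g vec = tEl J g vec * u) :
    ∃ a < 2048, ∃ k ∈ Kt J g vec K, u = ev J g vec a * (k : ↥K) := by
  obtain ⟨a, ha, k, e⟩ := hK.split (D.cent_le_normalizer (isD_four D) hu)
  refine ⟨a, ha, k, Subgroup.mem_subgroupOf.2 (Subgroup.mem_centralizer_singleton_iff.2 ?_), e⟩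
  have hk : (k : G) = (ev J g vec a)⁻¹ * u := by rw [e]; group
  rw [hk]
  have hc : Commute (ev J g vec a) (tEl J g vec) := D.isV.comm _ (D.ev_mem a) _ (D.ev_mem 4)
  exact (hc.inv_left.mul_left (show Commute u (tEl J g vec) from hu)).eq

theorem code_comm {a : ℕ} {k : ↥K} (hk : k ∈ Kt J g vec K) :
    ev J g vec a * k * tEl J g vec = tEl J g vec * (ev J g vec a * k) := by
  have h1 : Commute (ev J g vec a) (tEl J g vec) := D.isV.comm _ (D.ev_mem a) _ (D.ev_mem 4)
  exact (h1.mul_left (show Commute (k : G) (tEl J g vec) from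
    Subgroup.mem_centralizer_singleton_iff.1 (Subgroup.mem_subgroupOf.1 hk))).eq

theorem card_Kt : Nat.card ↥(Kt J g vec K) = 887040 := by
  have h := D.card_cent (isD_four D)
  have hV := D.isV.card
  rw [show Nat.card ↥(Subgroup.centralizer ({tEl J g vec} : Set G)) = Nat.card ↥V * Nat.card ↥(Kt J g vec K) from ?_,
    hV] at h
  · omega
  · rw [← Nat.card_prod]
    refine (Nat.card_eq_of_bijective (fun p : ↥V × ↥(Kt J g vec K) =>
      (⟨(p.1 : G) * ((p.2 : ↥K) : G), ?_⟩ : ↥(Subgroup.centralizer ({tEl J g vec} : Set G)))) ⟨fun p q e => ?_, fun y => ?_⟩).symm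
    · obtain ⟨a, -, ha⟩ := D.ev_surj p.1.2
      rw [← ha]
      exact Subgroup.mem_centralizer_singleton_iff.2 (hK.code_comm p.2.2)
    · obtain ⟨a, ha, ha'⟩ := D.ev_surj p.1.2
      obtain ⟨b, hb, hb'⟩ := D.ev_surj q.1.2
      have e' : (p.1 : G) * ((p.2 : ↥K) : G) = (q.1 : G) * ((q.2 : ↥K) : G) := congrArg Subtype.val e
      rw [← ha', ← hb'] at e'
      obtain ⟨rfl, hkl⟩ := hK.split_unique ha hb e'
      exact Prod.ext (Subtype.ext (ha'.symm.trans hb')) (Subtype.ext hkl)
    · obtain ⟨a, ha, k, hk, e⟩ := hK.cent_split (Subgroup.mem_centralizer_singleton_iff.1 y.2)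
      exact ⟨(⟨_, D.ev_mem a⟩, ⟨k, hk⟩), Subtype.ext e.symm⟩

/-- When the second involution is a power of a product of codes. -/
theorem cond_iff {a b : ℕ} (ha : a < 2048) (hb : b < 2048) {k l : ↥K} {n : ℕ}
    (hn : ordM 11 (comp (hK.mat k) (hK.mat l)) = n) (hn0 : n ≠ 0) :
    tEl J g vec ∈ Subgroup.zpowers (ev J g vec a * k * (ev J g vec b * l)) ↔
      ap (trnM 11 (comp (hK.mat k) (hK.mat l)) n) (a ^^^ ap (hK.mat k) b) = 4 := by
  have hs : a ^^^ ap (hK.mat k) b < 2048 := Nat.xor_lt_two_pow (n := 11) ha (okL_lt (hK.mat_spec k).1 b)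
  rw [hK.code_mul hb k l, show comp (hK.mat k) (hK.mat l) = hK.mat (k * l) from (hK.rep.mul k l).symm,
    trnM_eq (d := 11) n hs]
  rw [show comp (hK.mat k) (hK.mat l) = hK.mat (k * l) from (hK.rep.mul k l).symm] at hn
  set m := k * l with hm
  set s := a ^^^ ap (hK.mat k) b
  obtain ⟨hid, hmin⟩ := ordM_spec (hK.rep.comp_id m) hn hn0
  have hmn : m ^ n = 1 := hK.rep.inj (by rw [hK.rep.pow_eq rfl, hK.rep.one]; exact hid)
  obtain ⟨hpow, hlt⟩ := hK.code_pow hs m n
  rw [hmn, OneMemClass.coe_one, mul_one] at hpow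
  constructor
  · intro h
    obtain ⟨j, hj⟩ := (isOfFinOrder_of_finite _).mem_powers_iff_mem_zpowers.2 h
    obtain ⟨hpj, hltj⟩ := hK.code_pow hs m j
    have e : ev J g vec (trn (hK.mat m) s j) * ((m ^ j : ↥K) : G) = ev J g vec 4 * ((1 : ↥K) : G) := by
      rw [OneMemClass.coe_one, mul_one, ← hpj]; exact hj
    have hmj := (hK.split_unique hltj (by norm_num) e).2
    have hdvd : j % n = 0 := by
      by_contra hne
      refine hmin (j % n) (Nat.pos_of_ne_zero hne) (Nat.mod_lt _ (Nat.pos_of_ne_zero hn0)) ?_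
      rw [← hK.rep.pow_eq (rfl : hK.rep.ρ m = hK.mat m), ← hK.rep.one]
      refine congrArg hK.rep.ρ ?_
      calc m ^ (j % n) = (m ^ n) ^ (j / n) * m ^ (j % n) := by rw [hmn, one_pow, one_mul]
        _ = 1 := by rw [← pow_mul, ← pow_add, Nat.div_add_mod, hmj]
    have hj' : ev J g vec (trn (hK.mat m) s n) ^ (j / n) = ev J g vec 4 := by
      rw [← hpow, ← pow_mul]
      rw [show n * (j / n) = j by have := Nat.div_add_mod j n; omega]
      exact hj
    refine D.ev_inj hlt (by norm_num) ?_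
    have hsq := D.isV.sq _ (D.ev_mem (trn (hK.mat m) s n))
    rcases Nat.even_or_odd (j / n) with ⟨i, hi⟩ | ⟨i, hi⟩
    · exfalso
      rw [hi, ← two_mul, pow_mul, pow_two, hsq, one_pow] at hj'
      exact (isD_four D).2.1 hj'.symm
    · rw [hi, pow_succ, pow_mul, pow_two, hsq, one_pow, one_mul] at hj'
      exact hj'
  · intro h
    exact ⟨n, by
      simp only [zpow_natCast]
      rw [hpow, h]; rfl⟩

end Comp

end CfsgLib.JFourOrder
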