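import Cfsg.Agent.Lib.JFourOrder.TCalc
import Cfsg.Agent.Lib.JFourOrder.Fast

/-!
# The packed evaluation in the centralizer of the second involution
-/

set_option autoImplicit false
set_option maxRecDepth 100000

namespace CfsgLib.JFourOrder

open CfsgLib.JFour (ap comp toT okL keepsPairs id11)
open CfsgLib.LargeFischer (pairMask)

/-- The coordinates of the small class, as one number. -/
def smallBits : ℕ := 0x1110111011100001000100010001111022208880444000010002000800041110800004000020284002141082410800010444202288080001400002000080111008884044220200018000040000201110400002000080284001288014140200010001000100012840284028402840000100020008000428401480412082100001c000060000a00000300009000050000f000000000000c6af0000000000003950800204080024000001402010180042818001040100210000042080208400842140010201008100000280408042004281400202080084000008101040210084210003000900050000000c0006000a000fc003060900a53950c003060900a53950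

/-- The first orbit on the elementary subgroup, as one number. -/
def tV0Bits : ℕ := 0xeeeeeeeeeeeeffeeffeeffeeffeeeeeedddd7777bbbbffeeffddff77ffbbeeee77ffbbffffdd55bbddaaee55aa77ffeebbbbdddd7777ffeebbffddffff77eeee7777bbbbddddffee77ffbbffffddeeeebbffddffff7755bbee5577aaaaddffeeffeeffeeffee55bb55bb55bb55bbffeeffddff77ffbb55bbaa77aadd55eeffee33ff99ffff55ffffccff66ffffaaff00ffffffffffff1100ffffffffffff44aa77ddbb77ff99ffffeebbddee66ff996677eebbeeffccffffbbdd77dd33ff33ccbbeeddeeff66ffffdd77bb7799ff9966bbdddd77ff33ffff77eeeebbccff33ccffccff66ffaaffffff33ff99ff55ff0033cc9966ff0044aa33cc9966ff0044aa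

/-- The second orbit on the elementary subgroup, as one number. -/
def tV1Bits : ℕ := 0x10001000100100010001000100001000200080004001000200080004000010800400000028204204101281480001040000200008000100400200000080001800004000020001008004000000200010400200000088204108208414120001000100010001082048204820482040010002000800040820441081402280100100c006000000a000003009000000500f00000000000002850000000000000820508204080004200001004020181002418081040100012000040020802480048120410201000180000200804082400241804202080004800008001010412004812003000900050000000c0006000a000f00c306090005a82050c306090005a8204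

/-- The bits of a number are among a list. -/
def orAll (L : List ℕ) : ℕ := L.foldl (fun m a => m ||| 2 ^ a) 0

theorem mem_of_orAll {L : List ℕ} {a : ℕ} (h : (orAll L).testBit a = true) : a ∈ L := by
  suffices ∀ (L : List ℕ) (m : ℕ), (L.foldl (fun m a => m ||| 2 ^ a) m).testBit a = true →
      m.testBit a = true ∨ a ∈ L by
    rcases this L 0 h with k | k
    · simp at k
    · exact k
  intro L
  induction L with
  | nil => exact fun m h => Or.inl h
  | cons b L ih =>
    intro m h
    rcases ih _ h with k | k
    · rw [Nat.testBit_or, Bool.or_eq_true, Nat.testBit_two_pow] at k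
      rcases k with k | k
      · exact Or.inl k
      · exact Or.inr (List.mem_cons.2 (Or.inl (of_decide_eq_true k).symm))
    · exact Or.inr (List.mem_cons_of_mem _ k)

/-- The mask of eleven fields. -/
def mask11 : ℕ := maskP 11 11

/-- The packed identity. -/
def one11 : ℕ := pk 11 (idn 11)

/-- The same as `elOK`, for evaluation in the kernel. -/
noncomputable def elF (W Wi : List ℕ) : Bool :=
  okL W && (List.range 2048).all (fun n => smallBits.testBit (apF W n) == smallBits.testBit n) &&
    Nat.beq (apF W 4) 4 && elOK.pairOK11 W Wi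

/-- The same as `valT`, for evaluation in the kernel. -/
noncomputable def valTF (au : ℕ) (Bu : List ℕ) (L : List ℕ) (B : List ℕ) : ℕ :=
  let gk := compP mask11 Bu (pk 11 B)
  let g := unp 11 gk
  let n := ordP mask11 one11 g 100 gk 1
  let S := unp 11 (trnP mask11 one11 g n)
  bif Nat.beq n 0 then 2 ^ 30 else (L.filter fun a => Nat.beq (apF S (Nat.xor au (apF Bu a))) 4).length

/-- The listed translations, for evaluation in the kernel. -/
noncomputable def tListF (c : ℕ) (e : Bool) : List ℕ :=
  let L := tRep c
  ((List.range 2048).filter fun a => Nat.beq (apF L a) a).filter fun a => (imL 11 L).contains a == (Nat.beq c 2 && e)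

/-- The value at a root, for evaluation in the kernel. -/
noncomputable def rootTF (u c : ℕ) (L : List ℕ) (i : ℕ) : ℕ :=
  let W := trv 11 gT (tAux c) 127 i
  let B := cj W.2 W.1 (uT u).2
  bif okD 11 B then valTF (apF W.2 (uT u).1) B L (tRep c) else 2 ^ 30

/-- The packed moves of a table. -/
def tMvK (u : ℕ) : List ℕ := (tMv u).map fun m => pk 11 m.2.1

/-- The packed tables of one representative in one class. -/
noncomputable def stepTF (u c : ℕ) (e : Bool) : Bool :=
  (List.range (tN c)).all (valF 11 (tN c) mask11 (tMv u) (tMvK u) (tCh c) (tVa u c) (tVl u c e)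
    (rootTF u c (tListF c e)))

/-- The same as `mvT`, for evaluation in the kernel. -/
noncomputable def mvTF (u : ℕ) : Bool :=
  (tMv u).all fun m => elF m.2.1 m.2.2 && Nat.blt m.1 2048 &&
    comp m.2.1 (uT u).2 == comp (uT u).2 m.2.1 &&
    Nat.beq (Nat.xor (Nat.xor m.1 (apF m.2.1 (uT u).1)) (apF (uT u).2 m.1)) (uT u).1

theorem valTF_eq {au : ℕ} {Bu B L : List ℕ} (hu : okD 11 Bu = true) (hB : okD 11 B = true) :
    valTF au Bu L B = valT au Bu L B := by
  have hg := okD_comp hu hB
  simp only [valTF, valT, mask11, one11]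
  rw [compP_eq hu hB, unp_pk hg, ordP_eq hg 100 hg 1]
  set n := ordM 11 (comp Bu B)
  rw [show ordLoop (idn 11) (comp Bu B) 100 (comp Bu B) 1 = n from rfl, trnP_eq hg, unp_pk (okD_trnM hg _)]
  simp only [apF_eq]

theorem tListF_eq (c : ℕ) (e : Bool) : tListF c e = tList c e := by
  simp only [tListF, tList, tSel, fixL, apF_eq]
  rfl

theorem elOK_of_fast
    (hm : (List.range 2048).all (fun n => smallBits.testBit n == pairMask.testBit (ap toT n)) = true)
    {W Wi : List ℕ} (h : elF W Wi = true) : elOK W Wi = true := by
  simp only [elF, Bool.and_eq_true, apF_eq] at h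
  obtain ⟨⟨⟨hL, hP⟩, h4⟩, hp⟩ := h
  simp only [elOK, Bool.and_eq_true]
  refine ⟨⟨⟨hL, ?_⟩, h4⟩, hp⟩
  rw [keepsPairs, List.all_eq_true]
  intro n hn
  have hs : ∀ k < 2048, smallBits.testBit k = pairMask.testBit (ap toT k) := fun k hk =>
    beq_iff_eq.1 (List.all_eq_true.1 hm k (List.mem_range.2 hk))
  have hlt : ap W n < 2048 := by
    simp only [okL, Bool.and_eq_true, List.all_eq_true, Nat.blt_eq] at hL
    exact CfsgLib.JFour.ap_lt_two_pow (m := 11) hL.2 n
  have := beq_iff_eq.1 (List.all_eq_true.1 hP n hn)
  rw [hs _ hlt, hs _ (List.mem_range.1 hn)] at this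
  exact beq_iff_eq.2 this

theorem mvT_of_fast
    (hm : (List.range 2048).all (fun n => smallBits.testBit n == pairMask.testBit (ap toT n)) = true)
    {u : ℕ} (h : mvTF u = true) : mvT u = true := by
  simp only [mvTF, mvT, List.all_eq_true, Bool.and_eq_true, apF_eq] at h ⊢
  exact fun m hm' => ⟨⟨⟨elOK_of_fast hm (h m hm').1.1.1, (h m hm').1.1.2⟩, (h m hm').1.2⟩, (h m hm').2⟩

theorem tMvK_moves {u : ℕ} (h : mvT u = true) : movesOK 11 ((tMv u).map Prod.snd) (tMvK u) = true := by
  simp only [mvT, List.all_eq_true, Bool.and_eq_true] at h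
  simp only [movesOK, tMvK, Bool.and_eq_true, List.map_map, beq_iff_eq, List.all_eq_true, List.mem_map]
  refine ⟨rfl, ?_⟩
  rintro _ ⟨m, hm, rfl⟩
  obtain ⟨⟨⟨he, -⟩, -⟩, -⟩ := h m hm
  simp only [elOK, elOK.pairOK11, Bool.and_eq_true, beq_iff_eq] at he
  obtain ⟨⟨⟨hL, -⟩, -⟩, -, hr⟩ := he
  refine ⟨?_, hr.trans (by decide +kernel)⟩
  simp only [okL, Bool.and_eq_true, beq_iff_eq] at hL
  simp only [okD, Bool.and_eq_true, Nat.beq_eq]
  exact ⟨hL.1, hL.2⟩

theorem stepT_of_fast {u c : ℕ} {e : Bool} (hr : okD 11 (tRep c) = true) (hmv : mvT u = true)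
    (hkey : ∀ i < tN c, pk 11 (getM 11 (tCh c) i) = keyM 11 (tCh c) i) (h : stepTF u c e = true) :
    stepT u c e = true := by
  simp only [stepT, stepTF, List.all_eq_true, List.mem_range] at h ⊢
  intro i hi
  have h' := valStep_of_fast rfl (tMvK_moves hmv) hkey (h i hi)
  rw [valStep] at h' ⊢
  cases hb : Nat.beq (dpI (tVa u c) i) 0
  · rw [hb] at h'
    exact h'
  · rw [hb, cond_true, Nat.beq_eq, tListF_eq] at h'
    rw [cond_true, Nat.beq_eq]
    have hlt : rootTF u c (tList c e) i < 2 ^ 24 := by rw [h']; exact Nat.mod_lt _ (by positivity)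
    simp only [rootTF] at hlt h'
    simp only [rootT]
    cases hd : okD 11 (cj (trv 11 gT (tAux c) 127 i).2 (trv 11 gT (tAux c) 127 i).1 (uT u).2)
    · rw [hd] at hlt; simp at hlt
    · rw [hd, cond_true, valTF_eq hd hr, apF_eq] at h'
      exact h'

end CfsgLib.JFourOrder
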