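import Cfsg.Agent.Lib.JFourOrder.TKeys

/-!
# The second factors for the representatives, by key
-/

set_option autoImplicit false
set_option maxRecDepth 100000
set_option linter.style.haveILetI false
set_option linter.unusedSectionVars false

open Cfsg

namespace CfsgLib.JFourOrder

open CfsgLib.JFour

theorem sumL_range (f : ℕ → ℕ) (n : ℕ) : sumL f (List.range n) = ∑ i ∈ Finset.range n, f i := by
  have h : ∀ l : List ℕ, sumL f l = (l.map f).sum := by
    intro l
    induction l with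
    | nil => rfl
    | cons x l ih => simp [sumL, ih]
  rw [h, ← List.sum_toFinset _ List.nodup_range, List.toFinset_range]

namespace Comp

variable {G : Type*} [Group G] [Fintype G] {M : Type*} [Group M] [Finite M] {z π : G} {E : Subgroup G}
variable {J : Ctx M z π E} {g : ℕ → M} {vec : ℕ → G} {V : Subgroup G}
variable {D : J.Std g vec V} {K : Subgroup G} (hK : Comp D K)
include hK

/-- Whether the last representative is not a conjugate of `z`. -/
noncomputable def eps : Bool :=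
  haveI := Classical.propDecidable
  decide (¬ IsConj z (((hK.rp 2 (by norm_num) : ↥(Kt J g vec K)) : ↥K) : G))

theorem mat_rp {c : ℕ} (hc : c < 3) : hK.mat (hK.rp c hc : ↥K) = tRep c := hK.rp_spec hc

theorem rep_type {c : ℕ} (hc : c < 3) {a : ℕ} (ha : a < 2048) (hfix : ap (tRep c) a = a) :
    IsConj z (ev J g vec a * ((hK.rp c hc : ↥K) : G)) ↔
      (imL 11 (tRep c)).contains a = !(Nat.beq c 2 && hK.eps) := by
  classical
  obtain ⟨h2, h1⟩ := hK.rp_sq hc
  have hcnt := List.all_eq_true.1 tRep_ok c (List.mem_range.2 hc)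
  simp only [Bool.and_eq_true, Nat.beq_eq] at hcnt
  have hm := hK.mat_rp hc
  have hlen : (tRep c).length = 11 := hm ▸ hK.mat_length _
  have hk2 : (hK.rp c hc : ↥K) * (hK.rp c hc : ↥K) = 1 := congrArg Subtype.val h2
  have hk1 : (hK.rp c hc : ↥K) ≠ 1 := fun e => h1 (Subtype.ext e)
  cases hb : Nat.beq c 2
  · rw [hb, cond_false] at hcnt
    rw [hK.two_A hk2 hk1 (by rw [hm]; exact hcnt.1) ha (by rw [hm]; exact hfix), hm, ← contains_imL hlen]
    simp
  · obtain rfl := Nat.eq_of_beq_eq_true hb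
    simp only [Nat.beq_refl, cond_true] at hcnt
    rw [hK.two_B hk2 hk1 (by rw [hm]; exact hcnt.1) ha (by rw [hm]; exact hfix), hm, ← contains_imL hlen]
    simp only [Bool.true_and, eps]
    by_cases hz : IsConj z (((hK.rp 2 hc : ↥(Kt J g vec K)) : ↥K) : G) <;>
      cases (imL 11 (tRep 2)).contains a <;> simp [hz]

theorem mem_tList {c : ℕ} (hc : c < 3) {a : ℕ} (ha : a < 2048) :
    a ∈ tList c hK.eps ↔ ap (tRep c) a = a ∧ IsConj (tEl J g vec) (ev J g vec a * ((hK.rp c hc : ↥K) : G)) := by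
  simp only [tList, tSel, fixL, List.mem_filter, List.mem_range, Nat.beq_eq, beq_iff_eq]
  refine ⟨fun ⟨⟨_, hf⟩, hs⟩ => ⟨hf, ?_⟩, fun ⟨hf, ht⟩ => ⟨⟨ha, hf⟩, ?_⟩⟩
  all_goals
    have h2 : ev J g vec a * ((hK.rp c hc : ↥K) : G) * (ev J g vec a * ((hK.rp c hc : ↥K) : G)) = 1 :=
      (hK.fixed_iff ha (congrArg Subtype.val (hK.rp_sq hc).1)).2 (by rw [hK.mat_rp hc]; exact hf)
    have h1 : ev J g vec a * ((hK.rp c hc : ↥K) : G) ≠ 1 := fun e => (hK.rp_sq hc).2 (Subtype.ext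
      ((hK.split_unique (k := (hK.rp c hc : ↥K)) (l := 1) ha (show (0 : ℕ) < 2048 by norm_num)
        (by rw [e, D.ev_zero]; simp)).2))
    have hiff := (Comp.isConj_t_iff D h2 h1).trans (not_congr (hK.rep_type hc ha hf))
  · rw [hiff, hs]; cases Nat.beq c 2 <;> cases hK.eps <;> simp
  · rw [hiff] at ht
    revert ht
    cases (imL 11 (tRep c)).contains a <;> cases (Nat.beq c 2 && hK.eps) <;> simp

theorem mem_tMask {a : ℕ} (ha : a < 2048) :
    a ∈ tMask ↔ ap id11 a = a ∧ IsConj (tEl J g vec) (ev J g vec a * ((1 : ↥K) : G)) := by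
  simp only [tMask, List.mem_filter, List.mem_range, OneMemClass.coe_one, mul_one, ap_id11 ha, true_and, ha]
  rw [← D.isD_pairs ha]
  constructor
  · intro h
    obtain ⟨n, -, hn⟩ := D.D_trans (isD_four D) h
    exact isConj_iff.2 ⟨n, hn⟩
  · intro h
    refine ⟨D.ev_mem a, fun e => ?_, fun hz => (isD_four D).2.2 (hz.trans h.symm)⟩
    obtain ⟨c, hc⟩ := isConj_iff.1 h
    rw [e, conj_eq_one_iff] at hc
    exact (isD_four D).2.1 hc

/-- The listed second factors over one key are counted by the arithmetic of codes. -/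
theorem fib_eq {au : ℕ} (hau : au < 2048) {ku : ↥(Kt J g vec K)} (r : ↥(Kt J g vec K)) {L : List ℕ}
    (hnd : L.Nodup) (hlt : ∀ a ∈ L, a < 2048)
    (hL : ∀ a < 2048, a ∈ L ↔ ap (hK.repT.ρ r) a = a ∧ IsConj (tEl J g vec) (ev J g vec a * ((r : ↥K) : G)))
    (hr : r * r = 1) (hne : valT au (hK.repT.ρ ku) L (hK.repT.ρ r) ≠ 2 ^ 30) :
    fib hK.key (tEl J g vec) (tEl J g vec) (ev J g vec au * ((ku : ↥K) : G)) (hK.repT.ρ r) =
      valT au (hK.repT.ρ ku) L (hK.repT.ρ r) := by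
  classical
  simp only [valT] at hne ⊢
  set n := ordM 11 (comp (hK.repT.ρ ku) (hK.repT.ρ r)) with hn
  cases hb : Nat.beq n 0
  swap
  · rw [hb, cond_true] at hne; exact absurd rfl hne
  rw [cond_false]
  have hn0 : n ≠ 0 := fun e => by rw [e, Nat.beq_refl] at hb; exact Bool.noConfusion hb
  rw [← List.toFinset_card_of_nodup (hnd.filter _), fib]
  refine (Finset.card_bij (fun a _ => ev J g vec a * ((r : ↥K) : G)) (fun a ha => ?_) (fun a ha b hb e => ?_)
    (fun v hv => ?_)).symm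
  · rw [List.mem_toFinset, List.mem_filter, Nat.beq_eq] at ha
    have hal := hlt a ha.1
    simp only [Finset.mem_filter]
    refine ⟨mem_secondSet.2 ⟨((hL a hal).1 ha.1).2, hK.code_comm r.2, ?_⟩, hK.key_code hal r⟩
    exact (hK.cond_iff hau hal hn.symm hn0).2 ha.2
  · rw [List.mem_toFinset, List.mem_filter] at ha hb
    exact (hK.split_unique (hlt a ha.1) (hlt b hb.1) e).1
  · simp only [Finset.mem_filter, mem_secondSet] at hv
    obtain ⟨⟨ht, hc, hmem⟩, hkey⟩ := hv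
    have ht2 : v * v = 1 := sq_of_conj (D.isV.sq _ (D.ev_mem 4)) ht
    obtain ⟨a, ha, k, rfl, -, hfix, hk⟩ := hK.invol_code hc ht2
    have hkr : k = r := hK.repT.inj (hk.symm.trans hkey)
    subst hkr
    refine ⟨a, ?_, rfl⟩
    rw [List.mem_toFinset, List.mem_filter, Nat.beq_eq]
    exact ⟨(hL a ha).2 ⟨hfix, ht⟩, (hK.cond_iff hau ha hn.symm hn0).1 hmem⟩

/-- Conjugation of codes in the whole complement. -/
theorem code_conjK {a b : ℕ} (ha : a < 2048) (hb : b < 2048) (w k : ↥K) :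
    ev J g vec b * (w : G) * (ev J g vec a * (k : G)) * (ev J g vec b * (w : G))⁻¹ =
      ev J g vec ((b ^^^ ap (hK.mat w) a) ^^^ ap (hK.mat (w * k * w⁻¹)) b) * ((w * k * w⁻¹ : ↥K) : G) := by
  have hb' : (ev J g vec b)⁻¹ = ev J g vec b := inv_eq_of_mul_eq_one_right (D.isV.sq _ (D.ev_mem b))
  rw [D.ev_xor (b ^^^ ap (hK.mat w) a), mul_assoc _ (ev J g vec (ap (hK.mat (w * k * w⁻¹)) b)),
    ← hK.push (w * k * w⁻¹) hb, mul_inv_rev, hb', hK.code_mul ha]
  simp only [Subgroup.coe_mul, InvMemClass.coe_inv]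
  group

theorem key_conj {b : ℕ} (hb : b < 2048) (w : ↥(Kt J g vec K)) {v : G} (hv : v * tEl J g vec = tEl J g vec * v)
    (l : ↥(Kt J g vec K)) :
    hK.key (ev J g vec b * ((w : ↥K) : G) * v * (ev J g vec b * ((w : ↥K) : G))⁻¹) = hK.repT.ρ (w * l * w⁻¹) ↔
      hK.key v = hK.repT.ρ l := by
  obtain ⟨a, ha, k, hk, rfl⟩ := hK.cent_split hv
  rw [hK.key_code ha k]
  have e := hK.code_conjK ha hb (w : ↥K) k
  rw [e, hK.key_code (Nat.xor_lt_two_pow (n := 11) (Nat.xor_lt_two_pow (n := 11) hb (okL_lt (hK.mat_spec _).1 a))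
    (okL_lt (hK.mat_spec _).1 b))]
  constructor
  · intro h
    have h' := hK.rep.inj (h : hK.rep.ρ _ = hK.rep.ρ ((w * l * w⁻¹ : ↥(Kt J g vec K)) : ↥K))
    simp only [Subgroup.coe_mul, InvMemClass.coe_inv] at h'
    exact congrArg hK.mat (mul_left_cancel (mul_right_cancel h'))
  · intro h
    have hkl : k = (l : ↥K) := hK.rep.inj h
    subst hkl
    rfl

/-- Conjugation of codes. -/
theorem code_conj {a b : ℕ} (ha : a < 2048) (hb : b < 2048) (w k : ↥(Kt J g vec K)) :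
    ev J g vec b * ((w : ↥K) : G) * (ev J g vec a * ((k : ↥K) : G)) * (ev J g vec b * ((w : ↥K) : G))⁻¹ =
      ev J g vec ((b ^^^ ap (hK.repT.ρ w) a) ^^^ ap (hK.repT.ρ (w * k * w⁻¹)) b) *
        (((w * k * w⁻¹ : ↥(Kt J g vec K)) : ↥K) : G) := by
  exact hK.code_conjK ha hb (w : ↥K) (k : ↥K)

theorem dp_lt_128 (aux : List ℕ) (i : ℕ) : dpI aux i ≤ 127 := by
  have h : tab aux 24 i < 2 ^ 24 := Nat.mod_lt _ (by positivity)
  have : tab aux 24 i / 131072 < 128 := Nat.div_lt_of_lt_mul (by norm_num at h ⊢; omega)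
  rw [dpI]; omega

/-- The value of an entry. -/
theorem fib_entry {u : ℕ} {c : ℕ} (hc : c < 3) (hau : (uT u).1 < 2048) {ku : ↥(Kt J g vec K)}
    (hku : hK.repT.ρ ku = (uT u).2) (hmv : mvT u = true) (hstep : stepT u c hK.eps = true) :
    ∀ i < tN c, fib hK.key (tEl J g vec) (tEl J g vec) (ev J g vec (uT u).1 * ((ku : ↥K) : G)) (getM 11 (tCh c) i) =
      valI (tVl u c hK.eps) i := by
  set v := ev J g vec (uT u).1 * ((ku : ↥K) : G) with hv
  have hstep' : ∀ i < tN c, valStep 11 (tN c) (tMv u) (tCh c) (tVa u c) (tVl u c hK.eps) (rootT u c hK.eps) i = true :=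
    fun i hi => List.all_eq_true.1 hstep i (List.mem_range.2 hi)
  suffices H : ∀ f i, i < tN c → dpI (tVa u c) i ≤ f →
      fib hK.key (tEl J g vec) (tEl J g vec) v (getM 11 (tCh c) i) = valI (tVl u c hK.eps) i from
    fun i hi => H _ i hi le_rfl
  intro f
  induction f with
  | zero => exact fun i hi hd => hroot i hi (Nat.le_zero.1 hd)
  | succ f ih =>
    intro i hi hd
    by_cases hd0 : dpI (tVa u c) i = 0
    · exact hroot i hi hd0
    have h := hstep' i hi
    have hb : Nat.beq (dpI (tVa u c) i) 0 = false := by rw [nat_beq_decide]; exact decide_eq_false hd0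
    rw [valStep, hb, cond_false] at h
    simp only [Bool.and_eq_true, Nat.blt_eq, Nat.beq_eq, beq_iff_eq] at h
    obtain ⟨⟨⟨⟨hp, hdp⟩, hm⟩, hval⟩, hget⟩ := h
    rw [← hval, ← ih _ hp (by omega)]
    have hm' := List.all_eq_true.1 hmv ((tMv u).getD (mvI (tVa u c) i) (0, [], []))
      (by rw [List.getD_eq_getElem _ _ hm]; exact List.getElem_mem hm)
    set m := (tMv u).getD (mvI (tVa u c) i) (0, [], []) with hmdef
    simp only [Bool.and_eq_true, Nat.blt_eq, Nat.beq_eq, beq_iff_eq] at hm'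
    obtain ⟨⟨⟨hel, hblt⟩, hcomm⟩, hfix⟩ := hm'
    obtain ⟨w, hw, hwi⟩ := hK.exists_el hel
    obtain ⟨x, hx⟩ := hK.repT.class_mem hK.gensT (tClass_ok hc) (hK.rp_spec hc) hp
    set l := x * hK.rp c hc * x⁻¹
    have hget' : hK.repT.ρ (w * l * w⁻¹) = getM 11 (tCh c) i := by rw [hK.repT.conj_eq hw hwi, hx, hget]
    have hd : ev J g vec m.1 * ((w : ↥K) : G) * tEl J g vec = tEl J g vec * (ev J g vec m.1 * ((w : ↥K) : G)) :=
      hK.code_comm w.2
    have hwk : w * ku * w⁻¹ = ku := by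
      rw [mul_inv_eq_iff_eq_mul]
      exact hK.repT.inj (by rw [hK.repT.mul, hK.repT.mul, hw, hku]; exact hcomm)
    have hfixu : ev J g vec m.1 * ((w : ↥K) : G) * v * (ev J g vec m.1 * ((w : ↥K) : G))⁻¹ = v := by
      rw [hv, hK.code_conj hau hblt w ku, hwk, hku, hw]
      congr 2
    conv_lhs => rw [← hget']
    rw [← hx]
    conv_lhs => rw [← hfixu]
    exact (fib_conj hK.key hd fun y hy => hK.key_conj hblt w hy l).symm
where
  hroot : ∀ i < tN c, dpI (tVa u c) i = 0 →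
      fib hK.key (tEl J g vec) (tEl J g vec) (ev J g vec (uT u).1 * ((ku : ↥K) : G)) (getM 11 (tCh c) i) =
        valI (tVl u c hK.eps) i := by
    intro i hi hd0
    have h := List.all_eq_true.1 hstep i (List.mem_range.2 hi)
    rw [valStep, hd0, Nat.beq_refl, cond_true, Nat.beq_eq] at h
    rw [← h]
    obtain ⟨x, hx, hxi, hxc⟩ := hK.repT.trv_spec hK.gensT (tClass_ok hc) (hK.rp_spec hc) 127 i hi (hK.dp_lt_128 _ i)
    have hd : ev J g vec 0 * ((x⁻¹ : ↥(Kt J g vec K)) : ↥K) * tEl J g vec =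
        tEl J g vec * (ev J g vec 0 * ((x⁻¹ : ↥(Kt J g vec K)) : ↥K)) := hK.code_comm (x⁻¹).2
    have hkey : ∀ y, y * tEl J g vec = tEl J g vec * y →
        (hK.key (ev J g vec 0 * ((x⁻¹ : ↥(Kt J g vec K)) : ↥K) * y *
            (ev J g vec 0 * ((x⁻¹ : ↥(Kt J g vec K)) : ↥K))⁻¹) = hK.repT.ρ (hK.rp c hc) ↔
          hK.key y = getM 11 (tCh c) i) := fun y hy => by
      have := hK.key_conj (b := 0) (by norm_num) x⁻¹ hy (x * hK.rp c hc * x⁻¹)
      rwa [show x⁻¹ * (x * hK.rp c hc * x⁻¹) * (x⁻¹)⁻¹ = hK.rp c hc by group, hxc] at this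
    rw [fib_conj hK.key hd hkey, hK.code_conj hau (by norm_num : (0 : ℕ) < 2048)]
    have hcj : hK.repT.ρ (x⁻¹ * ku * x⁻¹⁻¹) =
        cj (trv 11 gT (tAux c) 127 i).2 (trv 11 gT (tAux c) 127 i).1 (uT u).2 := by
      rw [hK.repT.conj_eq hxi rfl, inv_inv, hx, hku]
    rw [ap_zero, Nat.xor_zero, Nat.zero_xor, hxi]
    have hlt : ap (trv 11 gT (tAux c) 127 i).2 (uT u).1 < 2048 := hxi ▸ okL_lt (hK.mat_spec _).1 _
    have hL := fun a ha => hK.mem_tList hc (a := a) ha
    have hne : valT (ap (trv 11 gT (tAux c) 127 i).2 (uT u).1) (hK.repT.ρ (x⁻¹ * ku * x⁻¹⁻¹)) (tList c hK.eps)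
        (hK.repT.ρ (hK.rp c hc)) ≠ 2 ^ 30 := by
      rw [hcj, hK.rp_spec hc]
      show rootT u c hK.eps i ≠ 2 ^ 30
      rw [h]
      have : valI (tVl u c hK.eps) i < 2 ^ 24 := Nat.mod_lt _ (by positivity)
      omega
    rw [hK.fib_eq hlt (hK.rp c hc) (L := tList c hK.eps) (List.Nodup.filter _ (List.Nodup.filter _ List.nodup_range))
      (fun a ha => by
        simp only [tList, tSel, fixL, List.mem_filter, List.mem_range] at ha
        exact ha.1.1) (fun a ha => by rw [hL a ha, hK.rp_spec hc]) (hK.rp_sq hc).1 hne, hcj, hK.rp_spec hc]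
    rfl

end Comp

end CfsgLib.JFourOrder
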