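import Cfsg.Agent.Lib.JFourOrder.Defs
import Cfsg.Agent.Lib.JFour.InvolDefs
import Cfsg.Agent.Lib.JFour.VData

/-!
# Kernel checks for the types of involutions outside the elementary subgroup
-/

set_option autoImplicit false
set_option Elab.async false
set_option maxRecDepth 100000
set_option maxHeartbeats 4000000

namespace CfsgLib.JFourOrder

open CfsgLib.JFour (ap comp actW outL outB wC uC id11 okL keepsPairs layA layB inLay)

/-- An automorphism of order seven commuting with the first representative. -/
def Ld : List ℕ := [490, 1086, 42, 1497, 16, 409, 46, 1367, 1664, 471, 1137]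

/-- Its inverse. -/
def LdI : List ℕ := [1570, 1139, 68, 1645, 16, 538, 122, 722, 685, 896, 82]

/-- The orbit of a vector. -/
def orbLd : List ℕ := (List.range 7).map fun k => ap (pw 11 Ld k) 2

theorem ld_ok : okL Ld = true ∧ keepsPairs Ld = true ∧ comp LdI Ld = id11 ∧
    comp Ld (actW 1) = comp (actW 1) Ld := by decide +kernel

theorem low_one : ap (actW 1) 2 = 2 ∧ ap (actW 1) 9 = 9 ∧
    (imL 11 (actW 1)).contains 2 = false ∧ (imL 11 (actW 1)).contains 9 = false ∧
    inLay layA (wC 1 ^^^ uC 2) = true ∧ inLay layB (wC 1 ^^^ uC 0) = true ∧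
    inLay layB (wC 1 ^^^ uC 9) = true := by decide +kernel

theorem orb_one : (fixL 11 (actW 1)).all (fun a => (imL 11 (actW 1)).contains a ||
    orbLd.any fun c => (imL 11 (actW 1)).contains (Nat.xor a c)) = true := by decide +kernel

theorem low_two : ap (actW 17) 3 = 3 ∧ (imL 11 (actW 17)).contains 3 = false ∧
    inLay layA (wC 17 ^^^ uC 0) = true ∧ inLay layB (wC 17 ^^^ uC 3) = true ∧
    (fixL 11 (actW 17)).all (fun a => (imL 11 (actW 17)).contains a || (imL 11 (actW 17)).contains (Nat.xor a 3))
      = true := by decide +kernel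

/-- Vectors giving conjugates of `z` over the listed representatives. -/
def tauJ : List (ℕ × ℕ) := [(5, 0), (11, 6), (14, 6), (33, 0), (36, 0), (42, 16), (47, 16)]

theorem tauJ_ok : tauJ.all (fun p => Nat.blt p.1 64 && Nat.blt p.2 64 && Nat.beq (ap outB (wC p.1)) (wC p.1) &&
    Nat.beq (ap (actW p.1) p.2) p.2 && Nat.beq ((fixL 11 (actW p.1)).length) 128 &&
    inLay layA (wC p.1 ^^^ uC p.2)) = true := by decide +kernel

theorem tau_ok : ap outL 384 = 384 ∧ ap outL 64 = 64 ∧ (fixL 11 outL).length = 128 ∧
    (imL 11 outL).contains 64 = false ∧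
    (fixL 11 outL).all (fun a =>
      !(tauJ.all fun p => (imL 11 (actW p.1)).any fun b =>
        Nat.beq (Nat.xor a (ap outL (Nat.xor p.2 b))) (Nat.xor (Nat.xor p.2 b) (ap (actW p.1) a))) ||
      ((xor ((imL 11 outL).contains a) ((imL 11 outL).contains (Nat.xor a 64))) &&
        !(imL 11 outL).contains (Nat.xor a 384) && !(imL 11 outL).contains (Nat.xor (Nat.xor a 384) 64))) = true := by
  decide +kernel

end CfsgLib.JFourOrder
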