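import Cfsg.Agent.Lib.JFourOrder.TBase
import Cfsg.Agent.Lib.JFourOrder.TTypeChecks

/-!
# The types of involutions outside the elementary subgroup

Over an involution of the complement the conjugates of `z` fill one coset of the image of its displacement.
-/

set_option autoImplicit false
set_option maxRecDepth 100000
set_option linter.style.haveILetI false
set_option linter.unusedSectionVars false

open Cfsg

namespace CfsgLib.JFourOrder

open CfsgLib.JFour

/-- A vector is a displacement. -/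
def InIm (L : List ℕ) (a : ℕ) : Prop := ∃ b < 2048, a = b ^^^ ap L b

theorem spanL_spec : ∀ (cs : List ℕ) (a : ℕ), a ∈ spanL cs ↔ ∃ n < 2 ^ cs.length, a = ap cs n
  | [], a => by simp [spanL, ap]
  | c :: cs, a => by
    have ih := spanL_spec cs
    have hstep : ∀ n, ap (c :: cs) n = cond (n % 2 == 1) (c ^^^ ap cs (n / 2)) (ap cs (n / 2)) := fun n => rfl
    have hright : (∃ n < 2 ^ (c :: cs).length, a = ap (c :: cs) n) ↔
        a ∈ spanL cs ∨ ∃ x ∈ spanL cs, a = c ^^^ x := by
      simp only [List.length_cons, pow_succ]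
      constructor
      · rintro ⟨n, hn, rfl⟩
        rw [hstep]
        rcases Nat.mod_two_eq_zero_or_one n with h | h <;> rw [h]
        · exact Or.inl ((ih _).2 ⟨n / 2, by omega, rfl⟩)
        · exact Or.inr ⟨_, (ih _).2 ⟨n / 2, by omega, rfl⟩, rfl⟩
      · rintro (h | ⟨x, h, rfl⟩)
        · obtain ⟨m, hm, rfl⟩ := (ih _).1 h
          refine ⟨2 * m, by omega, ?_⟩
          rw [hstep, show 2 * m % 2 = 0 by omega, show 2 * m / 2 = m by omega]
          rfl
        · obtain ⟨m, hm, rfl⟩ := (ih _).1 h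
          refine ⟨2 * m + 1, by omega, ?_⟩
          rw [hstep, show (2 * m + 1) % 2 = 1 by omega, show (2 * m + 1) / 2 = m by omega]
          rfl
    rw [hright]
    simp only [spanL]
    cases hc : (spanL cs).contains c
    · simp only [cond_false, List.mem_append, List.mem_map]
      exact or_congr_right ⟨fun ⟨x, hx, e⟩ => ⟨x, hx, e.symm⟩, fun ⟨x, hx, e⟩ => ⟨x, hx, e.symm⟩⟩
    · simp only [cond_true]
      refine ⟨Or.inl, ?_⟩
      rintro (h | ⟨x, hx, rfl⟩)
      · exact h
      · obtain ⟨m, hm, hm'⟩ := (ih _).1 (List.contains_iff_mem.1 hc)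
        obtain ⟨n, hn, rfl⟩ := (ih _).1 hx
        exact (ih _).2 ⟨m ^^^ n, Nat.xor_lt_two_pow hm hn, by rw [ap_xor, ← hm']⟩

theorem contains_imL {L : List ℕ} (hL : L.length = 11) {a : ℕ} :
    (imL 11 L).contains a = true ↔ InIm L a := by
  have hlen : (List.zipWith Nat.xor (idn 11) L).length = 11 := by simp [idn, hL]
  rw [List.contains_iff_mem, imL, spanL_spec, hlen]
  refine exists_congr fun b => and_congr_right fun hb => ?_
  rw [ap_zipXor _ _ (by simp [idn, hL]), idn_eleven, ap_id11 hb]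

theorem InIm.xor {L : List ℕ} {a b : ℕ} (ha : InIm L a) (hb : InIm L b) : InIm L (a ^^^ b) := by
  obtain ⟨x, hx, rfl⟩ := ha
  obtain ⟨y, hy, rfl⟩ := hb
  refine ⟨x ^^^ y, Nat.xor_lt_two_pow (n := 11) hx hy, ?_⟩
  rw [ap_xor]; ac_rfl

theorem InIm.iff_xor {L : List ℕ} {a b : ℕ} (hb : InIm L b) : InIm L (a ^^^ b) ↔ InIm L a :=
  ⟨fun h => by simpa [Nat.xor_assoc] using h.xor hb, fun h => h.xor hb⟩

theorem InIm.move {A L L' : List ℕ} (hA : okL A = true) (h : comp A L = comp L' A) {a : ℕ}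
    (ha : InIm L a) : InIm L' (ap A a) := by
  obtain ⟨b, hb, rfl⟩ := ha
  exact ⟨ap A b, okL_lt hA b, by rw [ap_xor, ← ap_comp, h, ap_comp]⟩

namespace Comp

variable {G : Type*} [Group G] [Finite G] {M : Type*} [Group M] [Finite M] {z π : G} {E : Subgroup G}
variable {J : Ctx M z π E} {g : ℕ → M} {vec : ℕ → G} {V : Subgroup G}
variable {D : J.Std g vec V} {K : Subgroup G} (hK : Comp D K)
include hK

theorem mat_length (k : ↥K) : (hK.mat k).length = 11 := vacts_len (hK.mat_spec k)

theorem conj_code {a b : ℕ} (hb : b < 2048) (k : ↥K) :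
    ev J g vec b * (ev J g vec a * k) * (ev J g vec b)⁻¹ = ev J g vec (a ^^^ (b ^^^ ap (hK.mat k) b)) * k := by
  have hi : (ev J g vec b)⁻¹ = ev J g vec b := inv_eq_of_mul_eq_one_right (D.isV.sq _ (D.ev_mem b))
  rw [hi, D.ev_xor, D.ev_xor]
  calc ev J g vec b * (ev J g vec a * k) * ev J g vec b
      = ev J g vec b * ev J g vec a * ((k : G) * ev J g vec b) := by group
    _ = ev J g vec a * ev J g vec b * (ev J g vec (ap (hK.mat k) b) * k) := by
      rw [hK.push k hb, D.isV.comm _ (D.ev_mem b) _ (D.ev_mem a)]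
    _ = _ := by group

theorem isConj_move {a a' : ℕ} {k : ↥K} (h : InIm (hK.mat k) (a ^^^ a')) :
    IsConj z (ev J g vec a * k) ↔ IsConj z (ev J g vec a' * k) := by
  obtain ⟨b, hb, he⟩ := h
  have e : a' = a ^^^ (b ^^^ ap (hK.mat k) b) := by rw [← he, ← Nat.xor_assoc, Nat.xor_self, Nat.zero_xor]
  rw [e, ← hK.conj_code hb k, isConj_conj_iff]

theorem fixed_iff {a : ℕ} (ha : a < 2048) {k : ↥K} (hk : k * k = 1) :
    ev J g vec a * k * (ev J g vec a * k) = 1 ↔ ap (hK.mat k) a = a := by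
  rw [hK.code_mul ha, hk, OneMemClass.coe_one, mul_one]
  constructor
  · intro h
    exact (Nat.xor_eq_zero_iff.1 (D.ev_inj (Nat.xor_lt_two_pow (n := 11) ha (okL_lt (hK.mat_spec k).1 a))
      (by norm_num) (h.trans D.ev_zero.symm))).symm
  · intro h
    rw [h, Nat.xor_self, D.ev_zero]

theorem fixed_count {k k' c : ↥K} (h : k' = c * k * c⁻¹) :
    (fixL 11 (hK.mat k)).length = (fixL 11 (hK.mat k')).length := by
  have key : ∀ {k k' c : ↥K}, k' = c * k * c⁻¹ →
      (fixL 11 (hK.mat k)).length ≤ (fixL 11 (hK.mat k')).length := by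
    intro k k' c h
    have hcomm : comp (hK.mat c) (hK.mat k) = comp (hK.mat k') (hK.mat c) := by
      rw [show comp (hK.mat c) (hK.mat k) = hK.mat (c * k) from (hK.rep.mul c k).symm,
        show comp (hK.mat k') (hK.mat c) = hK.mat (k' * c) from (hK.rep.mul k' c).symm,
        show k' * c = c * k by rw [h]; group]
    have hnd : ∀ L, (fixL 11 L).Nodup := fun L => List.Nodup.filter _ List.nodup_range
    rw [← List.toFinset_card_of_nodup (hnd _), ← List.toFinset_card_of_nodup (hnd _)]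
    refine Finset.card_le_card_of_injOn (fun n => ap (hK.mat c) n) (fun n hn => ?_) (fun x hx y hy e => ?_)
    · simp only [Finset.mem_coe, List.mem_toFinset, fixL, List.mem_filter, List.mem_range, Nat.beq_eq] at hn ⊢
      refine ⟨okL_lt (hK.mat_spec c).1 n, ?_⟩
      rw [← ap_comp, ← hcomm, ap_comp, hn.2]
    · simp only [Finset.mem_coe, List.mem_toFinset, fixL, List.mem_filter, List.mem_range] at hx hy
      refine D.ev_inj hx.1 hy.1 ?_
      have h1 := (hK.mat_spec c).2 x hx.1
      have h2 := (hK.mat_spec c).2 y hy.1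
      exact (MulAut.conj (c : G)).injective (h1.trans ((congrArg (ev J g vec) e).trans h2.symm))
  exact le_antisymm (key h) (key (c := c⁻¹) (by rw [h]; group))

/-- Every involution of the complement is conjugate inside it to a representative times a member. -/
theorem exists_rep_conj {k : ↥K} (hk : k * k = 1) (hk1 : k ≠ 1) :
    ∃ (c : ↥K) (i n : ℕ), (i = 1 ∨ i = 17) ∧ n < 2048 ∧
      ((c * k * c⁻¹ : ↥K) : G) = ev J g vec n * hat z π vec (wC i) ∧
      hK.mat (c * k * c⁻¹) = actW i := by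
  have hkV : (k : G) ∉ V := fun h => hk1 (Subtype.ext (by
    have : (k : G) ∈ K ⊓ V := ⟨k.2, h⟩
    rwa [hK.inf, Subgroup.mem_bot] at this))
  obtain ⟨m, hm, i, hi, n, hn, e⟩ := D.exists_rep (hK.le k.2) (congrArg Subtype.val hk) hkV
  obtain ⟨b, hb, c, rfl⟩ := hK.split hm
  have hi64 : i < 64 := by rcases hi with rfl | rfl <;> norm_num
  have hA := D.actW_eq hi64
  have hval : ((c * k * c⁻¹ : ↥K) : G) =
      (ev J g vec b)⁻¹ * (hat z π vec (wC i) * ev J g vec n) * ev J g vec b := by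
    rw [← e]; simp only [Subgroup.coe_mul, InvMemClass.coe_inv]; group
  have hev : ev J g vec b * ev J g vec b = 1 := D.isV.sq _ (D.ev_mem b)
  have hy : ∀ x < 2048, hat z π vec (wC i) * ev J g vec x = ev J g vec (ap (actW i) x) * hat z π vec (wC i) :=
    fun x hx => by rw [← hA.2 x hx]; group
  have hb' : ev J g vec b = (ev J g vec b)⁻¹ := (inv_eq_of_mul_eq_one_right hev).symm
  have hnb : n ^^^ b < 2048 := Nat.xor_lt_two_pow (n := 11) hn hb
  have hval2 : ((c * k * c⁻¹ : ↥K) : G) =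
      ev J g vec (b ^^^ ap (actW i) (n ^^^ b)) * hat z π vec (wC i) := by
    rw [hval, ← hb', D.ev_xor b, mul_assoc, mul_assoc (hat z π vec (wC i)), ← D.ev_xor, hy _ hnb, ← mul_assoc]
  refine ⟨c, i, _, hi, Nat.xor_lt_two_pow (n := 11) hb (okL_lt hA.1 _), hval2, hK.mat_eq ?_⟩
  rw [hval2]
  have h1 := D.vacts_mul (D.vacts_V (D.ev_mem (b ^^^ ap (actW i) (n ^^^ b)))) hA
  have h2 : comp id11 (actW i) = actW i := cols_ext (vacts_len h1) (okL_len hA.1) fun j hj => by
    rw [ap_comp, ap_id11 (okL_lt hA.1 _)]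
  rwa [h2] at h1

theorem move_iff {k k' c : ↥K} (h : k' = c * k * c⁻¹) {a : ℕ} (ha : a < 2048) :
    (IsConj z (ev J g vec (ap (hK.mat c) a) * k') ↔ IsConj z (ev J g vec a * k)) ∧
      (InIm (hK.mat k') (ap (hK.mat c) a) ↔ InIm (hK.mat k) a) := by
  have hcomm : comp (hK.mat c) (hK.mat k) = comp (hK.mat k') (hK.mat c) := by
    rw [show comp (hK.mat c) (hK.mat k) = hK.mat (c * k) from (hK.rep.mul c k).symm,
      show comp (hK.mat k') (hK.mat c) = hK.mat (k' * c) from (hK.rep.mul k' c).symm,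
      show k' * c = c * k by rw [h]; group]
  constructor
  · rw [← (hK.mat_spec c).2 a ha, h,
      show (c : G) * ev J g vec a * (c : G)⁻¹ * ((c * k * c⁻¹ : ↥K) : G) =
        (c : G) * (ev J g vec a * k) * (c : G)⁻¹ by
      simp only [Subgroup.coe_mul, InvMemClass.coe_inv]; group, isConj_conj_iff]
  · refine ⟨fun hh => ?_, fun hh => hh.move (hK.mat_spec c).1 hcomm⟩
    have hci : ∀ x < 2048, ap (hK.mat c⁻¹) (ap (hK.mat c) x) = x := fun x hx => by
      rw [← ap_comp, show comp (hK.mat c⁻¹) (hK.mat c) = hK.mat (c⁻¹ * c) from (hK.rep.mul _ _).symm,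
        inv_mul_cancel, show hK.mat 1 = idn 11 from hK.rep.one, idn_eleven, ap_id11 hx]
    have hcomm' : comp (hK.mat c⁻¹) (hK.mat k') = comp (hK.mat k) (hK.mat c⁻¹) := by
      rw [show comp (hK.mat c⁻¹) (hK.mat k') = hK.mat (c⁻¹ * k') from (hK.rep.mul _ _).symm,
        show comp (hK.mat k) (hK.mat c⁻¹) = hK.mat (k * c⁻¹) from (hK.rep.mul _ _).symm,
        show c⁻¹ * k' = k * c⁻¹ by rw [h]; group]
    have := hh.move (hK.mat_spec c⁻¹).1 hcomm'
    rwa [hci a ha] at this

theorem low_type {i : ℕ} (hi : i < 64) {n : ℕ} (hn : n < 64) :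
    ((inLay layA (wC i ^^^ uC n) = true → IsConj z (hat z π vec (wC i) * ev J g vec n)) ∧
    (inLay layB (wC i ^^^ uC n) = true → ¬ IsConj z (hat z π vec (wC i) * ev J g vec n))) := by
  have hu := (uC_facts hn).1
  have hlt : wC i ^^^ uC n < 4096 := Nat.xor_lt_two_pow (n := 12) (wC_facts hi).1 hu
  have hr : Rel z (hat z π vec (wC i) * ev J g vec n) (vec (wC i ^^^ uC n)) := by
    rw [D.ev_low hn, D.hat_mul (wC_facts hi).1 hu]
    refine J.rel_trans ?_ (D.hat_rel _)
    cases beta (wC i) (uC n)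
    · exact Or.inl (one_mul _)
    · exact Or.inr rfl
  exact ⟨fun h => D.conj_of_layA hlt h hr, fun h => D.not_conj_of_layB hlt h hr⟩

/-- The involutions over a representative with 128 fixed vectors. -/
theorem type_one {k : ↥K} {n0 : ℕ} (hn0 : n0 < 2048) (he : (k : G) = ev J g vec n0 * hat z π vec (wC 1))
    (hm : hK.mat k = actW 1) (hk : k * k = 1) :
    ∀ a < 2048, ap (actW 1) a = a → (IsConj z (ev J g vec a * k) ↔ InIm (actW 1) a) := by
  obtain ⟨hL, hP, hLI, hcomm⟩ := ld_ok
  obtain ⟨f2, f9, i2, i9, l2, l0, l9⟩ := low_one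
  have hlen : (actW 1).length = 11 := okL_len (D.actW_eq (i := 1) (by norm_num)).1
  obtain ⟨m, hmA⟩ := D.realize hL hP (R := LdI) (List.all_eq_true.2 fun n hn => by
    rw [nat_beq_decide, decide_eq_true_eq, ← ap_comp, hLI, ap_id11 (List.mem_range.1 hn)])
  obtain ⟨b, hb, d, rfl⟩ := hK.split (D.vacts_mem hmA)
  have hd : hK.mat d = Ld := by
    refine hK.mat_eq ?_
    have h1 := D.vacts_mul (D.vacts_V (D.ev_mem b)) hmA
    rw [← mul_assoc, D.isV.sq _ (D.ev_mem b), one_mul] at h1
    have h2 : comp id11 Ld = Ld := cols_ext (vacts_len h1) (okL_len hL) fun j hj => by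
      rw [ap_comp, ap_id11 (okL_lt hL _)]
    rwa [h2] at h1
  have hdk : d * k = k * d := hK.rep.inj (by
    rw [hK.rep.mul, hK.rep.mul]
    show comp (hK.mat d) (hK.mat k) = comp (hK.mat k) (hK.mat d)
    rw [hd, hm, hcomm])
  have hstep : ∀ a < 2048, IsConj z (ev J g vec (ap Ld a) * k) ↔ IsConj z (ev J g vec a * k) := fun a ha => by
    have h := (hK.move_iff (k := k) (k' := k) (c := d) (by rw [hdk, mul_inv_cancel_right]) ha).1
    rwa [hd] at h
  have horb : ∀ j a, a < 2048 → ap (pw 11 Ld j) a < 2048 ∧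
      (IsConj z (ev J g vec (ap (pw 11 Ld j) a) * k) ↔ IsConj z (ev J g vec a * k)) := by
    intro j a ha
    induction j with
    | zero => rw [pw, idn_eleven, ap_id11 ha]; exact ⟨ha, Iff.rfl⟩
    | succ j ih => rw [pw, ap_comp]; exact ⟨okL_lt hL _, (hstep _ ih.1).trans ih.2⟩
  have hout : ∀ a < 2048, ap (actW 1) a = a → ¬ InIm (actW 1) a →
      (IsConj z (ev J g vec a * k) ↔ IsConj z (ev J g vec 2 * k)) := by
    intro a ha hfix hna
    have h := List.all_eq_true.1 orb_one a (List.mem_filter.2 ⟨List.mem_range.2 ha, by rw [hfix]; exact Nat.beq_refl a⟩)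
    rw [Bool.or_eq_true, contains_imL hlen, List.any_eq_true] at h
    obtain ⟨c, hc, hin⟩ := h.resolve_left hna
    rw [contains_imL hlen] at hin
    simp only [orbLd, List.mem_map, List.mem_range] at hc
    obtain ⟨j, -, rfl⟩ := hc
    exact (hK.isConj_move (hm ▸ hin)).trans (horb j 2 (by norm_num)).2
  have hfn0 : ap (actW 1) n0 = n0 := by
    have h1 : hat z π vec (wC 1) = ev J g vec n0 * k := by
      rw [he, ← mul_assoc, D.isV.sq _ (D.ev_mem n0), one_mul]
    have h2 := D.hat_wC_sq (i := 1) (by norm_num)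
    rw [h1, hK.fixed_iff hn0 hk, hm] at h2
    exact h2
  -- the representative times a member, in codes
  have hy : ∀ n < 2048, ap (actW 1) n = n →
      hat z π vec (wC 1) * ev J g vec n = ev J g vec (n ^^^ n0) * k := by
    intro n hn hfix
    have h1 : hat z π vec (wC 1) * ev J g vec n = ev J g vec n * hat z π vec (wC 1) := by
      have := (D.actW_eq (i := 1) (by norm_num)).2 n hn
      rw [hfix] at this
      exact mul_inv_eq_iff_eq_mul.1 this
    rw [h1, he, D.ev_xor, mul_assoc, ← mul_assoc (ev J g vec n0), D.isV.sq _ (D.ev_mem n0), one_mul]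
  have z2 := (hK.low_type (i := 1) (n := 2) (by norm_num) (by norm_num)).1 l2
  have t0 := (hK.low_type (i := 1) (n := 0) (by norm_num) (by norm_num)).2 l0
  have t9 := (hK.low_type (i := 1) (n := 9) (by norm_num) (by norm_num)).2 l9
  rw [hy 2 (by norm_num) f2] at z2
  rw [hy 0 (by norm_num) (ap_zero _), Nat.zero_xor] at t0
  rw [hy 9 (by norm_num) f9] at t9
  have hfx : ∀ n, ap (actW 1) n = n → ap (actW 1) (n ^^^ n0) = n ^^^ n0 := fun n h => by rw [ap_xor, h, hfn0]
  have hlt : ∀ n < 2048, n ^^^ n0 < 2048 := fun n h => Nat.xor_lt_two_pow (n := 11) h hn0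
  have ht : ¬ IsConj z (ev J g vec 2 * k) := by
    intro hz2
    by_cases h0 : InIm (actW 1) n0
    · by_cases h9 : InIm (actW 1) (9 ^^^ n0)
      · have := h9.xor h0
        rw [Nat.xor_assoc, Nat.xor_self, Nat.xor_zero, ← contains_imL hlen, i9] at this
        exact absurd this (by decide)
      · exact t9 ((hout _ (hlt 9 (by norm_num)) (hfx 9 f9) h9).2 hz2)
    · exact t0 ((hout _ hn0 hfn0 h0).2 hz2)
  have h2n0 : InIm (actW 1) (2 ^^^ n0) := by
    by_contra h
    exact ht ((hout _ (hlt 2 (by norm_num)) (hfx 2 f2) h).1 z2)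
  intro a ha hfix
  constructor
  · intro hz
    by_contra hna
    exact ht ((hout a ha hfix hna).1 hz)
  · intro hin
    refine (hK.isConj_move ?_).2 z2
    rw [hm]
    exact hin.xor h2n0

/-- The involutions over a representative with 64 fixed vectors. -/
theorem type_seventeen {k : ↥K} {n0 : ℕ} (hn0 : n0 < 2048)
    (he : (k : G) = ev J g vec n0 * hat z π vec (wC 17)) (hm : hK.mat k = actW 17) (hk : k * k = 1) :
    ∀ a < 2048, ap (actW 17) a = a → (IsConj z (ev J g vec a * k) ↔ (InIm (actW 17) a ↔ IsConj z (k : G))) := by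
  obtain ⟨f3, i3, l0, l3, hcov⟩ := low_two
  have hlen : (actW 17).length = 11 := okL_len (D.actW_eq (i := 17) (by norm_num)).1
  have hfn0 : ap (actW 17) n0 = n0 := by
    have h1 : hat z π vec (wC 17) = ev J g vec n0 * k := by
      rw [he, ← mul_assoc, D.isV.sq _ (D.ev_mem n0), one_mul]
    have h2 := D.hat_wC_sq (i := 17) (by norm_num)
    rw [h1, hK.fixed_iff hn0 hk, hm] at h2
    exact h2
  have z0 := (hK.low_type (i := 17) (n := 0) (by norm_num) (by norm_num)).1 l0
  have t3 := (hK.low_type (i := 17) (n := 3) (by norm_num) (by norm_num)).2 l3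
  have hrel : ∀ n < 2048, ap (actW 17) n = n →
      hat z π vec (wC 17) * ev J g vec n = ev J g vec (n ^^^ n0) * k := by
    intro n hn hfix
    have h1 : hat z π vec (wC 17) * ev J g vec n = ev J g vec n * hat z π vec (wC 17) := by
      have := (D.actW_eq (i := 17) (by norm_num)).2 n hn
      rw [hfix] at this
      exact mul_inv_eq_iff_eq_mul.1 this
    rw [h1, he, D.ev_xor, mul_assoc, ← mul_assoc (ev J g vec n0), D.isV.sq _ (D.ev_mem n0), one_mul]
  rw [hrel 0 (by norm_num) (ap_zero _), Nat.zero_xor] at z0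
  rw [hrel 3 (by norm_num) f3] at t3
  have key : ∀ a < 2048, ap (actW 17) a = a → (IsConj z (ev J g vec a * k) ↔ InIm (actW 17) (a ^^^ n0)) := by
    intro a ha hfix
    have hf : ap (actW 17) (a ^^^ n0) = a ^^^ n0 := by rw [ap_xor, hfix, hfn0]
    constructor
    · intro hz
      by_contra h
      have h' := List.all_eq_true.1 hcov (a ^^^ n0) (List.mem_filter.2
        ⟨List.mem_range.2 (Nat.xor_lt_two_pow (n := 11) ha hn0), by rw [hf]; exact Nat.beq_refl _⟩)
      rw [Bool.or_eq_true, contains_imL hlen, contains_imL hlen] at h'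
      have h'' : InIm (actW 17) ((a ^^^ n0) ^^^ 3) := h'.resolve_left h
      refine t3 ((hK.isConj_move ?_).1 hz)
      rw [hm]
      convert h'' using 1
      show a ^^^ (3 ^^^ n0) = (a ^^^ n0) ^^^ 3
      ac_rfl
    · intro h
      exact (hK.isConj_move (hm ▸ h)).2 z0
  intro a ha hfix
  have h0 := key 0 (by norm_num) (ap_zero _)
  rw [D.ev_zero, one_mul, Nat.zero_xor] at h0
  rw [key a ha hfix, h0]
  by_cases h : InIm (actW 17) n0
  · rw [InIm.iff_xor h]
    exact ⟨fun ha' => iff_of_true ha' h, fun hh => hh.2 h⟩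
  · constructor
    · exact fun hx => iff_of_false (fun ha' => h (by simpa [← Nat.xor_assoc, Nat.xor_self] using ha'.xor hx)) h
    · intro hh
      have h' := List.all_eq_true.1 hcov a (List.mem_filter.2 ⟨List.mem_range.2 ha, by rw [hfix]; exact Nat.beq_refl a⟩)
      have h3 := List.all_eq_true.1 hcov n0 (List.mem_filter.2 ⟨List.mem_range.2 hn0, by rw [hfn0]; exact Nat.beq_refl n0⟩)
      rw [Bool.or_eq_true, contains_imL hlen, contains_imL hlen] at h' h3
      have ha3 := h'.resolve_left fun ha' => h (hh.1 ha')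
      have hn3 := h3.resolve_left h
      have := ha3.xor hn3
      convert this using 1
      show a ^^^ n0 = (a ^^^ 3) ^^^ (n0 ^^^ 3)
      rw [show (a ^^^ 3) ^^^ (n0 ^^^ 3) = (a ^^^ n0) ^^^ (3 ^^^ 3) by ac_rfl, Nat.xor_self, Nat.xor_zero]

/-- An involution of the complement with 128 fixed vectors. -/
theorem two_A {k : ↥K} (hk : k * k = 1) (hk1 : k ≠ 1) (hc : (fixL 11 (hK.mat k)).length = 128) {a : ℕ}
    (ha : a < 2048) (hfix : ap (hK.mat k) a = a) :
    IsConj z (ev J g vec a * k) ↔ InIm (hK.mat k) a := by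
  obtain ⟨c, i, n, hi, hn, he, hm⟩ := hK.exists_rep_conj hk hk1
  have hcnt := hK.fixed_count (k := k) (k' := c * k * c⁻¹) (c := c) rfl
  rw [hc, hm] at hcnt
  rcases hi with rfl | rfl
  · obtain ⟨h1, h2⟩ := hK.move_iff (k := k) (k' := c * k * c⁻¹) (c := c) rfl ha
    rw [← h1, ← h2, hm]
    refine hK.type_one hn he hm ?_ _ (okL_lt (hK.mat_spec c).1 a) ?_
    · rw [show c * k * c⁻¹ * (c * k * c⁻¹) = c * (k * k) * c⁻¹ by group, hk]; group
    · rw [← hm, ← ap_comp, show comp (hK.mat (c * k * c⁻¹)) (hK.mat c) = hK.mat (c * k * c⁻¹ * c) from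
        (hK.rep.mul _ _).symm, inv_mul_cancel_right,
        show hK.mat (c * k) = comp (hK.mat c) (hK.mat k) from hK.rep.mul _ _, ap_comp, hfix]
  · exfalso
    have h64 : (fixL 11 (actW 17)).length = 64 := rep_ok.2.2.2.1
    omega

/-- An involution of the complement with 64 fixed vectors. -/
theorem two_B {k : ↥K} (hk : k * k = 1) (hk1 : k ≠ 1) (hc : (fixL 11 (hK.mat k)).length = 64) {a : ℕ}
    (ha : a < 2048) (hfix : ap (hK.mat k) a = a) :
    IsConj z (ev J g vec a * k) ↔ (InIm (hK.mat k) a ↔ IsConj z (k : G)) := by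
  obtain ⟨c, i, n, hi, hn, he, hm⟩ := hK.exists_rep_conj hk hk1
  have hcnt := hK.fixed_count (k := k) (k' := c * k * c⁻¹) (c := c) rfl
  rw [hc, hm] at hcnt
  rcases hi with rfl | rfl
  · exfalso
    have h128 : (fixL 11 (actW 1)).length = 128 := rep_ok.2.2.1
    omega
  · obtain ⟨h1, h2⟩ := hK.move_iff (k := k) (k' := c * k * c⁻¹) (c := c) rfl ha
    have h0 : IsConj z (((c * k * c⁻¹ : ↥K)) : G) ↔ IsConj z (k : G) := by
      simp only [Subgroup.coe_mul, InvMemClass.coe_inv]; exact isConj_conj_iff _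
    rw [← h1, ← h2, ← h0, hm]
    refine hK.type_seventeen hn he hm ?_ _ (okL_lt (hK.mat_spec c).1 a) ?_
    · rw [show c * k * c⁻¹ * (c * k * c⁻¹) = c * (k * k) * c⁻¹ by group, hk]; group
    · rw [← hm, ← ap_comp, show comp (hK.mat (c * k * c⁻¹)) (hK.mat c) = hK.mat (c * k * c⁻¹ * c) from
        (hK.rep.mul _ _).symm, inv_mul_cancel_right,
        show hK.mat (c * k) = comp (hK.mat c) (hK.mat k) from hK.rep.mul _ _, ap_comp, hfix]

end Comp

end CfsgLib.JFourOrder
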