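import Cfsg.Agent.Lib.JFourOrder.TClassChecks

/-!
# Auxiliary facts for the packed value tables
-/

set_option autoImplicit false
set_option maxRecDepth 100000

namespace CfsgLib.JFourOrder

open CfsgLib.JFour (ap comp id11)

theorem tRepD_all {c : ℕ} (hc : c < 3) : okD 11 (tRep c) = true := by
  interval_cases c
  exacts [tRepD.1, tRepD.2.1, tRepD.2.2]

theorem tKey_canon {c : ℕ} (hc : c < 3) : ∀ i < tN c, pk 11 (getM 11 (tCh c) i) = keyM 11 (tCh c) i := by
  intro i hi
  have h : classOK 11 (tN c) gT (tCh c) (tAux c) (tRep c) = true := by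
    interval_cases c
    exacts [tClass0_ok, tClass1_ok, tClass2_ok]
  simp only [classOK, Bool.and_eq_true, List.all_eq_true, List.mem_range, Nat.beq_eq] at h
  exact (h.2 i hi).2

/-- The same as `totT`, for evaluation in the kernel. -/
noncomputable def totTF (u : ℕ) (e : Bool) : ℕ :=
  valTF (uT u).1 (uT u).2 ((List.range 2048).filter smallBits.testBit) id11 +
    sumL (fun c => sumL (valI (tVl u c e)) (List.range (tN c))) (List.range 3)

theorem totTF_eq {u : ℕ} (hu : u < 6) (e : Bool) : totTF u e = totT u e := by
  have hm : (List.range 2048).filter smallBits.testBit = tMask := by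
    unfold tMask
    exact List.filter_congr fun n hn => beq_iff_eq.1 (List.all_eq_true.1 smallBits_ok n hn)
  have h1 : okD 11 (uT u).2 = true := by interval_cases u <;> decide +kernel
  have h2 : okD 11 id11 = true := by decide +kernel
  rw [totTF, totT, valTF_eq h1 h2, hm]

end CfsgLib.JFourOrder
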